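import Mathlib
import Cfsg.Prelude.Def_PLocal
import Cfsg.Agent.S0649
import Cfsg.Agent.Lib.Helper11.Replacement

set_option autoImplicit false

namespace Cfsg.Agent.Lib.Helper51

open scoped commutatorElement

/-- For an abelian subgroup, `omegaOne` is the set of elements of order dividing `p`. -/
theorem mem_omegaOne_of_comm {G : Type*} [Group G] (p : ℕ) (H : Subgroup G)
    (hH : IsMulCommutative H) (x : G) :
    x ∈ Cfsg.omegaOne p H ↔ x ∈ H ∧ x ^ p = 1 := by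
  constructor
  · intro hx
    unfold Cfsg.omegaOne at hx
    induction hx using Subgroup.closure_induction with
    | mem y hy => exact hy
    | one => exact ⟨one_mem _, one_pow _⟩
    | mul y z _ _ hy hz =>
      refine ⟨mul_mem hy.1 hz.1, ?_⟩
      have hc : Commute y z := setLike_mul_comm hy.1 hz.1
      rw [hc.mul_pow, hy.2, hz.2, one_mul]
    | inv y _ hy => exact ⟨inv_mem hy.1, by rw [inv_pow, hy.2, inv_one]⟩
  · intro hx
    exact Subgroup.subset_closure hx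

theorem omegaOne_mono' {G : Type*} [Group G] (p : ℕ) {H K : Subgroup G} (h : H ≤ K) :
    Cfsg.omegaOne p H ≤ Cfsg.omegaOne p K := by
  unfold Cfsg.omegaOne
  apply Subgroup.closure_mono
  rintro x ⟨hx, hxp⟩
  exact ⟨h hx, hxp⟩

theorem omegaOne_map_of_injective {G H : Type*} [Group G] [Group H] (p : ℕ) (f : G →* H)
    (hf : Function.Injective f) (K : Subgroup G) :
    Cfsg.omegaOne p (K.map f) = (Cfsg.omegaOne p K).map f := by
  unfold Cfsg.omegaOne
  rw [MonoidHom.map_closure]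
  congr 1
  ext x
  constructor
  · rintro ⟨⟨y, hy, rfl⟩, hx⟩
    refine ⟨y, ⟨hy, ?_⟩, rfl⟩
    apply hf
    rw [map_pow, map_one]
    exact hx
  · rintro ⟨y, ⟨hy, hyp⟩, rfl⟩
    refine ⟨⟨y, hy, rfl⟩, ?_⟩
    rw [← map_pow, hyp, map_one]

/-- A coset-counting lemma. -/
theorem card_le_of_coset_map {G : Type*} [Group G] [Finite G] (X Y Z : Subgroup G)
    (hZY : Z ≤ Y) (c : G → G) (hc : ∀ x ∈ X, c x ∈ Y)
    (hinj : ∀ x₁ ∈ X, ∀ x₂ ∈ X, (c x₁)⁻¹ * c x₂ ∈ Z → x₁⁻¹ * x₂ ∈ Z) :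
    Nat.card X ≤ Nat.card Y := by
  classical
  let f : X → Y ⧸ Z.subgroupOf Y := fun x => QuotientGroup.mk ⟨c x, hc x x.2⟩
  have hf : ∀ x₁ x₂ : X, f x₁ = f x₂ → (x₁ : G)⁻¹ * x₂ ∈ Z := by
    intro x₁ x₂ h
    have h1 := QuotientGroup.eq.mp h
    rw [Subgroup.mem_subgroupOf] at h1
    exact hinj _ x₁.2 _ x₂.2 h1
  let r : X → X := fun x => Function.invFun f (f x)
  have hr : ∀ x : X, f (r x) = f x := fun x => Function.invFun_eq ⟨x, rfl⟩
  let g : X → (Y ⧸ Z.subgroupOf Y) × Z :=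
    fun x => (f x, ⟨((r x : X) : G)⁻¹ * x, hf _ _ (hr x)⟩)
  have hg : Function.Injective g := by
    intro x₁ x₂ h
    have h1 : f x₁ = f x₂ := congrArg Prod.fst h
    have h2 : ((r x₁ : X) : G)⁻¹ * x₁ = ((r x₂ : X) : G)⁻¹ * x₂ :=
      congrArg (fun t => ((t.2 : Z) : G)) h
    have h3 : r x₁ = r x₂ := by
      show Function.invFun f (f x₁) = Function.invFun f (f x₂)
      rw [h1]
    rw [h3] at h2
    exact Subtype.ext (mul_left_cancel h2)
  have h1 := Nat.card_le_card_of_injective g hg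
  rw [Nat.card_prod] at h1
  have h2 : Nat.card Y = Nat.card (Y ⧸ Z.subgroupOf Y) * Nat.card (Z.subgroupOf Y) :=
    Subgroup.card_eq_card_quotient_mul_card_subgroup _
  have h3 : Nat.card (Z.subgroupOf Y) = Nat.card Z := Helper11.card_subgroupOf_of_le hZY
  rw [h2, h3]
  exact h1

/-- Glauberman's replacement theorem for odd `p`, with `B` normal: all conclusions including
the normal closure and the rank statement. -/
theorem glauberman_repl_odd {S : Type*} [Group S] [Finite S] {p : ℕ} [Fact p.Prime] (hp : p ≠ 2)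
    (hS : IsPGroup p S) (A B : Subgroup S) [hB : B.Normal] (hA : IsMulCommutative A)
    (hBA : ⁅B, B⁆ ≤ A) (hnot : ¬ B ≤ Subgroup.normalizer (A : Set S)) :
    ∃ Astar : Subgroup S, IsMulCommutative Astar ∧ Nat.card Astar = Nat.card A ∧
      A ⊓ B < Astar ⊓ B ∧ Astar ≤ Subgroup.normalizer (A : Set S) ∧
      Astar ≤ Subgroup.normalClosure (A : Set S) ∧
      Monoid.exponent Astar ∣ Monoid.exponent A ∧
      Nat.card (Cfsg.omegaOne p A) ≤ Nat.card (Cfsg.omegaOne p Astar) := by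
  have hpP : p.Prime := Fact.out
  have hB2 : p = 2 → IsMulCommutative B := fun h => absurd h hp
  obtain ⟨b, hb, hbN, hbA⟩ := Cfsg.Agent.S0649.result hS B hB2 A hA hBA hnot
  obtain ⟨h1, h2, h3, h4, h5, h6, h7, h8⟩ := Helper11.repl_basic A B b hA hBA hb hbN
  obtain ⟨g1, g2, g3, g4, g5, g6⟩ := Helper11.repl_gen A B b hA hBA hb hbN
  obtain ⟨r1, r2, r3, r4, r5, r6, r7, r8, r9, r10⟩ :=
    Helper11.repl_main A B b hS hB2 hA hBA hnot hb hbN hbA
  have hAc : ∀ x ∈ A, ∀ y ∈ A, x * y = y * x := fun x hx y hy => setLike_mul_comm hx hy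
  have hDc : IsMulCommutative ↥(A ⊓ Helper11.conjB A b) := by
    apply IsMulCommutative.of_setLike_mul_comm
    intro x hx y hy
    exact hAc x (Subgroup.mem_inf.mp hx).1 y (Subgroup.mem_inf.mp hy).1
  have hDle : A ⊓ Helper11.conjB A b ≤ Helper11.starB A b := le_sup_left
  have hCle : Helper11.genC A b ≤ Helper11.starB A b := le_sup_right
  refine ⟨Helper11.starB A b, r2, r1, r4, r7, ?_, r10 hp, ?_⟩
  · -- normal closure
    unfold Helper11.starB
    apply sup_le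
    · exact inf_le_left.trans Subgroup.le_normalClosure
    · unfold Helper11.genC
      rw [Subgroup.closure_le]
      rintro g ⟨a, ha, rfl⟩
      have ha' : a ∈ Subgroup.normalClosure (A : Set S) := Subgroup.le_normalClosure ha
      have h := Subgroup.normalClosure_normal.conj_mem a⁻¹ (inv_mem ha') b⁻¹
      rw [inv_inv] at h
      have e : a * b⁻¹ * a⁻¹ * b = a * (b⁻¹ * a⁻¹ * b) := by group
      rw [e]
      exact mul_mem ha' h
  · -- the rank statement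
    refine card_le_of_coset_map (Cfsg.omegaOne p A) (Cfsg.omegaOne p (Helper11.starB A b))
      (Cfsg.omegaOne p (A ⊓ Helper11.conjB A b)) (omegaOne_mono' p hDle)
      (fun a => a * b⁻¹ * a⁻¹ * b) ?_ ?_
    · intro a ha
      rw [mem_omegaOne_of_comm p A hA] at ha
      obtain ⟨haA, hap⟩ := ha
      rw [mem_omegaOne_of_comm p _ r2]
      refine ⟨hCle (Subgroup.subset_closure ⟨a, haA, rfl⟩), ?_⟩
      have hxc : b⁻¹ * a⁻¹ * b ∈ Helper11.conjB A b := by
        rw [Helper11.mem_conjB]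
        have e : b * (b⁻¹ * a⁻¹ * b) * b⁻¹ = a⁻¹ := by group
        rw [e]
        exact A.inv_mem haA
      have hxp : (b⁻¹ * a⁻¹ * b) ^ p = 1 := by
        have e : b⁻¹ * a⁻¹ * b = (MulAut.conj b⁻¹) a⁻¹ := by
          simp
        rw [e, ← map_pow, inv_pow, hap, inv_one, map_one]
      have hzD := h4 a haA _ hxc
      have hz : (b⁻¹ * a⁻¹ * b) * a = ⁅b⁻¹ * a⁻¹ * b, a⁆ * a * (b⁻¹ * a⁻¹ * b) := by
        simp only [commutatorElement_def]
        group
      have hza : ⁅b⁻¹ * a⁻¹ * b, a⁆ * a = a * ⁅b⁻¹ * a⁻¹ * b, a⁆ :=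
        hAc _ (Subgroup.mem_inf.mp hzD).1 a haA
      have hzx : ⁅b⁻¹ * a⁻¹ * b, a⁆ * (b⁻¹ * a⁻¹ * b) = (b⁻¹ * a⁻¹ * b) * ⁅b⁻¹ * a⁻¹ * b, a⁆ :=
        h3 _ (Subgroup.mem_inf.mp hzD).2 _ hxc
      have hpow := Helper11.mul_pow_class_two a (b⁻¹ * a⁻¹ * b) _ hz hza hzx p
      have hcomm := Helper11.pow_comm_aux a (b⁻¹ * a⁻¹ * b) _ hz hzx p
      rw [hxp, one_mul, mul_one] at hcomm
      have hzp : ⁅b⁻¹ * a⁻¹ * b, a⁆ ^ p = 1 := by
        have := mul_right_cancel (b := a) (a := 1) (c := ⁅b⁻¹ * a⁻¹ * b, a⁆ ^ p)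
          (by rw [one_mul]; exact hcomm)
        exact this.symm
      have hdvd : p ∣ p.choose 2 := by
        apply hpP.dvd_choose_self (by norm_num)
        have := hpP.two_le
        omega
      obtain ⟨k, hk⟩ := hdvd
      have e : a * b⁻¹ * a⁻¹ * b = a * (b⁻¹ * a⁻¹ * b) := by group
      rw [e, hpow, hk, pow_mul, hzp, one_pow, hap, hxp]
      simp
    · intro x₁ hx₁ x₂ hx₂ hmem
      have hx₁' := (mem_omegaOne_of_comm p A hA x₁).mp hx₁
      have hx₂' := (mem_omegaOne_of_comm p A hA x₂).mp hx₂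
      have hx₁₂ := (mem_omegaOne_of_comm p A hA _).mp (mul_mem (inv_mem hx₁) hx₂)
      rw [mem_omegaOne_of_comm p _ hDc] at hmem ⊢
      refine ⟨?_, hx₁₂.2⟩
      obtain ⟨d, hd, hdeq⟩ := g4 x₁ hx₁'.1 (x₁⁻¹ * x₂) hx₁₂.1
      have e1 : x₁ * (x₁⁻¹ * x₂) = x₂ := by group
      rw [e1] at hdeq
      have hcomm := g3 x₁ hx₁'.1 d hd
      have e2 : (x₁⁻¹ * x₂) * b⁻¹ * (x₁⁻¹ * x₂)⁻¹ * b =
          d * ((x₁ * b⁻¹ * x₁⁻¹ * b)⁻¹ * (x₂ * b⁻¹ * x₂⁻¹ * b)) := by
        have e3 : (x₁⁻¹ * x₂) * b⁻¹ * (x₁⁻¹ * x₂)⁻¹ * b =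
            (x₁ * b⁻¹ * x₁⁻¹ * b)⁻¹ * (d * (x₂ * b⁻¹ * x₂⁻¹ * b)) := by
          rw [← hdeq]
          group
        have e4 : (x₁ * b⁻¹ * x₁⁻¹ * b)⁻¹ * d = d * (x₁ * b⁻¹ * x₁⁻¹ * b)⁻¹ := by
          rw [inv_mul_eq_iff_eq_mul, ← mul_assoc, ← hcomm, mul_assoc, mul_inv_cancel, mul_one]
        rw [e3, ← mul_assoc, e4, mul_assoc]
      have hcD : (x₁⁻¹ * x₂) * b⁻¹ * (x₁⁻¹ * x₂)⁻¹ * b ∈ A ⊓ Helper11.conjB A b := by
        rw [e2]
        exact mul_mem hd hmem.1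
      exact (g5 _ hx₁₂.1).mp hcD

/-- Glauberman's replacement theorem for odd `p`, where `A` only normalizes `B`. -/
theorem glauberman_repl_odd_normalizing {G : Type*} [Group G] [Finite G] {p : ℕ} [Fact p.Prime]
    (hp : p ≠ 2) (hG : IsPGroup p G) (A B : Subgroup G) (hA : IsMulCommutative A)
    (hBA : ⁅B, B⁆ ≤ A) (hAB : A ≤ Subgroup.normalizer (B : Set G))
    (hBnA : ¬ B ≤ Subgroup.normalizer (A : Set G)) :
    ∃ Astar : Subgroup G, IsMulCommutative Astar ∧ Nat.card Astar = Nat.card A ∧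
      A ⊓ B < Astar ⊓ B ∧ Astar ≤ Subgroup.normalizer (A : Set G) ∧
      Astar ≤ Subgroup.normalClosure (A : Set G) ∧
      Monoid.exponent Astar ∣ Monoid.exponent A ∧
      Nat.card (Cfsg.omegaOne p A) ≤ Nat.card (Cfsg.omegaOne p Astar) := by
  have hAT : A ≤ A ⊔ B := le_sup_left
  have hBT : B ≤ A ⊔ B := le_sup_right
  have hinj : Function.Injective (A ⊔ B).subtype := (A ⊔ B).subtype_injective
  have hBn : (B.subgroupOf (A ⊔ B)).Normal :=
    (Subgroup.normal_subgroupOf_iff_le_normalizer hBT).mpr (sup_le hAB Subgroup.le_normalizer)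
  have hTp : IsPGroup p ↥(A ⊔ B) := hG.to_subgroup _
  have hA' : IsMulCommutative ↥(A.subgroupOf (A ⊔ B)) := by
    apply IsMulCommutative.of_setLike_mul_comm
    intro x hx y hy
    apply Subtype.ext
    exact setLike_mul_comm (Subgroup.mem_subgroupOf.mp hx) (Subgroup.mem_subgroupOf.mp hy)
  have eA : (A.subgroupOf (A ⊔ B)).map (A ⊔ B).subtype = A :=
    Subgroup.map_subgroupOf_eq_of_le hAT
  have eB : (B.subgroupOf (A ⊔ B)).map (A ⊔ B).subtype = B :=
    Subgroup.map_subgroupOf_eq_of_le hBT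
  have hBA' : ⁅B.subgroupOf (A ⊔ B), B.subgroupOf (A ⊔ B)⁆ ≤ A.subgroupOf (A ⊔ B) := by
    have h1 : (⁅B.subgroupOf (A ⊔ B), B.subgroupOf (A ⊔ B)⁆).map (A ⊔ B).subtype ≤ A := by
      rw [Subgroup.map_commutator, eB]
      exact hBA
    exact Subgroup.map_le_iff_le_comap.mp h1
  have hnot' : ¬ B.subgroupOf (A ⊔ B) ≤
      Subgroup.normalizer ((A.subgroupOf (A ⊔ B) : Subgroup ↥(A ⊔ B)) : Set ↥(A ⊔ B)) := by
    intro hle
    apply hBnA
    intro x hx
    have h1 : (⟨x, hBT hx⟩ : ↥(A ⊔ B)) ∈ B.subgroupOf (A ⊔ B) := Subgroup.mem_subgroupOf.mpr hx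
    have h2 := hle h1
    rw [← Subgroup.subgroupOf_normalizer_eq hAT, Subgroup.mem_subgroupOf] at h2
    exact h2
  obtain ⟨As, c1, c2, c3, c4, c5, c6, c7⟩ :=
    glauberman_repl_odd hp hTp (A.subgroupOf (A ⊔ B)) (B.subgroupOf (A ⊔ B)) hA' hBA' hnot'
  refine ⟨As.map (A ⊔ B).subtype, inferInstance, ?_, ?_, ?_, ?_, ?_, ?_⟩
  · rw [Subgroup.card_map_of_injective hinj, c2, Helper11.card_subgroupOf_of_le hAT]
  · have h1 := (Subgroup.map_lt_map_iff_of_injective hinj).mpr c3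
    rwa [Subgroup.map_inf _ _ _ hinj, Subgroup.map_inf _ _ _ hinj, eA, eB] at h1
  · rw [← Subgroup.subgroupOf_normalizer_eq hAT] at c4
    exact Subgroup.map_le_iff_le_comap.mpr c4
  · have hn : ((Subgroup.normalClosure (A : Set G)).comap (A ⊔ B).subtype).Normal :=
      Subgroup.normalClosure_normal.comap _
    have h1 : Subgroup.normalClosure ((A.subgroupOf (A ⊔ B) : Subgroup ↥(A ⊔ B)) : Set ↥(A ⊔ B)) ≤
        (Subgroup.normalClosure (A : Set G)).comap (A ⊔ B).subtype := by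
      apply Subgroup.normalClosure_le_normal
      intro x hx
      exact Subgroup.le_normalClosure (Subgroup.mem_subgroupOf.mp hx)
    exact Subgroup.map_le_iff_le_comap.mpr (c5.trans h1)
  · apply Monoid.exponent_dvd_of_forall_pow_eq_one
    rintro ⟨_, y, hy, rfl⟩
    apply Subtype.ext
    have h1 : y ^ Monoid.exponent ↥(A.subgroupOf (A ⊔ B)) = 1 := by
      obtain ⟨k, hk⟩ := c6
      have h2 : (⟨y, hy⟩ : ↥As) ^ Monoid.exponent ↥As = 1 := Monoid.pow_exponent_eq_one _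
      have h3 : y ^ Monoid.exponent ↥As = 1 := congrArg Subtype.val h2
      rw [hk, pow_mul, h3, one_pow]
    have h4 : Monoid.exponent ↥(A.subgroupOf (A ⊔ B)) ∣ Monoid.exponent ↥A := by
      apply Monoid.exponent_dvd_of_forall_pow_eq_one
      intro z
      have hz : ((z : ↥(A ⊔ B)) : G) ∈ A := Subgroup.mem_subgroupOf.mp z.2
      have h5 : (⟨((z : ↥(A ⊔ B)) : G), hz⟩ : ↥A) ^ Monoid.exponent ↥A = 1 :=
        Monoid.pow_exponent_eq_one _
      have h6 : ((z : ↥(A ⊔ B)) : G) ^ Monoid.exponent ↥A = 1 := congrArg Subtype.val h5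
      apply Subtype.ext
      apply Subtype.ext
      exact h6
    obtain ⟨k, hk⟩ := h4
    show ((A ⊔ B).subtype y) ^ Monoid.exponent ↥A = 1
    rw [← map_pow, hk, pow_mul, h1, one_pow, map_one]
  · have e1 : Cfsg.omegaOne p A = (Cfsg.omegaOne p (A.subgroupOf (A ⊔ B))).map (A ⊔ B).subtype := by
      rw [← omegaOne_map_of_injective p _ hinj, eA]
    rw [e1, omegaOne_map_of_injective p _ hinj, Subgroup.card_map_of_injective hinj,
      Subgroup.card_map_of_injective hinj]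
    exact c7

end Cfsg.Agent.Lib.Helper51
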