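import Mathlib
import Cfsg.Prelude.Def_DStar

set_option autoImplicit false

namespace Cfsg.Agent.Lib.Helper51

open scoped commutatorElement

/-- If all commutators of generators commute with all generators, the generated subgroup has
class at most two. -/
theorem class_two_of_gens {G : Type*} [Group G] (X : Set G)
    (h : ∀ x ∈ X, ∀ y ∈ X, ∀ z ∈ X, ⁅x, y⁆ * z = z * ⁅x, y⁆) :
    ⁅⁅Subgroup.closure X, Subgroup.closure X⁆, Subgroup.closure X⁆ = ⊥ := by
  rw [Subgroup.commutator_eq_bot_iff_le_centralizer, Subgroup.commutator_le]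
  have hgen : ∀ x ∈ X, ∀ y ∈ X, ⁅x, y⁆ ∈ Subgroup.centralizer (Subgroup.closure X : Set G) := by
    intro x hx y hy
    have h1 : Subgroup.closure X ≤ Subgroup.centralizer {⁅x, y⁆} := by
      rw [Subgroup.closure_le]
      intro z hz
      rw [SetLike.mem_coe, Subgroup.mem_centralizer_iff]
      intro w hw
      rw [Set.mem_singleton_iff] at hw
      subst hw
      exact h x hx y hy z hz
    intro z hz
    have h2 := h1 hz
    rw [Subgroup.mem_centralizer_iff] at h2
    exact (h2 _ rfl).symm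
  intro g₁ hg₁ g₂ hg₂
  induction hg₁, hg₂ using Subgroup.closure_induction₂ with
  | mem x y hx hy => exact hgen x hx y hy
  | one_left x hx => simp
  | one_right x hx => simp
  | mul_left x y z hx hy hz h1 h2 =>
    have e : ⁅x * y, z⁆ = (x * ⁅y, z⁆ * x⁻¹) * ⁅x, z⁆ := by
      simp only [commutatorElement_def]; group
    have e2 : x * ⁅y, z⁆ * x⁻¹ = ⁅y, z⁆ := by
      have h3 := (Subgroup.mem_centralizer_iff.mp h2) x hx
      rw [h3]; group
    rw [e, e2]
    exact mul_mem h2 h1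
  | mul_right y z x hy hz hx h1 h2 =>
    have e : ⁅x, y * z⁆ = ⁅x, y⁆ * (y * ⁅x, z⁆ * y⁻¹) := by
      simp only [commutatorElement_def]; group
    have e2 : y * ⁅x, z⁆ * y⁻¹ = ⁅x, z⁆ := by
      have h3 := (Subgroup.mem_centralizer_iff.mp h2) y hy
      rw [h3]; group
    rw [e, e2]
    exact mul_mem h1 h2
  | inv_left x y hx hy h1 =>
    have e : ⁅x⁻¹, y⁆ = x⁻¹ * ⁅x, y⁆⁻¹ * x := by
      simp only [commutatorElement_def]; group
    have e2 : x⁻¹ * ⁅x, y⁆⁻¹ * x = ⁅x, y⁆⁻¹ := by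
      have h3 := (Subgroup.mem_centralizer_iff.mp (inv_mem h1)) x hx
      rw [mul_assoc, ← h3]; group
    rw [e, e2]
    exact inv_mem h1
  | inv_right x y hx hy h1 =>
    have e : ⁅x, y⁻¹⁆ = y⁻¹ * ⁅x, y⁆⁻¹ * y := by
      simp only [commutatorElement_def]; group
    have e2 : y⁻¹ * ⁅x, y⁆⁻¹ * y = ⁅x, y⁆⁻¹ := by
      have h3 := (Subgroup.mem_centralizer_iff.mp (inv_mem h1)) y hy
      rw [mul_assoc, ← h3]; group
    rw [e, e2]
    exact inv_mem h1

/-- The family behind `dStar` is invariant under automorphisms. -/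
theorem dStarFamily_map {S : Type*} [Group S] (φ : S ≃* S) {A : Subgroup S}
    (hA : A ∈ Cfsg.dStarFamily S) : A.map φ.toMonoidHom ∈ Cfsg.dStarFamily S := by
  obtain ⟨hc, hA2⟩ := hA
  refine ⟨inferInstance, ?_⟩
  intro x hx a ha
  obtain ⟨a', ha', rfl⟩ := ha
  have e1 : (A ⊔ Subgroup.zpowers (φ.symm x)).map φ.toMonoidHom =
      A.map φ.toMonoidHom ⊔ Subgroup.zpowers x := by
    rw [Subgroup.map_sup, MonoidHom.map_zpowers]
    simp
  have e2 : (⁅⁅A ⊔ Subgroup.zpowers (φ.symm x), A ⊔ Subgroup.zpowers (φ.symm x)⁆,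
      A ⊔ Subgroup.zpowers (φ.symm x)⁆).map φ.toMonoidHom = ⊥ := by
    rw [Subgroup.map_commutator, Subgroup.map_commutator, e1, hx]
  have e3 : ⁅⁅A ⊔ Subgroup.zpowers (φ.symm x), A ⊔ Subgroup.zpowers (φ.symm x)⁆,
      A ⊔ Subgroup.zpowers (φ.symm x)⁆ = ⊥ :=
    (Subgroup.map_eq_bot_iff_of_injective _ φ.injective).mp e2
  have e4 := hA2 (φ.symm x) e3 a' ha'
  have e5 := congrArg φ e4
  simpa using e5

/-- Conjugates of members of the family are members. -/
theorem dStarFamily_conj {S : Type*} [Group S] (t : S) {A : Subgroup S}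
    (hA : A ∈ Cfsg.dStarFamily S) : A.map (MulAut.conj t).toMonoidHom ∈ Cfsg.dStarFamily S :=
  dStarFamily_map (MulAut.conj t) hA

theorem card_lt_of_le_of_ne {G : Type*} [Group G] [Finite G] {K T : Subgroup G} (h : K ≤ T)
    (hne : K ≠ T) : Nat.card K < Nat.card T :=
  lt_of_le_of_ne (Subgroup.card_le_of_le h)
    (fun heq => hne (Subgroup.eq_of_le_of_card_ge h heq.ge))

/-- In a finite `p`-group, a proper subgroup `A` of `T` lies in a proper subgroup `M` of `T`
normalized by `T`. -/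
theorem exists_normal_proper_ge {S : Type*} [Group S] [Finite S] {p : ℕ} [Fact p.Prime]
    (hS : IsPGroup p S) {A T : Subgroup S} (hAT : A ≤ T) (hne : A ≠ T) :
    ∃ M : Subgroup S, A ≤ M ∧ M ≤ T ∧ M ≠ T ∧ ∀ t ∈ T, ∀ m ∈ M, t * m * t⁻¹ ∈ M := by
  have : Group.IsNilpotent T := (hS.to_subgroup T).isNilpotent
  have hA' : A.subgroupOf T ≠ ⊤ := by
    intro h
    rw [Subgroup.subgroupOf_eq_top] at h
    exact hne (le_antisymm hAT h)
  obtain ⟨M', hM', hAM'⟩ := (eq_top_or_exists_le_coatom (A.subgroupOf T)).resolve_left hA'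
  have hn : M'.Normal :=
    Subgroup.NormalizerCondition.normal_of_coatom M' Group.normalizerCondition_of_isNilpotent hM'
  refine ⟨M'.map T.subtype, ?_, ?_, ?_, ?_⟩
  · intro a ha
    exact ⟨⟨a, hAT ha⟩, hAM' (by simpa [Subgroup.mem_subgroupOf] using ha), rfl⟩
  · rintro _ ⟨m, _, rfl⟩
    exact m.2
  · intro h
    apply hM'.1
    rw [eq_top_iff]
    intro x _
    have hx : (x : S) ∈ M'.map T.subtype := by rw [h]; exact x.2
    obtain ⟨m, hm, hmx⟩ := hx
    have : m = x := Subtype.ext hmx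
    rwa [← this]
  · rintro t ht _ ⟨m, hm, rfl⟩
    exact ⟨⟨t, ht⟩ * m * ⟨t, ht⟩⁻¹, hn.conj_mem m hm ⟨t, ht⟩, rfl⟩

/-- Any two members of the family commute elementwise (finite `p`-groups). -/
theorem dStarFamily_commute {S : Type*} [Group S] [Finite S] {p : ℕ} [Fact p.Prime]
    (hS : IsPGroup p S) :
    ∀ (n : ℕ) (A B : Subgroup S), A ∈ Cfsg.dStarFamily S → B ∈ Cfsg.dStarFamily S →
      Nat.card ↥(A ⊔ B) ≤ n → ∀ a ∈ A, ∀ b ∈ B, a * b = b * a := by
  intro n
  induction n using Nat.strong_induction_on with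
  | _ n ih =>
    intro A B hA hB hn a ha b hb
    have hAc : IsMulCommutative A := hA.1
    have hBc : IsMulCommutative B := hB.1
    by_cases hAT : A = A ⊔ B
    · have hbA : b ∈ A := by rw [hAT]; exact (le_sup_right : B ≤ A ⊔ B) hb
      exact setLike_mul_comm ha hbA
    by_cases hBT : B = A ⊔ B
    · have haB : a ∈ B := by rw [hBT]; exact (le_sup_left : A ≤ A ⊔ B) ha
      exact setLike_mul_comm haB hb
    -- conjugates of `A` by elements of `T = A ⊔ B` commute with `A`
    have key : ∀ (C : Subgroup S), C ∈ Cfsg.dStarFamily S → C ≤ A ⊔ B → C ≠ A ⊔ B →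
        ∀ t ∈ A ⊔ B, ∀ c ∈ C, ∀ c' ∈ C, c * (t * c' * t⁻¹) = (t * c' * t⁻¹) * c := by
      intro C hC hCT hCne t ht c hc c' hc'
      obtain ⟨M, hCM, hMT, hMne, hMn⟩ := exists_normal_proper_ge hS hCT hCne
      have hCt : C.map (MulAut.conj t).toMonoidHom ≤ M := by
        rintro _ ⟨c'', hc'', rfl⟩
        exact hMn t ht c'' (hCM hc'')
      have hle : C ⊔ C.map (MulAut.conj t).toMonoidHom ≤ M := sup_le hCM hCt
      have hlt : Nat.card ↥(C ⊔ C.map (MulAut.conj t).toMonoidHom) < n :=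
        lt_of_le_of_lt (Subgroup.card_le_of_le hle)
          (lt_of_lt_of_le (card_lt_of_le_of_ne hMT hMne) hn)
      exact ih _ hlt C _ hC (dStarFamily_conj t hC) le_rfl c hc (t * c' * t⁻¹)
        ⟨c', hc', rfl⟩
    have keyA := key A hA le_sup_left hAT
    have keyB := key B hB le_sup_right hBT
    have hAB : ∀ x ∈ A, ∀ y ∈ B, ∀ z ∈ ((A : Set S) ∪ B), ⁅x, y⁆ * z = z * ⁅x, y⁆ := by
      intro x hx y hy z hz
      have hyT : y ∈ A ⊔ B := (le_sup_right : B ≤ A ⊔ B) hy
      have hxT : x ∈ A ⊔ B := (le_sup_left : A ≤ A ⊔ B) hx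
      rcases hz with hz | hz
      · -- z ∈ A
        have e : ⁅x, y⁆ = x * (y * x⁻¹ * y⁻¹) := by
          simp only [commutatorElement_def]; group
        have c1 : z * x = x * z := setLike_mul_comm hz hx
        have c2 := keyA y hyT z hz x⁻¹ (inv_mem hx)
        rw [e]
        calc x * (y * x⁻¹ * y⁻¹) * z = x * ((y * x⁻¹ * y⁻¹) * z) := mul_assoc _ _ _
          _ = x * (z * (y * x⁻¹ * y⁻¹)) := by rw [c2]
          _ = (x * z) * (y * x⁻¹ * y⁻¹) := (mul_assoc _ _ _).symm
          _ = (z * x) * (y * x⁻¹ * y⁻¹) := by rw [c1]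
          _ = z * (x * (y * x⁻¹ * y⁻¹)) := mul_assoc _ _ _
      · -- z ∈ B
        have e : ⁅x, y⁆ = (x * y * x⁻¹) * y⁻¹ := by
          simp only [commutatorElement_def]
        have c1 : z * y⁻¹ = y⁻¹ * z := setLike_mul_comm hz (inv_mem hy)
        have c2 := keyB x hxT z hz y hy
        rw [e]
        calc x * y * x⁻¹ * y⁻¹ * z = (x * y * x⁻¹) * (y⁻¹ * z) := mul_assoc _ _ _
          _ = (x * y * x⁻¹) * (z * y⁻¹) := by rw [c1]
          _ = ((x * y * x⁻¹) * z) * y⁻¹ := (mul_assoc _ _ _).symm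
          _ = (z * (x * y * x⁻¹)) * y⁻¹ := by rw [c2]
          _ = z * (x * y * x⁻¹ * y⁻¹) := mul_assoc _ _ _
    have hcl : ⁅⁅A ⊔ B, A ⊔ B⁆, A ⊔ B⁆ = ⊥ := by
      have hX : Subgroup.closure ((A : Set S) ∪ B) = A ⊔ B := by
        rw [Subgroup.closure_union, Subgroup.closure_eq, Subgroup.closure_eq]
      rw [← hX]
      apply class_two_of_gens
      intro x hx y hy z hz
      rcases hx with hx | hx <;> rcases hy with hy | hy
      · have : ⁅x, y⁆ = 1 := by
          rw [commutatorElement_eq_one_iff_mul_comm]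
          exact setLike_mul_comm hx hy
        rw [this]; simp
      · exact hAB x hx y hy z hz
      · have e : ⁅x, y⁆ = ⁅y, x⁆⁻¹ := (commutatorElement_inv y x).symm
        have h1 := hAB y hy x hx z hz
        rw [e]
        have h2 : z * ⁅y, x⁆⁻¹ = ⁅y, x⁆⁻¹ * z := by
          rw [eq_inv_mul_iff_mul_eq, ← mul_assoc, h1, mul_assoc, mul_inv_cancel, mul_one]
        exact h2.symm
      · have : ⁅x, y⁆ = 1 := by
          rw [commutatorElement_eq_one_iff_mul_comm]
          exact setLike_mul_comm hx hy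
        rw [this]; simp
    have hb' : ⁅⁅A ⊔ Subgroup.zpowers b, A ⊔ Subgroup.zpowers b⁆, A ⊔ Subgroup.zpowers b⁆ = ⊥ := by
      have hle : A ⊔ Subgroup.zpowers b ≤ A ⊔ B :=
        sup_le le_sup_left ((Subgroup.zpowers_le.mpr hb).trans le_sup_right)
      rw [eq_bot_iff, ← hcl]
      exact Subgroup.commutator_mono (Subgroup.commutator_mono hle hle) hle
    exact hA.2 b hb' a ha

/-- `D*(S)` is a member of its defining family, for a finite `p`-group `S`. -/
theorem dStar_mem_dStarFamily {S : Type*} [Group S] [Finite S] {p : ℕ} [Fact p.Prime]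
    (hS : IsPGroup p S) : Cfsg.dStar S ∈ Cfsg.dStarFamily S := by
  have hcomm : ∀ A ∈ Cfsg.dStarFamily S, ∀ B ∈ Cfsg.dStarFamily S,
      A ≤ Subgroup.centralizer (B : Set S) := by
    intro A hA B hB a ha b hb
    exact (dStarFamily_commute hS _ A B hA hB le_rfl a ha b hb).symm
  constructor
  · rw [← Subgroup.le_centralizer_iff_isMulCommutative]
    unfold Cfsg.dStar
    apply sSup_le
    intro A hA
    rw [Subgroup.le_centralizer_iff]
    apply sSup_le
    intro B hB
    exact hcomm B hB A hA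
  · intro x hx
    have hle : Cfsg.dStar S ≤ Subgroup.centralizer {x} := by
      unfold Cfsg.dStar
      apply sSup_le
      intro A hA a ha
      have hAD : A ≤ Cfsg.dStar S := le_sSup hA
      have hle : A ⊔ Subgroup.zpowers x ≤ Cfsg.dStar S ⊔ Subgroup.zpowers x :=
        sup_le_sup_right hAD _
      have hx' : ⁅⁅A ⊔ Subgroup.zpowers x, A ⊔ Subgroup.zpowers x⁆, A ⊔ Subgroup.zpowers x⁆ = ⊥ := by
        rw [eq_bot_iff, ← hx]
        exact Subgroup.commutator_mono (Subgroup.commutator_mono hle hle) hle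
      rw [Subgroup.mem_centralizer_iff]
      intro y hy
      rw [Set.mem_singleton_iff] at hy
      subst hy
      exact (hA.2 y hx' a ha).symm
    intro a ha
    have := hle ha
    rw [Subgroup.mem_centralizer_iff] at this
    exact (this x rfl).symm

end Cfsg.Agent.Lib.Helper51
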