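import Mathlib
import Cfsg.Prelude.Def_DStar
import Cfsg.Agent.Lib.Helper51.DStar
import Cfsg.Agent.Lib.Helper51.CD

set_option autoImplicit false

namespace Cfsg.Agent.Lib.Helper51

open scoped commutatorElement

/-- The family behind `dStarOf R`, described inside the ambient group. -/
def famOf {G : Type*} [Group G] (R : Subgroup G) : Set (Subgroup G) :=
  {A | A ≤ R ∧ IsMulCommutative A ∧ ∀ x ∈ R,
    ⁅⁅A ⊔ Subgroup.zpowers x, A ⊔ Subgroup.zpowers x⁆, A ⊔ Subgroup.zpowers x⁆ = ⊥ →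
      ∀ a ∈ A, a * x = x * a}

theorem map_subtype_mem_famOf {G : Type*} [Group G] (R : Subgroup G) {A' : Subgroup ↥R}
    (hA' : A' ∈ Cfsg.dStarFamily ↥R) : A'.map R.subtype ∈ famOf R := by
  obtain ⟨hc, hA2⟩ := hA'
  refine ⟨Subgroup.map_subtype_le A', inferInstance, ?_⟩
  intro x hx htriv a ha
  obtain ⟨a', ha', rfl⟩ := ha
  have e1 : (A' ⊔ Subgroup.zpowers (⟨x, hx⟩ : ↥R)).map R.subtype =
      A'.map R.subtype ⊔ Subgroup.zpowers x := by
    rw [Subgroup.map_sup, MonoidHom.map_zpowers]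
    rfl
  have e2 : (⁅⁅A' ⊔ Subgroup.zpowers (⟨x, hx⟩ : ↥R), A' ⊔ Subgroup.zpowers (⟨x, hx⟩ : ↥R)⁆,
      A' ⊔ Subgroup.zpowers (⟨x, hx⟩ : ↥R)⁆).map R.subtype = ⊥ := by
    rw [Subgroup.map_commutator, Subgroup.map_commutator, e1, htriv]
  have e3 := (Subgroup.map_eq_bot_iff_of_injective _ R.subtype_injective).mp e2
  have e4 := hA2 ⟨x, hx⟩ e3 a' ha'
  exact congrArg Subtype.val e4

theorem subgroupOf_mem_dStarFamily {G : Type*} [Group G] (R : Subgroup G) {A : Subgroup G}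
    (hA : A ∈ famOf R) : A.subgroupOf R ∈ Cfsg.dStarFamily ↥R := by
  obtain ⟨hAR, hc, hA2⟩ := hA
  refine ⟨?_, ?_⟩
  · apply IsMulCommutative.of_setLike_mul_comm
    intro a ha b hb
    apply Subtype.ext
    exact setLike_mul_comm (Subgroup.mem_subgroupOf.mp ha) (Subgroup.mem_subgroupOf.mp hb)
  · intro x htriv a ha
    have e1 : (A.subgroupOf R ⊔ Subgroup.zpowers x).map R.subtype =
        A ⊔ Subgroup.zpowers (x : G) := by
      rw [Subgroup.map_sup, MonoidHom.map_zpowers, Subgroup.map_subgroupOf_eq_of_le hAR]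
      rfl
    have e2 : ⁅⁅A ⊔ Subgroup.zpowers (x : G), A ⊔ Subgroup.zpowers (x : G)⁆,
        A ⊔ Subgroup.zpowers (x : G)⁆ = ⊥ := by
      rw [← e1, ← Subgroup.map_commutator, ← Subgroup.map_commutator, htriv, Subgroup.map_bot]
    have e3 := hA2 (x : G) x.2 e2 (a : G) (Subgroup.mem_subgroupOf.mp ha)
    exact Subtype.ext e3

/-- `D*(R)` (inside the ambient group) belongs to its family, for a finite `p`-subgroup `R`. -/
theorem dStarOf_mem_famOf {G : Type*} [Group G] [Finite G] {p : ℕ} [Fact p.Prime]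
    (R : Subgroup G) (hR : IsPGroup p ↥R) : Cfsg.dStarOf R ∈ famOf R :=
  map_subtype_mem_famOf R (dStar_mem_dStarFamily hR)

/-- Every member of the family lies in `D*(R)`. -/
theorem le_dStarOf {G : Type*} [Group G] (R : Subgroup G) {A : Subgroup G} (hA : A ∈ famOf R) :
    A ≤ Cfsg.dStarOf R := by
  have h := subgroupOf_mem_dStarFamily R hA
  have h2 : A.subgroupOf R ≤ Cfsg.dStar ↥R := le_sSup h
  calc A = (A.subgroupOf R).map R.subtype := (Subgroup.map_subgroupOf_eq_of_le hA.1).symm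
    _ ≤ (Cfsg.dStar ↥R).map R.subtype := Subgroup.map_mono h2

theorem conjSub_conjSub_inv {G : Type*} [Group G] (g : G) (X : Subgroup G) :
    conjSub g (conjSub g⁻¹ X) = X := by
  ext x
  rw [mem_conjSub, mem_conjSub, inv_inv]
  have e : g * (g⁻¹ * x * g) * g⁻¹ = x := by group
  rw [e]

theorem conjSub_inv_conjSub {G : Type*} [Group G] (g : G) (X : Subgroup G) :
    conjSub g⁻¹ (conjSub g X) = X := by
  have := conjSub_conjSub_inv g⁻¹ X
  rwa [inv_inv] at this

/-- The family is conjugation-equivariant. -/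
theorem famOf_conj {G : Type*} [Group G] (g : G) {R A : Subgroup G} (hA : A ∈ famOf R) :
    conjSub g A ∈ famOf (conjSub g R) := by
  obtain ⟨hAR, hc, hA2⟩ := hA
  refine ⟨conjSub_mono g hAR, ?_, ?_⟩
  · unfold conjSub
    infer_instance
  · intro x hx htriv a ha
    have hx' : g⁻¹ * x * g ∈ R := mem_conjSub.mp hx
    have hφx : (MulAut.conj g).toMonoidHom (g⁻¹ * x * g) = x := by
      simp [MulAut.conj_apply, mul_assoc]
    have e1 : (A ⊔ Subgroup.zpowers (g⁻¹ * x * g)).map (MulAut.conj g).toMonoidHom =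
        conjSub g A ⊔ Subgroup.zpowers x := by
      rw [Subgroup.map_sup, MonoidHom.map_zpowers, hφx]
      rfl
    have e2 : (⁅⁅A ⊔ Subgroup.zpowers (g⁻¹ * x * g), A ⊔ Subgroup.zpowers (g⁻¹ * x * g)⁆,
        A ⊔ Subgroup.zpowers (g⁻¹ * x * g)⁆).map (MulAut.conj g).toMonoidHom = ⊥ := by
      rw [Subgroup.map_commutator, Subgroup.map_commutator, e1, htriv]
    have e3 := (Subgroup.map_eq_bot_iff_of_injective _ (MulAut.conj g).injective).mp e2
    have ha' : g⁻¹ * a * g ∈ A := mem_conjSub.mp ha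
    have e4 := hA2 _ hx' e3 _ ha'
    calc a * x = g * ((g⁻¹ * a * g) * (g⁻¹ * x * g)) * g⁻¹ := by group
      _ = g * ((g⁻¹ * x * g) * (g⁻¹ * a * g)) * g⁻¹ := by rw [e4]
      _ = x * a := by group

/-- `D*` commutes with conjugation. -/
theorem dStarOf_conjSub {G : Type*} [Group G] [Finite G] {p : ℕ} [Fact p.Prime]
    (g : G) (R : Subgroup G) (hR : IsPGroup p ↥R) :
    Cfsg.dStarOf (conjSub g R) = conjSub g (Cfsg.dStarOf R) := by
  have hR' : IsPGroup p ↥(conjSub g R) := hR.map _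
  apply le_antisymm
  · have h1 := famOf_conj g⁻¹ (dStarOf_mem_famOf (conjSub g R) hR')
    rw [conjSub_inv_conjSub] at h1
    have h2 := conjSub_mono g (le_dStarOf R h1)
    rwa [conjSub_conjSub_inv] at h2
  · exact le_dStarOf _ (famOf_conj g (dStarOf_mem_famOf R hR))

end Cfsg.Agent.Lib.Helper51
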