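import Mathlib
import Cfsg.Prelude.Def_DStar
import Cfsg.Prelude.Def_PLocal
import Cfsg.Agent.Lib.Helper51.DStar
import Cfsg.Agent.S0649
import Cfsg.Agent.S0650

set_option autoImplicit false

namespace Cfsg.Agent.Lib.Helper51

open scoped commutatorElement

/-- The join of two abelian subgroups that commute elementwise is abelian. -/
theorem isMulCommutative_sup_of_commute {G : Type*} [Group G] (A B : Subgroup G)
    (hA : IsMulCommutative A) (hB : IsMulCommutative B)
    (h : ∀ a ∈ A, ∀ b ∈ B, a * b = b * a) : IsMulCommutative ↥(A ⊔ B) := by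
  rw [← Subgroup.le_centralizer_iff_isMulCommutative]
  have hAA : A ≤ Subgroup.centralizer (A : Set G) :=
    Subgroup.le_centralizer_iff_isMulCommutative.mpr hA
  have hBB : B ≤ Subgroup.centralizer (B : Set G) :=
    Subgroup.le_centralizer_iff_isMulCommutative.mpr hB
  have hAB : A ≤ Subgroup.centralizer (B : Set G) := by
    intro a ha
    rw [Subgroup.mem_centralizer_iff]
    intro b hb
    exact (h a ha b hb).symm
  have hBA : B ≤ Subgroup.centralizer (A : Set G) := Subgroup.le_centralizer_iff.mp hAB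
  apply sup_le
  · rw [Subgroup.le_centralizer_iff]
    exact sup_le hAA hBA
  · rw [Subgroup.le_centralizer_iff]
    exact sup_le hAB hBB

/-- Two abelian subgroups normalizing each other generate a group of class at most two. -/
theorem class_two_of_mutually_normalizing {G : Type*} [Group G] (D A : Subgroup G)
    (hD : IsMulCommutative D) (hA : IsMulCommutative A)
    (hDA : D ≤ Subgroup.normalizer (A : Set G)) (hAD : A ≤ Subgroup.normalizer (D : Set G)) :
    ⁅⁅D ⊔ A, D ⊔ A⁆, D ⊔ A⁆ = ⊥ := by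
  have hX : Subgroup.closure ((D : Set G) ∪ A) = D ⊔ A := by
    rw [Subgroup.closure_union, Subgroup.closure_eq, Subgroup.closure_eq]
  rw [← hX]
  apply class_two_of_gens
  have hK : ∀ k ∈ D ⊓ A, ∀ z ∈ ((D : Set G) ∪ A), k * z = z * k := by
    rintro k ⟨hkD, hkA⟩ z (hz | hz)
    · exact setLike_mul_comm hkD hz
    · exact setLike_mul_comm hkA hz
  have hDAc : ∀ x ∈ D, ∀ y ∈ A, ⁅x, y⁆ ∈ D ⊓ A := by
    intro x hx y hy
    refine Subgroup.mem_inf.mpr ⟨?_, ?_⟩
    · have h1 : y * x⁻¹ * y⁻¹ ∈ D :=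
        (Subgroup.mem_normalizer_iff.mp (hAD hy) x⁻¹).mp (inv_mem hx)
      have e : ⁅x, y⁆ = x * (y * x⁻¹ * y⁻¹) := by
        simp only [commutatorElement_def]; group
      rw [e]
      exact mul_mem hx h1
    · have h1 : x * y * x⁻¹ ∈ A := (Subgroup.mem_normalizer_iff.mp (hDA hx) y).mp hy
      have e : ⁅x, y⁆ = (x * y * x⁻¹) * y⁻¹ := by
        simp only [commutatorElement_def]
      rw [e]
      exact mul_mem h1 (inv_mem hy)
  intro x hx y hy z hz
  rcases hx with hx | hx <;> rcases hy with hy | hy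
  · have : ⁅x, y⁆ = 1 := by
      rw [commutatorElement_eq_one_iff_mul_comm]
      exact setLike_mul_comm hx hy
    rw [this]; simp
  · exact hK _ (hDAc x hx y hy) z hz
  · have e : ⁅x, y⁆ = ⁅y, x⁆⁻¹ := (commutatorElement_inv y x).symm
    rw [e]
    exact hK _ (inv_mem (hDAc y hy x hx)) z hz
  · have : ⁅x, y⁆ = 1 := by
      rw [commutatorElement_eq_one_iff_mul_comm]
      exact setLike_mul_comm hx hy
    rw [this]; simp

/-- `D*(S)` is a normal subgroup. -/
theorem dStar_normal (S : Type*) [Group S] : (Cfsg.dStar S).Normal := by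
  refine ⟨fun n hn g => ?_⟩
  have hle : Cfsg.dStar S ≤ (Cfsg.dStar S).comap (MulAut.conj g).toMonoidHom := by
    unfold Cfsg.dStar
    apply sSup_le
    intro A hA
    rw [← Subgroup.map_le_iff_le_comap]
    exact le_sSup (dStarFamily_conj g hA)
  have := hle hn
  rw [Subgroup.mem_comap] at this
  exact this

/-- In a finite `p`-group, `D*(S)` centralizes every abelian subgroup it normalizes. -/
theorem dStar_commute_of_le_normalizer {S : Type*} [Group S] [Finite S] {p : ℕ} [Fact p.Prime]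
    (hS : IsPGroup p S) (A : Subgroup S) (hA : IsMulCommutative A)
    (hDA : Cfsg.dStar S ≤ Subgroup.normalizer (A : Set S)) :
    ∀ a ∈ A, ∀ d ∈ Cfsg.dStar S, a * d = d * a := by
  have hD := dStar_mem_dStarFamily hS
  have hn := dStar_normal S
  have hAD : A ≤ Subgroup.normalizer ((Cfsg.dStar S : Subgroup S) : Set S) := by
    rw [Subgroup.normalizer_eq_top]
    exact le_top
  have hcl := class_two_of_mutually_normalizing (Cfsg.dStar S) A hD.1 hA hDA hAD
  intro a ha d hd
  have hle : Cfsg.dStar S ⊔ Subgroup.zpowers a ≤ Cfsg.dStar S ⊔ A :=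
    sup_le_sup_left (Subgroup.zpowers_le.mpr ha) _
  have ha' : ⁅⁅Cfsg.dStar S ⊔ Subgroup.zpowers a, Cfsg.dStar S ⊔ Subgroup.zpowers a⁆,
      Cfsg.dStar S ⊔ Subgroup.zpowers a⁆ = ⊥ := by
    rw [eq_bot_iff, ← hcl]
    exact Subgroup.commutator_mono (Subgroup.commutator_mono hle hle) hle
  exact (hD.2 a ha' d hd).symm

/-- There is an abelian subgroup of largest order. -/
theorem maxAbelianSubgroups_nonempty (S : Type*) [Group S] [Finite S] :
    (Cfsg.maxAbelianSubgroups S).Nonempty := by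
  have : Nonempty {B : Subgroup S // IsMulCommutative B} :=
    ⟨⟨⊥, by
      rw [← Subgroup.le_centralizer_iff_isMulCommutative]
      exact bot_le⟩⟩
  obtain ⟨⟨A, hA⟩, hmax⟩ := Finite.exists_max
    (fun B : {B : Subgroup S // IsMulCommutative B} => Nat.card (B : Subgroup S))
  exact ⟨A, hA, fun B hB => hmax ⟨B, hB⟩⟩

/-- In a finite `p`-group, `D*(S)` lies in every abelian subgroup of largest order. -/
theorem dStar_le_of_mem_maxAbelianSubgroups {S : Type*} [Group S] [Finite S] {p : ℕ}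
    [Fact p.Prime] (hS : IsPGroup p S) :
    ∀ A ∈ Cfsg.maxAbelianSubgroups S, Cfsg.dStar S ≤ A := by
  classical
  have hD := dStar_mem_dStarFamily hS
  have hDc : IsMulCommutative (Cfsg.dStar S) := hD.1
  have hn := dStar_normal S
  by_contra hcon
  push Not at hcon
  obtain ⟨A₀, hA₀, hA₀D⟩ := hcon
  have : Nonempty {A : Subgroup S // A ∈ Cfsg.maxAbelianSubgroups S ∧ ¬ Cfsg.dStar S ≤ A} :=
    ⟨⟨A₀, hA₀, hA₀D⟩⟩
  obtain ⟨⟨A, hA, hAD⟩, hmax⟩ := Finite.exists_max
    (fun A : {A : Subgroup S // A ∈ Cfsg.maxAbelianSubgroups S ∧ ¬ Cfsg.dStar S ≤ A} =>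
      Nat.card ↥((A : Subgroup S) ⊓ Cfsg.dStar S))
  have hAc : IsMulCommutative A := hA.1
  by_cases hN : Cfsg.dStar S ≤ Subgroup.normalizer (A : Set S)
  · have hcomm := dStar_commute_of_le_normalizer hS A hAc hN
    have hsup : IsMulCommutative ↥(A ⊔ Cfsg.dStar S) :=
      isMulCommutative_sup_of_commute A (Cfsg.dStar S) hAc hDc hcomm
    have hcard := hA.2 _ hsup
    have heq : A = A ⊔ Cfsg.dStar S := Subgroup.eq_of_le_of_card_ge le_sup_left hcard
    apply hAD
    rw [heq]
    exact le_sup_right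
  · have hDD : ⁅Cfsg.dStar S, Cfsg.dStar S⁆ ≤ A := by
      have : ⁅Cfsg.dStar S, Cfsg.dStar S⁆ = ⊥ := by
        rw [Subgroup.commutator_eq_bot_iff_le_centralizer]
        exact Subgroup.le_centralizer_iff_isMulCommutative.mpr hDc
      rw [this]
      exact bot_le
    obtain ⟨b, hb, hbN, hbA⟩ :=
      Cfsg.Agent.S0649.result hS (Cfsg.dStar S) (fun _ => hDc) A hAc hDD hN
    obtain ⟨hcard, hcomm, -, hlt, hltB, -⟩ :=
      Cfsg.Agent.S0650.result hS (Cfsg.dStar S) (fun _ => hDc) A hAc hDD hN b hb hbN hbA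
    have hmem : ((A ⊓ A.map (MulAut.conj (b⁻¹)).toMonoidHom) ⊔
        Subgroup.closure {g : S | ∃ a ∈ A, g = a * b⁻¹ * a⁻¹ * b}) ∈
        Cfsg.maxAbelianSubgroups S :=
      ⟨hcomm, fun B' hB' => hcard ▸ hA.2 B' hB'⟩
    have hnot : ¬ Cfsg.dStar S ≤ ((A ⊓ A.map (MulAut.conj (b⁻¹)).toMonoidHom) ⊔
        Subgroup.closure {g : S | ∃ a ∈ A, g = a * b⁻¹ * a⁻¹ * b}) := by
      intro hle
      rw [inf_eq_right.mpr hle] at hltB
      exact lt_irrefl _ hltB
    have h1 := hmax ⟨_, hmem, hnot⟩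
    have h2 := card_lt_of_le_of_ne hlt.le hlt.ne
    exact absurd h1 (not_le.mpr h2)

end Cfsg.Agent.Lib.Helper51
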