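import Mathlib
import Cfsg.Prelude.Def_DStar
import Cfsg.Prelude.Def_PLocal
import Cfsg.Prelude.Def_Solvable
import Cfsg.Agent.Lib.Helper51.Basic
import Cfsg.Agent.Lib.Helper51.CD
import Cfsg.Agent.Lib.Helper51.DStar
import Cfsg.Agent.Lib.Helper51.DStarZJ
import Cfsg.Agent.Lib.Helper51.DStarOf

set_option autoImplicit false

namespace Cfsg.Agent.Lib.Helper51

open scoped commutatorElement

theorem conjSub_mul {G : Type*} [Group G] (g h : G) (X : Subgroup G) :
    conjSub g (conjSub h X) = conjSub (g * h) X := by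
  ext x
  rw [mem_conjSub, mem_conjSub, mem_conjSub]
  have e : h⁻¹ * (g⁻¹ * x * g) * h = (g * h)⁻¹ * x * (g * h) := by group
  rw [e]

theorem conjSub_of_normal {G : Type*} [Group G] (g : G) (N : Subgroup G) [N.Normal] :
    conjSub g N = N :=
  conjSub_eq_self_of_mem_normalizer (by rw [Subgroup.normalizer_eq_top]; trivial)

theorem pCore_normal' (p : ℕ) (G : Type*) [Group G] : (Cfsg.pCore p G).Normal := by
  refine ⟨fun n hn g => ?_⟩
  have hle : Cfsg.pCore p G ≤ (Cfsg.pCore p G).comap (MulAut.conj g).toMonoidHom := by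
    unfold Cfsg.pCore
    apply sSup_le
    rintro N ⟨hN, hNp⟩
    rw [← Subgroup.map_le_iff_le_comap]
    have h1 : N.map (MulAut.conj g).toMonoidHom = N := conjSub_of_normal g N
    rw [h1]
    exact le_sSup ⟨hN, hNp⟩
  exact hle hn

theorem pCore_le_sylow' {p : ℕ} {G : Type*} [Group G] (P : Sylow p G) :
    Cfsg.pCore p G ≤ (P : Subgroup G) := by
  unfold Cfsg.pCore
  refine sSup_le ?_
  rintro N ⟨hN, hp⟩
  have := hN
  exact hp.le_sylow_of_normal P

theorem pCore_isPGroup' (p : ℕ) [Fact p.Prime] (G : Type*) [Group G] [Finite G] :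
    IsPGroup p (Cfsg.pCore p G) := by
  obtain ⟨P⟩ : Nonempty (Sylow p G) := inferInstance
  exact P.isPGroup'.to_le (pCore_le_sylow' P)

/-- The Frattini-argument half of the D*-theorem. -/
theorem dStarOf_sylow_normal_aux {G : Type*} [Group G] [Finite G] {p : ℕ} [Fact p.Prime]
    (S : Sylow p G) (V C K : Subgroup G) [V.Normal] [C.Normal] [K.Normal]
    (hVc : IsMulCommutative ↥V)
    (hV : V = ⨆ g : G, conjSub g (Cfsg.dStarOf (S : Subgroup G)))
    (hC : C = Subgroup.centralizer (V : Set G))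
    (hCK : C ≤ K) (hKCp : ∃ k : ℕ, C.relIndex K = p ^ k)
    (hquadK : ∀ y : G, ⁅⁅V, Subgroup.zpowers y⁆, Subgroup.zpowers y⁆ = ⊥ → y ∈ K) :
    (Cfsg.dStarOf (S : Subgroup G)).Normal := by
  classical
  have hpP : p.Prime := Fact.out
  obtain ⟨hDS, hDc, hD2⟩ := dStarOf_mem_famOf (S : Subgroup G) S.isPGroup'
  have hDV : Cfsg.dStarOf (S : Subgroup G) ≤ V := by
    rw [hV]
    have h1 : conjSub 1 (Cfsg.dStarOf (S : Subgroup G)) = Cfsg.dStarOf (S : Subgroup G) := by
      ext x
      rw [mem_conjSub]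
      simp
    calc Cfsg.dStarOf (S : Subgroup G) = conjSub 1 (Cfsg.dStarOf (S : Subgroup G)) := h1.symm
      _ ≤ _ := le_iSup (fun g => conjSub g (Cfsg.dStarOf (S : Subgroup G))) 1
  have hVC : V ≤ C := by
    rw [hC]
    exact Subgroup.le_centralizer_iff_isMulCommutative.mpr hVc
  -- `Q = S ∩ K`, a Sylow `p`-subgroup of `K`
  have hQS : (S : Subgroup G) ⊓ K ≤ (S : Subgroup G) := inf_le_left
  have hQK : (S : Subgroup G) ⊓ K ≤ K := inf_le_right
  have hQp : IsPGroup p ↥((S : Subgroup G) ⊓ K) := S.isPGroup'.to_le hQS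
  have hfrat : Subgroup.normalizer (((S : Subgroup G) ⊓ K : Subgroup G) : Set G) ⊔ K = ⊤ := by
    have h1 := Sylow.normalizer_sup_eq_top (sylowInfNormal S K)
    rwa [sylowInfNormal_map] at h1
  have hKQC : K ≤ ((S : Subgroup G) ⊓ K) ⊔ C := by
    rw [← Subgroup.relIndex_eq_one]
    have h1 : (((S : Subgroup G) ⊓ K) ⊔ C).relIndex K ∣ ((S : Subgroup G) ⊓ K).relIndex K :=
      Subgroup.relIndex_dvd_of_le_left K le_sup_left
    have h2 : (((S : Subgroup G) ⊓ K) ⊔ C).relIndex K ∣ C.relIndex K :=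
      Subgroup.relIndex_dvd_of_le_left K le_sup_right
    rw [Subgroup.inf_relIndex_right] at h1
    have h3 : ¬ p ∣ (S : Subgroup G).relIndex K := not_dvd_relIndex_normal S K
    obtain ⟨k, hk⟩ := hKCp
    rw [hk] at h2
    obtain ⟨j, -, hj⟩ := (Nat.dvd_prime_pow hpP).mp h2
    rcases Nat.eq_zero_or_pos j with hj0 | hjpos
    · rw [hj, hj0, pow_zero]
    · exfalso
      apply h3
      refine dvd_trans ?_ h1
      rw [hj]
      exact dvd_pow_self p (by omega)
  have hdecomp : ∀ h : G, ∃ n ∈ Subgroup.normalizer (((S : Subgroup G) ⊓ K : Subgroup G) : Set G),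
      ∃ c ∈ C, h = n * c := by
    intro h
    have h1 : h ∈ Subgroup.normalizer (((S : Subgroup G) ⊓ K : Subgroup G) : Set G) ⊔ K := by
      rw [hfrat]
      trivial
    obtain ⟨n, hn, k, hk, rfl⟩ := Subgroup.mem_sup_of_normal_right.mp h1
    have h2 : k ∈ ((S : Subgroup G) ⊓ K) ⊔ C := hKQC hk
    obtain ⟨q, hq, c, hc, rfl⟩ := Subgroup.mem_sup_of_normal_right.mp h2
    exact ⟨n * q, mul_mem hn (Subgroup.le_normalizer hq), c, hc, by group⟩
  -- `E = D*(Q)`
  have hDQ : Cfsg.dStarOf (S : Subgroup G) ≤ (S : Subgroup G) ⊓ K :=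
    le_inf hDS (hDV.trans (hVC.trans hCK))
  have hDfamQ : Cfsg.dStarOf (S : Subgroup G) ∈ famOf ((S : Subgroup G) ⊓ K) :=
    ⟨hDQ, hDc, fun x hx htriv a ha => hD2 x (hQS hx) htriv a ha⟩
  have hDE : Cfsg.dStarOf (S : Subgroup G) ≤ Cfsg.dStarOf ((S : Subgroup G) ⊓ K) :=
    le_dStarOf _ hDfamQ
  have hcD : ∀ c ∈ C,
      conjSub c (Cfsg.dStarOf (S : Subgroup G)) = Cfsg.dStarOf (S : Subgroup G) := by
    intro c hc
    rw [hC, Subgroup.mem_centralizer_iff] at hc
    ext x
    rw [mem_conjSub]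
    constructor
    · intro hx
      have h1 := hc _ (hDV hx)
      have h2 : c⁻¹ * x * c = x := by
        have e : c⁻¹ * x * c = c * (c⁻¹ * x * c) * c⁻¹ := by
          rw [← h1]
          group
        rw [e]
        group
      rwa [h2] at hx
    · intro hx
      have h1 := hc _ (hDV hx)
      have h2 : c⁻¹ * x * c = x := by
        rw [mul_assoc, h1]
        group
      rwa [h2]
  have hnE : ∀ n ∈ Subgroup.normalizer (((S : Subgroup G) ⊓ K : Subgroup G) : Set G),
      conjSub n (Cfsg.dStarOf ((S : Subgroup G) ⊓ K)) = Cfsg.dStarOf ((S : Subgroup G) ⊓ K) := by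
    intro n hn
    have h1 := dStarOf_conjSub n ((S : Subgroup G) ⊓ K) hQp
    rw [conjSub_eq_self_of_mem_normalizer hn] at h1
    exact h1.symm
  have hVE : V ≤ Cfsg.dStarOf ((S : Subgroup G) ⊓ K) := by
    have h0 : (⨆ g : G, conjSub g (Cfsg.dStarOf (S : Subgroup G))) ≤
        Cfsg.dStarOf ((S : Subgroup G) ⊓ K) := by
      apply iSup_le
      intro g
      obtain ⟨n, hn, c, hc, rfl⟩ := hdecomp g
      rw [← conjSub_mul, hcD c hc, ← hnE n hn]
      exact conjSub_mono n hDE
    exact hV.le.trans h0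
  obtain ⟨hEQ, hEc, hE2⟩ := dStarOf_mem_famOf ((S : Subgroup G) ⊓ K) hQp
  have hEfam : Cfsg.dStarOf ((S : Subgroup G) ⊓ K) ∈ famOf (S : Subgroup G) := by
    refine ⟨hEQ.trans hQS, hEc, ?_⟩
    intro x hx htriv a ha
    have hxK : x ∈ K := by
      apply hquadK
      rw [eq_bot_iff, ← htriv]
      exact Subgroup.commutator_mono
        (Subgroup.commutator_mono (hVE.trans le_sup_left) le_sup_right) le_sup_right
    exact hE2 x (Subgroup.mem_inf.mpr ⟨hx, hxK⟩) htriv a ha
  have hED : Cfsg.dStarOf ((S : Subgroup G) ⊓ K) ≤ Cfsg.dStarOf (S : Subgroup G) :=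
    le_dStarOf _ hEfam
  have hDeq : Cfsg.dStarOf (S : Subgroup G) = Cfsg.dStarOf ((S : Subgroup G) ⊓ K) :=
    le_antisymm hDE hED
  refine ⟨fun d hd h => ?_⟩
  obtain ⟨n, hn, c, hc, rfl⟩ := hdecomp h
  have h1 : conjSub (n * c) (Cfsg.dStarOf (S : Subgroup G)) = Cfsg.dStarOf (S : Subgroup G) :=
    calc conjSub (n * c) (Cfsg.dStarOf (S : Subgroup G))
        = conjSub n (conjSub c (Cfsg.dStarOf (S : Subgroup G))) := (conjSub_mul n c _).symm
      _ = conjSub n (Cfsg.dStarOf (S : Subgroup G)) := by rw [hcD c hc]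
      _ = conjSub n (Cfsg.dStarOf ((S : Subgroup G) ⊓ K)) := congrArg (conjSub n) hDeq
      _ = Cfsg.dStarOf ((S : Subgroup G) ⊓ K) := hnE n hn
      _ = Cfsg.dStarOf (S : Subgroup G) := hDeq.symm
  have h2 := conj_mem_conjSub (g := n * c) hd
  rwa [h1] at h2

/-- The D*-theorem of Glauberman and Solomon: in a `p`-stable group with `C(O_p) ≤ O_p`, the
subgroup `D*(S)` of a Sylow `p`-subgroup `S` is normal. -/
theorem dStarOf_sylow_normal {G : Type*} [Group G] [Finite G] {p : ℕ} [Fact p.Prime]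
    (hc : Subgroup.centralizer (Cfsg.pCore p G : Set G) ≤ Cfsg.pCore p G)
    (hst : ∀ (P : Subgroup G) [P.Normal], IsPGroup p P → Cfsg.IsPStableOn p P) (S : Sylow p G) :
    (Cfsg.dStarOf (S : Subgroup G)).Normal := by
  classical
  have hpP : p.Prime := Fact.out
  have hTn : (Cfsg.pCore p G).Normal := pCore_normal' p G
  have hTS : Cfsg.pCore p G ≤ (S : Subgroup G) := pCore_le_sylow' S
  have hTp : IsPGroup p (Cfsg.pCore p G) := S.isPGroup'.to_le hTS
  obtain ⟨hDS, hDc, hD2⟩ := dStarOf_mem_famOf (S : Subgroup G) S.isPGroup'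
  -- `S` normalizes `D`
  have hSD : ∀ s ∈ (S : Subgroup G),
      conjSub s (Cfsg.dStarOf (S : Subgroup G)) = Cfsg.dStarOf (S : Subgroup G) := by
    intro s hs
    have h1 := dStarOf_conjSub s (S : Subgroup G) S.isPGroup'
    rw [conjSub_eq_self_of_mem_normalizer (Subgroup.le_normalizer hs)] at h1
    exact h1.symm
  have hSDmem : ∀ s ∈ (S : Subgroup G), ∀ d ∈ Cfsg.dStarOf (S : Subgroup G),
      s * d * s⁻¹ ∈ Cfsg.dStarOf (S : Subgroup G) := by
    intro s hs d hd
    have h1 := conj_mem_conjSub (g := s) hd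
    rwa [hSD s hs] at h1
  -- Part 1: `D ≤ O_p(G)`
  have hDT : Cfsg.dStarOf (S : Subgroup G) ≤ Cfsg.pCore p G := by
    intro d hd
    have hquad : ⁅⁅Cfsg.pCore p G, Subgroup.zpowers d⁆, Subgroup.zpowers d⁆ = ⊥ := by
      have h1 : ⁅Cfsg.pCore p G, Subgroup.zpowers d⁆ ≤ Cfsg.dStarOf (S : Subgroup G) := by
        rw [Subgroup.commutator_le]
        intro t ht z hz
        have hzD : z ∈ Cfsg.dStarOf (S : Subgroup G) := (Subgroup.zpowers_le.mpr hd) hz
        have e : ⁅t, z⁆ = (t * z * t⁻¹) * z⁻¹ := by simp only [commutatorElement_def]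
        rw [e]
        exact mul_mem (hSDmem t (hTS ht) z hzD) (inv_mem hzD)
      have h2 : ⁅⁅Cfsg.pCore p G, Subgroup.zpowers d⁆, Subgroup.zpowers d⁆ ≤
          ⁅Cfsg.dStarOf (S : Subgroup G), Cfsg.dStarOf (S : Subgroup G)⁆ :=
        Subgroup.commutator_mono h1 (Subgroup.zpowers_le.mpr hd)
      rw [Subgroup.commutator_self_eq_bot_iff.mpr hDc] at h2
      exact le_bot_iff.mp h2
    have h3 := hst (Cfsg.pCore p G) hTp d hquad
    have hK₁p : IsPGroup p ↥((Cfsg.pCore p
        (G ⧸ Subgroup.centralizer (Cfsg.pCore p G : Set G))).comap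
        (QuotientGroup.mk' (Subgroup.centralizer (Cfsg.pCore p G : Set G)))) := by
      apply IsPGroup.comap_of_ker_isPGroup (pCore_isPGroup' p _)
      rw [QuotientGroup.ker_mk']
      exact hTp.to_le hc
    have hK₁n : ((Cfsg.pCore p
        (G ⧸ Subgroup.centralizer (Cfsg.pCore p G : Set G))).comap
        (QuotientGroup.mk' (Subgroup.centralizer (Cfsg.pCore p G : Set G)))).Normal :=
      (pCore_normal' p _).comap _
    have hK₁T : (Cfsg.pCore p
        (G ⧸ Subgroup.centralizer (Cfsg.pCore p G : Set G))).comap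
        (QuotientGroup.mk' (Subgroup.centralizer (Cfsg.pCore p G : Set G))) ≤ Cfsg.pCore p G := by
      conv_rhs => unfold Cfsg.pCore
      exact le_sSup ⟨hK₁n, hK₁p⟩
    exact hK₁T h3
  -- Part 2: the conjugates of `D` commute
  have hconjDT : ∀ g : G, conjSub g (Cfsg.dStarOf (S : Subgroup G)) ≤ Cfsg.pCore p G := by
    intro g
    have h1 := conjSub_mono g hDT
    rwa [conjSub_of_normal g (Cfsg.pCore p G)] at h1
  have hcomm1 : ∀ g : G, ∀ a ∈ Cfsg.dStarOf (S : Subgroup G),
      ∀ b ∈ conjSub g (Cfsg.dStarOf (S : Subgroup G)), a * b = b * a := by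
    intro g a ha b hb
    have hD' : IsMulCommutative ↥(conjSub g (Cfsg.dStarOf (S : Subgroup G))) := by
      unfold conjSub
      infer_instance
    have h1 : Cfsg.dStarOf (S : Subgroup G) ≤
        Subgroup.normalizer (conjSub g (Cfsg.dStarOf (S : Subgroup G)) : Set G) := by
      intro d hd
      apply mem_normalizer_of_conjSub_eq
      have hTS' : Cfsg.pCore p G ≤ conjSub g (S : Subgroup G) := by
        have h2 := conjSub_mono g hTS
        rwa [conjSub_of_normal g (Cfsg.pCore p G)] at h2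
      have hdS' : d ∈ conjSub g (S : Subgroup G) := hTS' (hDT hd)
      have hS'p : IsPGroup p ↥(conjSub g (S : Subgroup G)) := S.isPGroup'.map _
      have h2 := dStarOf_conjSub d (conjSub g (S : Subgroup G)) hS'p
      rw [conjSub_eq_self_of_mem_normalizer (Subgroup.le_normalizer hdS')] at h2
      rw [← dStarOf_conjSub g (S : Subgroup G) S.isPGroup']
      exact h2.symm
    have h2 : conjSub g (Cfsg.dStarOf (S : Subgroup G)) ≤
        Subgroup.normalizer (Cfsg.dStarOf (S : Subgroup G) : Set G) := by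
      intro d hd
      apply mem_normalizer_of_conjSub_eq
      exact hSD d (hTS (hconjDT g hd))
    have hcl := class_two_of_mutually_normalizing (Cfsg.dStarOf (S : Subgroup G))
      (conjSub g (Cfsg.dStarOf (S : Subgroup G))) hDc hD' h1 h2
    have hle : Cfsg.dStarOf (S : Subgroup G) ⊔ Subgroup.zpowers b ≤
        Cfsg.dStarOf (S : Subgroup G) ⊔ conjSub g (Cfsg.dStarOf (S : Subgroup G)) :=
      sup_le_sup_left (Subgroup.zpowers_le.mpr hb) _
    have hb' : ⁅⁅Cfsg.dStarOf (S : Subgroup G) ⊔ Subgroup.zpowers b,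
        Cfsg.dStarOf (S : Subgroup G) ⊔ Subgroup.zpowers b⁆,
        Cfsg.dStarOf (S : Subgroup G) ⊔ Subgroup.zpowers b⁆ = ⊥ := by
      rw [eq_bot_iff, ← hcl]
      exact Subgroup.commutator_mono (Subgroup.commutator_mono hle hle) hle
    exact hD2 b (hTS (hconjDT g hb)) hb' a ha
  have hcomm2 : ∀ g h : G, ∀ a ∈ conjSub g (Cfsg.dStarOf (S : Subgroup G)),
      ∀ b ∈ conjSub h (Cfsg.dStarOf (S : Subgroup G)), a * b = b * a := by
    intro g h a ha b hb
    have ha' : g⁻¹ * a * g ∈ Cfsg.dStarOf (S : Subgroup G) := mem_conjSub.mp ha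
    have hb' : g⁻¹ * b * g ∈ conjSub (g⁻¹ * h) (Cfsg.dStarOf (S : Subgroup G)) := by
      rw [mem_conjSub]
      have h1 := mem_conjSub.mp hb
      have e : (g⁻¹ * h)⁻¹ * (g⁻¹ * b * g) * (g⁻¹ * h) = h⁻¹ * b * h := by group
      rw [e]
      exact h1
    have h2 := hcomm1 (g⁻¹ * h) _ ha' _ hb'
    calc a * b = g * ((g⁻¹ * a * g) * (g⁻¹ * b * g)) * g⁻¹ := by group
      _ = g * ((g⁻¹ * b * g) * (g⁻¹ * a * g)) * g⁻¹ := by rw [h2]
      _ = b * a := by group
  -- the normal closure `V` of `D`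
  have hDV : Cfsg.dStarOf (S : Subgroup G) ≤
      ⨆ g : G, conjSub g (Cfsg.dStarOf (S : Subgroup G)) := by
    have h1 : conjSub 1 (Cfsg.dStarOf (S : Subgroup G)) = Cfsg.dStarOf (S : Subgroup G) := by
      ext x
      rw [mem_conjSub]
      simp
    calc Cfsg.dStarOf (S : Subgroup G) = conjSub 1 (Cfsg.dStarOf (S : Subgroup G)) := h1.symm
      _ ≤ _ := le_iSup (fun g => conjSub g (Cfsg.dStarOf (S : Subgroup G))) 1
  have hVc : IsMulCommutative ↥(⨆ g : G, conjSub g (Cfsg.dStarOf (S : Subgroup G))) := by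
    rw [← Subgroup.le_centralizer_iff_isMulCommutative]
    apply iSup_le
    intro g
    rw [Subgroup.le_centralizer_iff]
    apply iSup_le
    intro h b hb
    rw [Subgroup.mem_centralizer_iff]
    intro a ha
    exact hcomm2 g h a ha b hb
  have hVT : (⨆ g : G, conjSub g (Cfsg.dStarOf (S : Subgroup G))) ≤ Cfsg.pCore p G :=
    iSup_le hconjDT
  have hVn : (⨆ g : G, conjSub g (Cfsg.dStarOf (S : Subgroup G))).Normal := by
    refine ⟨fun v hv g => ?_⟩
    have hle : (⨆ g : G, conjSub g (Cfsg.dStarOf (S : Subgroup G))) ≤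
        (⨆ g : G, conjSub g (Cfsg.dStarOf (S : Subgroup G))).comap
          (MulAut.conj g).toMonoidHom := by
      apply iSup_le
      intro h
      rw [← Subgroup.map_le_iff_le_comap]
      have h1 : (conjSub h (Cfsg.dStarOf (S : Subgroup G))).map (MulAut.conj g).toMonoidHom =
          conjSub (g * h) (Cfsg.dStarOf (S : Subgroup G)) := conjSub_mul g h _
      rw [h1]
      exact le_iSup (fun g => conjSub g (Cfsg.dStarOf (S : Subgroup G))) (g * h)
    exact hle hv
  have hVp : IsPGroup p ↥(⨆ g : G, conjSub g (Cfsg.dStarOf (S : Subgroup G))) := hTp.to_le hVT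
  -- Part 3: `K`, `Q` and the Frattini argument
  have hKn : ((Cfsg.pCore p (G ⧸ Subgroup.centralizer
      ((⨆ g : G, conjSub g (Cfsg.dStarOf (S : Subgroup G)) : Subgroup G) : Set G))).comap
      (QuotientGroup.mk' _)).Normal := (pCore_normal' p _).comap _
  have hquadK : ∀ y : G, ⁅⁅(⨆ g : G, conjSub g (Cfsg.dStarOf (S : Subgroup G))),
      Subgroup.zpowers y⁆, Subgroup.zpowers y⁆ = ⊥ →
      y ∈ (Cfsg.pCore p (G ⧸ Subgroup.centralizer
      ((⨆ g : G, conjSub g (Cfsg.dStarOf (S : Subgroup G)) : Subgroup G) : Set G))).comap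
      (QuotientGroup.mk' _) := by
    intro y hy
    exact hst _ hVp y hy
  have hTK : Cfsg.pCore p G ≤ (Cfsg.pCore p (G ⧸ Subgroup.centralizer
      ((⨆ g : G, conjSub g (Cfsg.dStarOf (S : Subgroup G)) : Subgroup G) : Set G))).comap
      (QuotientGroup.mk' _) := by
    intro t ht
    rw [Subgroup.mem_comap]
    have h1 : (Cfsg.pCore p G).map (QuotientGroup.mk' (Subgroup.centralizer
        ((⨆ g : G, conjSub g (Cfsg.dStarOf (S : Subgroup G)) : Subgroup G) : Set G))) ≤
        Cfsg.pCore p (G ⧸ Subgroup.centralizer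
        ((⨆ g : G, conjSub g (Cfsg.dStarOf (S : Subgroup G)) : Subgroup G) : Set G)) := by
      conv_rhs => unfold Cfsg.pCore
      exact le_sSup ⟨hTn.map _ (QuotientGroup.mk'_surjective _), hTp.map _⟩
    exact h1 ⟨t, ht, rfl⟩
  have hKCp : ∃ k : ℕ, (Subgroup.centralizer
      ((⨆ g : G, conjSub g (Cfsg.dStarOf (S : Subgroup G)) : Subgroup G) : Set G)).relIndex
      ((Cfsg.pCore p (G ⧸ Subgroup.centralizer
      ((⨆ g : G, conjSub g (Cfsg.dStarOf (S : Subgroup G)) : Subgroup G) : Set G))).comap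
      (QuotientGroup.mk' _)) = p ^ k := by
    have h1 := Subgroup.relIndex_comap (H := (⊥ : Subgroup (G ⧸ Subgroup.centralizer
      ((⨆ g : G, conjSub g (Cfsg.dStarOf (S : Subgroup G)) : Subgroup G) : Set G))))
      (QuotientGroup.mk' (Subgroup.centralizer
      ((⨆ g : G, conjSub g (Cfsg.dStarOf (S : Subgroup G)) : Subgroup G) : Set G)))
      ((Cfsg.pCore p (G ⧸ Subgroup.centralizer
      ((⨆ g : G, conjSub g (Cfsg.dStarOf (S : Subgroup G)) : Subgroup G) : Set G))).comap
      (QuotientGroup.mk' _))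
    rw [Subgroup.map_comap_eq_self_of_surjective (QuotientGroup.mk'_surjective _),
      Subgroup.relIndex_bot_left, MonoidHom.comap_bot, QuotientGroup.ker_mk'] at h1
    rw [h1]
    exact IsPGroup.iff_card.mp (pCore_isPGroup' p _)
  have hCK : Subgroup.centralizer
      ((⨆ g : G, conjSub g (Cfsg.dStarOf (S : Subgroup G)) : Subgroup G) : Set G) ≤
      (Cfsg.pCore p (G ⧸ Subgroup.centralizer
      ((⨆ g : G, conjSub g (Cfsg.dStarOf (S : Subgroup G)) : Subgroup G) : Set G))).comap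
      (QuotientGroup.mk' _) := by
    intro c hc
    rw [Subgroup.mem_comap]
    have h1 : (QuotientGroup.mk' (Subgroup.centralizer
      ((⨆ g : G, conjSub g (Cfsg.dStarOf (S : Subgroup G)) : Subgroup G) : Set G))) c = 1 :=
      (QuotientGroup.eq_one_iff c).mpr hc
    rw [h1]
    exact one_mem _
  exact dStarOf_sylow_normal_aux S _ _ _ hVc rfl rfl hCK hKCp hquadK
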