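import Mathlib
import Cfsg.Prelude.Def_PLocal
import Cfsg.Prelude.Def_LocalEven
import Cfsg.Prelude.Def_Transfer
import Cfsg.Prelude.Def_CaseTheorems
import Cfsg.Agent.Lib.Helper33.Sect4
import Cfsg.Agent.Lib.Helper34.InvolvesAux
import Cfsg.Agent.Lib.Helper51.QdNorm
import Cfsg.Agent.Lib.Helper51.DStarStable

/-!
# Sections with a maximal Sylow `p`-subgroup and `p`-nilpotent quotient by `O_p` are `Qd(p)`-free

The invariant is `E2`: every `2`-element squares to one.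
-/

set_option autoImplicit false

namespace Cfsg.Agent.Lib.Helper51

open Matrix Cfsg.Agent.Lib.Helper33

universe u

/-- Every `2`-element squares to one. -/
def E2 (X : Type*) [Group X] : Prop := ∀ x : X, (∃ k : ℕ, x ^ 2 ^ k = 1) → x ^ 2 = 1

theorem E2.of_involves {H : Type*} {X : Type*} [Group H] [Group X] [Finite X]
    (h : Cfsg.Involves H X) (hX : E2 X) : E2 H := by
  obtain ⟨K, φ, hφ⟩ := Cfsg.Agent.Lib.Helper34.involves_iff_exists_hom.mp h
  rintro y ⟨k, hk⟩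
  obtain ⟨x, rfl⟩ := hφ y
  obtain ⟨a, m, hm, hn⟩ := Nat.exists_eq_two_pow_mul_odd (orderOf_pos (x : X)).ne'
  have h1 : ((x : X) ^ m) ^ 2 ^ a = 1 := by
    rw [← pow_mul, mul_comm, ← hn]
    exact pow_orderOf_eq_one _
  have h2 := hX ((x : X) ^ m) ⟨a, h1⟩
  have h3 : (φ x) ^ (m * 2) = 1 := by
    rw [← map_pow]
    have : x ^ (m * 2) = 1 := by
      apply Subtype.ext
      rw [Subgroup.coe_pow, Subgroup.coe_one, pow_mul]
      exact h2
    rw [this, map_one]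
  have h4 := pow_gcd_eq_one.mpr ⟨h3, hk⟩
  by_cases hk0 : k = 0
  · rw [hk0, pow_zero, pow_one] at hk
    rw [hk, one_pow]
  · have hg : Nat.gcd (m * 2) (2 ^ k) = 2 := by
      obtain ⟨k', rfl⟩ := Nat.exists_eq_succ_of_ne_zero hk0
      rw [pow_succ, Nat.gcd_mul_right]
      have : Nat.gcd m (2 ^ k') = 1 := by
        apply Nat.Coprime.pow_right
        exact hm.coprime_two_right
      rw [this, one_mul]
    rw [hg] at h4
    exact h4

theorem not_e2_qd (p : ℕ) [Fact p.Prime] (hp : p ≠ 2) : ¬ E2 ↥(Cfsg.qd p) := by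
  intro h
  let w : Matrix.SpecialLinearGroup (Fin 2) (ZMod p) :=
    ⟨!![0, -1; 1, 0], by simp [Matrix.det_fin_two]⟩
  have hw2 : (w ^ 2).1 = !![-1, 0; 0, -1] := by
    rw [pow_two]
    show !![0, -1; 1, 0] * !![0, -1; 1, 0] = (!![-1, 0; 0, -1] : Matrix (Fin 2) (Fin 2) (ZMod p))
    rw [Matrix.mul_fin_two]
    simp
  have hw4 : w ^ 2 ^ 2 = 1 := by
    apply Subtype.ext
    have : w ^ 2 ^ 2 = w ^ 2 * w ^ 2 := by rw [← pow_add]; norm_num
    rw [this, Matrix.SpecialLinearGroup.coe_mul, hw2, Matrix.mul_fin_two]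
    simp [Matrix.one_fin_two]
  have h1 := h (qdLin p w) ⟨2, by rw [← map_pow, hw4, map_one]⟩
  rw [← map_pow] at h1
  have h2 : Cfsg.Agent.Lib.Helper37.qdBlock p (qdLin p (w ^ 2)) = (w ^ 2).1 := qdBlock_qdElt _ _
  rw [h1, map_one, hw2] at h2
  have h3 := congrFun (congrFun h2 0) 0
  simp at h3
  have h4 : ((2 : ℕ) : ZMod p) = 0 := by
    have : (2 : ZMod p) = 0 := by linear_combination h3
    exact_mod_cast this
  rw [ZMod.natCast_eq_zero_iff] at h4
  exact hp ((Nat.prime_dvd_prime_iff_eq Fact.out Nat.prime_two).mp h4)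

theorem exists_pow_two_ne_one {X : Type*} [Group X] (z : X) (hz : z ≠ 1) :
    ∀ k : ℕ, z ^ 2 ^ k = 1 → ∃ i : ℕ, z ^ 2 ^ i ≠ 1 ∧ (z ^ 2 ^ i) ^ 2 = 1 := by
  intro k
  induction k with
  | zero =>
    intro h
    rw [pow_zero, pow_one] at h
    exact absurd h hz
  | succ k ih =>
    intro h
    by_cases h1 : z ^ 2 ^ k = 1
    · exact ih h1
    · exact ⟨k, h1, by rw [← pow_mul, ← pow_succ]; exact h⟩

theorem isPGroup_two_zpowers {X : Type*} [Group X] (y : X) (k : ℕ) (hk : y ^ 2 ^ k = 1) :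
    IsPGroup 2 (Subgroup.zpowers y) := by
  rintro ⟨z, hz⟩
  obtain ⟨i, rfl⟩ := Subgroup.mem_zpowers_iff.mp hz
  refine ⟨k, Subtype.ext ?_⟩
  rw [Subgroup.coe_pow, Subgroup.coe_one]
  show (y ^ i) ^ 2 ^ k = 1
  rw [← zpow_natCast, ← _root_.zpow_mul, mul_comm, _root_.zpow_mul, zpow_natCast, hk,
    _root_.one_zpow]

/-- A finite group `Y` with a maximal Sylow `p`-subgroup (`p` odd) such that `Y / O_p(Y)` has a
normal `p`-complement: every `2`-element of `Y` squares to one. -/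
theorem e2_of_coatom {Y : Type u} [Group Y] [Finite Y] {p : ℕ} [Fact p.Prime] (hp : p ≠ 2)
    (hnpc : Cfsg.HasNormalPComplement p (Y ⧸ Cfsg.pCore p Y)) (T : Sylow p Y)
    (hT : IsCoatom (T : Subgroup Y)) : E2 Y := by
  classical
  have hpp : p.Prime := Fact.out
  have h2p : Nat.Coprime 2 p := (Nat.coprime_primes Nat.prime_two hpp).mpr (Ne.symm hp)
  set P₀ := Cfsg.pCore p Y with hP₀
  have hP₀n : P₀.Normal := inferInstance
  have hP₀p : IsPGroup p P₀ := Cfsg.Agent.Lib.Helper11.pCore_isPGroup' p Y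
  obtain ⟨Pbar, Nbar, hNn, hcompl⟩ := hnpc
  set π := QuotientGroup.mk' P₀ with hπ
  have hπs : Function.Surjective π := QuotientGroup.mk'_surjective P₀
  have hker : ∀ x : Y, π x = 1 ↔ x ∈ P₀ := fun x => QuotientGroup.eq_one_iff x
  set M := Nbar.comap π with hM
  have hMn : M.Normal := inferInstance
  have hNcop : (Nat.card Nbar).Coprime p := by
    have h1 : (Pbar : Subgroup (Y ⧸ P₀)).index = Nat.card Nbar := hcompl.index_eq_card
    have h2 := Pbar.not_dvd_index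
    rw [h1] at h2
    exact Nat.Coprime.symm ((Nat.Prime.coprime_iff_not_dvd hpp).mpr h2)
  obtain ⟨j, hj⟩ : ∃ j, Nbar.index = p ^ j := by
    have h1 : Nbar.index = Nat.card (Pbar : Subgroup (Y ⧸ P₀)) := hcompl.symm.index_eq_card
    obtain ⟨j, hj⟩ := IsPGroup.iff_card.mp Pbar.isPGroup'
    exact ⟨j, h1.trans hj⟩
  have hF3 : ∀ y : Y, y ^ p ^ j ∈ M := by
    intro y
    show π (y ^ p ^ j) ∈ Nbar
    rw [map_pow, ← hj]
    exact Nbar.pow_index_mem (π y)
  have hpelt : ∀ z : Y, (∃ a : ℕ, z ^ p ^ a = 1) → (∃ b : ℕ, z ^ 2 ^ b = 1) → z = 1 := by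
    rintro z ⟨a, ha⟩ ⟨b, hb⟩
    have h1 := pow_gcd_eq_one.mpr ⟨ha, hb⟩
    have hg : Nat.gcd (p ^ a) (2 ^ b) = 1 := Nat.Coprime.pow _ _ h2p.symm
    rwa [hg, pow_one] at h1
  have hF4 : ∀ x ∈ M, (∃ a : ℕ, x ^ p ^ a = 1) → x ∈ P₀ := by
    rintro x hx ⟨a, ha⟩
    rw [← hker]
    have h1 : (π x) ^ p ^ a = 1 := by rw [← map_pow, ha, map_one]
    have h2 : (π x) ^ Nat.card Nbar = 1 := by
      have h3 := pow_card_eq_one' (G := Nbar) (x := ⟨π x, hx⟩)
      exact congrArg Subtype.val h3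
    have h4 := pow_gcd_eq_one.mpr ⟨h1, h2⟩
    have hg : Nat.gcd (p ^ a) (Nat.card Nbar) = 1 := Nat.Coprime.pow_left a hNcop.symm
    rwa [hg, pow_one] at h4
  have hP₀T : P₀ ≤ (T : Subgroup Y) := pCore_le_sylow' T
  have hP₀M : P₀ ≤ M := fun x hx => by
    show π x ∈ Nbar
    rw [(hker x).mpr hx]; exact one_mem _
  have hpow_of_mem : ∀ {H : Subgroup Y} {q : ℕ}, IsPGroup q H → ∀ z ∈ H, ∃ a : ℕ, z ^ q ^ a = 1 := by
    intro H q hH z hz
    obtain ⟨a, ha⟩ := hH ⟨z, hz⟩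
    exact ⟨a, by simpa using congrArg Subtype.val ha⟩
  have hTM : (T : Subgroup Y) ⊓ M ≤ P₀ := by
    rintro x ⟨hxT, hxM⟩
    exact hF4 x hxM (hpow_of_mem T.isPGroup' x hxT)
  -- irreducibility
  have hB : ∀ L : Subgroup Y, P₀ ≤ L → L ≤ M →
      (T : Subgroup Y) ≤ Subgroup.normalizer (L : Set Y) → L = P₀ ∨ L = M := by
    intro L hPL hLM hTL
    rcases hT.le_iff.mp (le_sup_left : (T : Subgroup Y) ≤ (T : Subgroup Y) ⊔ L) with h | h
    · right
      apply le_antisymm hLM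
      intro m hm
      have hm' : m ∈ (((T : Subgroup Y) ⊔ L : Subgroup Y) : Set Y) := by rw [h]; trivial
      rw [Subgroup.coe_mul_of_left_le_normalizer_right _ _ hTL] at hm'
      obtain ⟨t, ht, l, hl, rfl⟩ := hm'
      have htM : t ∈ M := by
        have h1 := M.mul_mem hm (M.inv_mem (hLM hl))
        simpa using h1
      exact L.mul_mem (hPL (hTM ⟨ht, htM⟩)) hl
    · left
      have hLT : L ≤ (T : Subgroup Y) := by rw [← h]; exact le_sup_right
      exact le_antisymm (fun x hx => hTM ⟨hLT hx, hLM hx⟩) hPL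
  have hF8 : ∀ y : Y, (∃ k : ℕ, y ^ 2 ^ k = 1) → y ∈ M := by
    rintro y ⟨k, hk⟩
    exact mem_of_pow_mem_of_coprime (hF3 y) (by rw [hk]; exact one_mem _)
      (Nat.Coprime.pow _ _ h2p.symm)
  have hf2 : Fact (Nat.Prime 2) := ⟨Nat.prime_two⟩
  obtain ⟨P₂, hP₂, -⟩ := exists_sylIn_ge (p := 2) (H := M) (B := ⊥) bot_le IsPGroup.of_bot
  have hcjM : ∀ g : Y, cj g M = M := fun g => cj_eq_self_of_normal hMn g
  have hcjP₀ : ∀ g : Y, cj g P₀ = P₀ := fun g => cj_eq_self_of_normal hP₀n g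
  obtain ⟨T₀, hT₀, -⟩ := exists_sylIn_ge (p := p) (H := Subgroup.normalizer (P₂ : Set Y))
    (B := ⊥) bot_le IsPGroup.of_bot
  have hF12 := exists_mul_of_pquotient hT₀ (fun n _ => hcjM n) (fun x _ => ⟨j, hF3 x⟩)
  have hT₁p : IsPGroup p (T₀ ⊔ P₀ : Subgroup Y) := hT₀.2.1.to_sup_of_normal_right hP₀p
  obtain ⟨x, -, hx⟩ := (sylIn_top T).exists_cj_le (B := T₀ ⊔ P₀) le_top hT₁p
  set L₂ := P₀ ⊔ cj x P₂ with hL₂
  have hL₂M : L₂ ≤ M := sup_le hP₀M (by rw [← hcjM x]; exact cj_mono hP₂.1)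
  have hTL₂ : (T : Subgroup Y) ≤ Subgroup.normalizer (L₂ : Set Y) := by
    intro t ht
    obtain ⟨k, hk, hkr⟩ := frattini_arg hP₂ hcjM (x⁻¹ * t * x)
    obtain ⟨t₀, ht₀, c, hc, hrc⟩ := hF12 _ hkr
    have haT : x * t₀ * x⁻¹ ∈ (T : Subgroup Y) :=
      hx (conj_mem_cj (Subgroup.mem_sup_left ht₀))
    have e : (x * t₀ * x⁻¹)⁻¹ * t = x * (t₀⁻¹ * k⁻¹ * t₀ * c) * x⁻¹ := by
      have h1 : x⁻¹ * t * x = k⁻¹ * (t₀ * c) := by rw [← hrc]; group
      have h2 : t = x * (k⁻¹ * (t₀ * c)) * x⁻¹ := by rw [← h1]; group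
      rw [h2]; group
    have hbM : (x * t₀ * x⁻¹)⁻¹ * t ∈ M := by
      rw [e]
      have h1 : t₀⁻¹ * k⁻¹ * t₀ * c ∈ M := by
        refine M.mul_mem ?_ hc
        have h2 := hMn.conj_mem k⁻¹ (M.inv_mem hk) t₀⁻¹
        simpa using h2
      exact hMn.conj_mem _ h1 x
    have hbP : (x * t₀ * x⁻¹)⁻¹ * t ∈ P₀ :=
      hTM ⟨(T : Subgroup Y).mul_mem (inv_mem haT) ht, hbM⟩
    have htab : t = (x * t₀ * x⁻¹) * ((x * t₀ * x⁻¹)⁻¹ * t) := by group
    have haN : x * t₀ * x⁻¹ ∈ Subgroup.normalizer (L₂ : Set Y) := by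
      rw [mem_normalizer_iff_cj, hL₂]
      have h1 : cj (x * t₀ * x⁻¹) (P₀ ⊔ cj x P₂) =
          cj (x * t₀ * x⁻¹) P₀ ⊔ cj (x * t₀ * x⁻¹) (cj x P₂) := Subgroup.map_sup _ _ _
      rw [h1, hcjP₀, ← cj_mul]
      have h2 : x * t₀ * x⁻¹ * x = x * t₀ := by group
      rw [h2, cj_mul, mem_normalizer_iff_cj.mp (hT₀.1 ht₀)]
    have hbN : (x * t₀ * x⁻¹)⁻¹ * t ∈ Subgroup.normalizer (L₂ : Set Y) :=
      Subgroup.le_normalizer ((le_sup_left : P₀ ≤ L₂) hbP)
    rw [htab]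
    exact Subgroup.mul_mem _ haN hbN
  rcases hB L₂ le_sup_left hL₂M hTL₂ with hcase | hcase
  · -- `M / O_p` has odd order
    have hP₂bot : P₂ = ⊥ := by
      rw [eq_bot_iff]
      intro z hz
      have h1 : x * z * x⁻¹ ∈ P₀ := by
        rw [← hcase]; exact Subgroup.mem_sup_right (conj_mem_cj hz)
      have h2 : z ∈ P₀ := by
        have h3 := hP₀n.conj_mem _ h1 x⁻¹
        have h4 : x⁻¹ * (x * z * x⁻¹) * x⁻¹⁻¹ = z := by group
        rwa [h4] at h3
      exact hpelt z (hpow_of_mem hP₀p z h2) (hpow_of_mem hP₂.2.1 z hz)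
    rintro y ⟨k, hk⟩
    have hyM := hF8 y ⟨k, hk⟩
    obtain ⟨c, -, hc⟩ := hP₂.exists_cj_le (B := Subgroup.zpowers y) (Subgroup.zpowers_le.mpr hyM)
      (isPGroup_two_zpowers y k hk)
    rw [hP₂bot] at hc
    have h1 : c * y * c⁻¹ = 1 := by
      have h2 := hc (conj_mem_cj (Subgroup.mem_zpowers y))
      simpa using h2
    have hy1 : y = 1 := by
      have h2 : y = c⁻¹ * (c * y * c⁻¹) * c := by group
      rw [h2, h1]; group
    rw [hy1, one_pow]
  · -- `M / O_p` is a `2`-group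
    let Ωb : Subgroup (Y ⧸ P₀) :=
      { carrier := {a | a ∈ Nbar ∧ a ^ 2 = 1 ∧ ∀ n ∈ Nbar, n * a = a * n}
        one_mem' := ⟨one_mem _, one_pow _, fun n _ => by rw [mul_one, one_mul]⟩
        mul_mem' := by
          rintro a b ⟨ha, ha2, hac⟩ ⟨hb, hb2, hbc⟩
          refine ⟨mul_mem ha hb, ?_, ?_⟩
          · have h1 : (a * b) ^ 2 = a ^ 2 * b ^ 2 := by
              rw [pow_two, pow_two, pow_two]
              calc a * b * (a * b) = a * (b * a) * b := by group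
                _ = a * (a * b) * b := by rw [hac b hb]
                _ = a * a * (b * b) := by group
            rw [h1, ha2, hb2, one_mul]
          · intro n hn
            rw [← mul_assoc, hac n hn, mul_assoc, hbc n hn, mul_assoc]
        inv_mem' := by
          rintro a ⟨ha, ha2, hac⟩
          refine ⟨inv_mem ha, by rw [inv_pow, ha2, inv_one], fun n hn => ?_⟩
          have h1 := hac n hn
          calc n * a⁻¹ = a⁻¹ * (a * n) * a⁻¹ := by group
            _ = a⁻¹ * (n * a) * a⁻¹ := by rw [h1]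
            _ = a⁻¹ * n := by group }
    have hΩmem : ∀ a : Y ⧸ P₀, a ∈ Ωb ↔ a ∈ Nbar ∧ a ^ 2 = 1 ∧ ∀ n ∈ Nbar, n * a = a * n :=
      fun a => Iff.rfl
    have hΩn : Ωb.Normal := by
      refine ⟨?_⟩
      intro a ha g
      rw [hΩmem] at ha ⊢
      obtain ⟨ha, ha2, hac⟩ := ha
      refine ⟨hNn.conj_mem a ha g, ?_, ?_⟩
      · rw [conj_pow, ha2]; group
      · intro n hn
        have h1 := hac (g⁻¹ * n * g) (by
          have h2 := hNn.conj_mem n hn g⁻¹
          simpa using h2)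
        calc n * (g * a * g⁻¹) = g * (g⁻¹ * n * g * a) * g⁻¹ := by group
          _ = g * (a * (g⁻¹ * n * g)) * g⁻¹ := by rw [h1]
          _ = g * a * g⁻¹ * n := by group
    set L := Ωb.comap π with hL
    have hLn : L.Normal := inferInstance
    have hPL : P₀ ≤ L := fun z hz => by
      show π z ∈ Ωb
      rw [(hker z).mpr hz]; exact one_mem _
    have hLM : L ≤ M := fun z hz => ((hΩmem (π z)).mp hz).1
    have hTL : (T : Subgroup Y) ≤ Subgroup.normalizer (L : Set Y) := by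
      rw [Subgroup.normalizer_eq_top]; exact le_top
    rcases hB L hPL hLM hTL with hL0 | hL1
    · have hNbot : ∀ n ∈ Nbar, n = 1 := by
        by_contra hne
        push Not at hne
        obtain ⟨n₀, hn₀, hn₀1⟩ := hne
        have hN2 : IsPGroup 2 Nbar := by
          rintro ⟨n, hn⟩
          obtain ⟨m, rfl⟩ := hπs n
          have hmM : m ∈ P₀ ⊔ cj x P₂ := by rw [← hL₂, hcase]; exact hn
          obtain ⟨a, ha, b, hb, rfl⟩ := Subgroup.mem_sup_of_normal_left.mp hmM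
          obtain ⟨i, hi⟩ := hpow_of_mem (isPGroup_cj (g := x) hP₂.2.1) b hb
          refine ⟨i, Subtype.ext ?_⟩
          rw [Subgroup.coe_pow, Subgroup.coe_one]
          show (π (a * b)) ^ 2 ^ i = 1
          rw [map_mul, (hker a).mpr ha, one_mul, ← map_pow, hi, map_one]
        have hnt : Nontrivial Nbar :=
          ⟨⟨⟨n₀, hn₀⟩, 1, fun h => hn₀1 (congrArg Subtype.val h)⟩⟩
        have hc := hN2.center_nontrivial
        obtain ⟨⟨z, hz⟩, hz1⟩ := exists_ne (1 : Subgroup.center Nbar)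
        have hz1' : z ≠ 1 := fun h => hz1 (Subtype.ext h)
        obtain ⟨k, hk⟩ := hN2 z
        obtain ⟨i, hi1, hi2⟩ := exists_pow_two_ne_one z hz1' k hk
        have hwc : z ^ 2 ^ i ∈ Subgroup.center Nbar := Subgroup.pow_mem _ hz _
        have hwΩ : ((z ^ 2 ^ i : Nbar) : Y ⧸ P₀) ∈ Ωb := by
          rw [hΩmem]
          refine ⟨(z ^ 2 ^ i).2, ?_, ?_⟩
          · have h1 := congrArg Subtype.val hi2
            simpa using h1
          · intro n hn
            have h1 := Subgroup.mem_center_iff.mp hwc ⟨n, hn⟩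
            exact congrArg Subtype.val h1
        obtain ⟨m, hm⟩ := hπs ((z ^ 2 ^ i : Nbar) : Y ⧸ P₀)
        have hmL : m ∈ L := by
          show π m ∈ Ωb
          rw [hm]; exact hwΩ
        rw [hL0] at hmL
        have h1 : ((z ^ 2 ^ i : Nbar) : Y ⧸ P₀) = 1 := by rw [← hm]; exact (hker m).mpr hmL
        exact hi1 (Subtype.ext h1)
      rintro y ⟨k, hk⟩
      have hyM := hF8 y ⟨k, hk⟩
      have hy0 : y ∈ P₀ := (hker y).mp (hNbot (π y) hyM)
      have hy1 : y = 1 := hpelt y (hpow_of_mem hP₀p y hy0) ⟨k, hk⟩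
      rw [hy1, one_pow]
    · rintro y ⟨k, hk⟩
      have hyL : y ∈ L := by rw [hL1]; exact hF8 y ⟨k, hk⟩
      have h1 : (π y) ^ 2 = 1 := ((hΩmem (π y)).mp hyL).2.1
      have h2 : y ^ 2 ∈ P₀ := by rw [← hker, map_pow]; exact h1
      exact hpelt (y ^ 2) (hpow_of_mem hP₀p _ h2)
        ⟨k, by rw [← pow_mul, mul_comm, pow_mul, hk, one_pow]⟩

/-- A finite group with a maximal Sylow `p`-subgroup (`p` odd) whose quotient by `O_p` has a
normal `p`-complement does not involve `Qd(p)`. -/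
theorem qd_free_of_coatom {Y : Type u} [Group Y] [Finite Y] {p : ℕ} [Fact p.Prime] (hp : p ≠ 2)
    (hnpc : Cfsg.HasNormalPComplement p (Y ⧸ Cfsg.pCore p Y)) (T : Sylow p Y)
    (hT : IsCoatom (T : Subgroup Y)) : ¬ Cfsg.Involves ↥(Cfsg.qd p) Y :=
  fun h => not_e2_qd p hp (E2.of_involves h (e2_of_coatom hp hnpc T hT))

/-- In a group with `C(O_p) ≤ O_p`, a subgroup normalized by a Sylow `p`-subgroup whose
normalizer controls strong fusion is normal. -/
theorem normal_of_controlsStrongFusion {Y : Type u} [Group Y] {p : ℕ} [Fact p.Prime]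
    (hc : Subgroup.centralizer ((Cfsg.pCore p Y : Subgroup Y) : Set Y) ≤ Cfsg.pCore p Y)
    (T : Sylow p Y) (U : Subgroup Y) (hTU : (T : Subgroup Y) ≤ Subgroup.normalizer (U : Set Y))
    (h : Cfsg.ControlsStrongFusion p U) : U.Normal := by
  obtain ⟨T', -, hctl⟩ := h
  have hA : ((Cfsg.pCore p Y : Subgroup Y) : Set Y) ⊆ ((T' : Subgroup Y) : Set Y) :=
    pCore_le_sylow' T'
  obtain ⟨-, h2⟩ := hctl _ hA
  have hn : (Cfsg.pCore p Y).Normal := inferInstance
  apply Subgroup.normalizer_eq_top_iff.mp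
  rw [eq_top_iff]
  intro g _
  obtain ⟨x, hxN, hx⟩ := h2 g (by
    rintro _ ⟨a, ha, rfl⟩
    exact hA (hn.conj_mem a ha g))
  have h3 : x⁻¹ * g ∈ Subgroup.centralizer ((Cfsg.pCore p Y : Subgroup Y) : Set Y) := by
    rw [Subgroup.mem_centralizer_iff]
    intro a ha
    have h4 := hx a ha
    calc a * (x⁻¹ * g) = x⁻¹ * (x * a * x⁻¹) * g := by group
      _ = x⁻¹ * (g * a * g⁻¹) * g := by rw [h4]
      _ = x⁻¹ * g * a := by group
  have h5 : x⁻¹ * g ∈ Subgroup.normalizer (U : Set Y) := hTU (pCore_le_sylow' T (hc h3))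
  have h6 : g = x * (x⁻¹ * g) := by group
  rw [h6]
  exact Subgroup.mul_mem _ hxN h5

end Cfsg.Agent.Lib.Helper51
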