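import Mathlib
import Cfsg.Prelude.Def_ConjugacyFunctors
import Cfsg.Prelude.Def_TwoFusion
import Cfsg.Prelude.Def_Solvable
import Cfsg.Agent.Lib.Helper33.Sect6
import Cfsg.Agent.Lib.Helper33.Sect8
import Cfsg.Agent.Lib.Helper33.Sect9
import Cfsg.Agent.Lib.Helper53.PGroups

/-!
# Control of strong fusion by a functor evaluated at a strongly closed subgroup

Let `Wf` be an isomorphism-invariant `p`-group functor.  If, in every `p`-constrained member `X`
(with `O_{p'}(X) = 1`) of a class of groups closed under subgroups and quotients, `Wf(D)` is normal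
for every subgroup `D` strongly closed in a Sylow `p`-subgroup, then in every member of the class
`N(Wf(D))` controls strong fusion in the Sylow subgroup.
-/

set_option autoImplicit false

universe u

namespace Cfsg.Agent.Lib.Helper51

open Cfsg Cfsg.Agent.Lib.Helper33

variable {p : ℕ}

/-- The subgroup `N` controls strong fusion in `S`. -/
def SCtl {X : Type*} [Group X] (N S : Subgroup X) : Prop :=
  ∀ (A : Set X) (g : X), A ⊆ S → lconj g A ⊆ S → ∃ x ∈ N, ∀ a ∈ A, x * a * x⁻¹ = g * a * g⁻¹

/-- The property proved by induction: for every strongly closed subgroup `D` of a Sylow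
`p`-subgroup `S`, the normaliser of `Wf(D)` controls strong fusion in `S`. -/
def SCP (p : ℕ) (Wf : ∀ (Q : Type u) [Group Q], Subgroup Q) (X : Type u) [Group X] : Prop :=
  ∀ S D : Subgroup X, SylIn p S ⊤ → IsStronglyClosed D S →
    SCtl (Subgroup.normalizer ((inducedFunctor (G := X) Wf D : Subgroup X) : Set X)) S

theorem sc_le_normalizer {X : Type*} [Group X] {D S : Subgroup X}
    (hD : IsStronglyClosed D S) : S ≤ Subgroup.normalizer (D : Set X) := by
  intro s hs
  rw [mem_normalizer_iff_cj]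
  apply le_antisymm
  · rintro _ ⟨x, hx, rfl⟩
    have h1 : s * x * s⁻¹ ∈ S := mul_mem (mul_mem hs (hD.1 hx)) (inv_mem hs)
    exact hD.2 x hx s h1
  · intro x hx
    rw [mem_cj]
    have h1 : s⁻¹ * x * s⁻¹⁻¹ ∈ S := mul_mem (mul_mem (inv_mem hs) (hD.1 hx)) (inv_mem (inv_mem hs))
    have := hD.2 x hx s⁻¹ h1
    rwa [inv_inv] at this

variable {Wf : ∀ (Q : Type u) [Group Q], Subgroup Q}

/-- Transfer of the inductive property from a subgroup `H` to the ambient group. -/
theorem scp_subgroup (hWf : IsCharPFunctor.{u} p Wf) {X : Type u} [Group X] [Finite X]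
    [Fact p.Prime] {H S D : Subgroup X} (ih : SCP p Wf ↥H) (hsyl : SylIn p (S ⊓ H) H)
    (hD : IsStronglyClosed D S) :
    ∀ (A : Set X) (g : X), g ∈ H → A ⊆ ((S ⊓ H : Subgroup X) : Set X) →
      lconj g A ⊆ ((S ⊓ H : Subgroup X) : Set X) →
      ∃ x ∈ H ⊓ Subgroup.normalizer ((inducedFunctor (G := X) Wf (D ⊓ H) : Subgroup X) : Set X),
        ∀ a ∈ A, x * a * x⁻¹ = g * a * g⁻¹ := by
  intro A g hg hA hgA
  have hS' : SylIn p ((S ⊓ H).subgroupOf H) ⊤ :=
    ⟨le_top, hsyl.2.1.comap_subtype, by rw [Subgroup.relIndex_top_right]; exact hsyl.2.2⟩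
  have hD' : IsStronglyClosed ((D ⊓ H).subgroupOf H) ((S ⊓ H).subgroupOf H) := by
    refine ⟨?_, ?_⟩
    · intro x hx
      rw [Subgroup.mem_subgroupOf] at hx ⊢
      exact Subgroup.mem_inf.2 ⟨hD.1 (Subgroup.mem_inf.1 hx).1, (Subgroup.mem_inf.1 hx).2⟩
    · intro x hx k hk
      rw [Subgroup.mem_subgroupOf] at hx hk ⊢
      have h1 : (k : X) * (x : X) * (k : X)⁻¹ ∈ S := (Subgroup.mem_inf.1 hk).1
      exact Subgroup.mem_inf.2 ⟨hD.2 _ (Subgroup.mem_inf.1 hx).1 _ h1, (Subgroup.mem_inf.1 hk).2⟩
  have hDp' : IsPGroup p ((D ⊓ H).subgroupOf H) :=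
    hS'.2.1.to_le hD'.1
  have hA' : H.subtype ⁻¹' A ⊆ (((S ⊓ H).subgroupOf H : Subgroup ↥H) : Set ↥H) := by
    intro a ha
    exact Subgroup.mem_subgroupOf.2 (hA ha)
  have hgA' : lconj (⟨g, hg⟩ : ↥H) (H.subtype ⁻¹' A) ⊆
      (((S ⊓ H).subgroupOf H : Subgroup ↥H) : Set ↥H) := by
    rintro _ ⟨a, ha, rfl⟩
    exact Subgroup.mem_subgroupOf.2 (hgA ⟨(a : X), ha, rfl⟩)
  obtain ⟨x, hx, ex⟩ := ih _ _ hS' hD' (H.subtype ⁻¹' A) ⟨g, hg⟩ hA' hgA'
  refine ⟨(x : X), Subgroup.mem_inf.2 ⟨x.2, ?_⟩, ?_⟩
  · have h1 : (x : X) ∈ (Subgroup.normalizer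
        ((inducedFunctor (G := ↥H) Wf ((D ⊓ H).subgroupOf H) : Subgroup ↥H) : Set ↥H)).map
          H.subtype := ⟨x, hx, rfl⟩
    have h2 := Subgroup.le_normalizer_map H.subtype h1
    have h3 := inducedFunctor_map hWf H.subtype ((D ⊓ H).subgroupOf H) hDp'
      (fun y _ hy => Subtype.ext hy)
    rw [← h3, Subgroup.map_subgroupOf_eq_of_le inf_le_right] at h2
    exact h2
  · intro a ha
    have haH : a ∈ H := (Subgroup.mem_inf.1 (hA ha)).2
    have := ex ⟨a, haH⟩ ha
    exact congrArg Subtype.val this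

/-- Strong closure passes to quotients. -/
theorem sc_quotient {X : Type*} [Group X] [Finite X] [Fact p.Prime] {S D : Subgroup X}
    (hS : SylIn p S ⊤) (hD : IsStronglyClosed D S) (N : Subgroup X) [hN : N.Normal] :
    IsStronglyClosed (D.map (QuotientGroup.mk' N)) (S.map (QuotientGroup.mk' N)) := by
  refine ⟨Subgroup.map_mono hD.1, ?_⟩
  rintro _ ⟨d, hd, rfl⟩ g' h
  obtain ⟨g, rfl⟩ := QuotientGroup.mk'_surjective N g'
  obtain ⟨s, hs, es⟩ := h
  have hpS : IsPGroup p S := hS.2.1
  have hDp : IsPGroup p D := hpS.to_le hD.1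
  have hyN : s⁻¹ * (g * d * g⁻¹) ∈ N := by
    apply (QuotientGroup.eq_one_iff _).1
    have : (QuotientGroup.mk' N) (s⁻¹ * (g * d * g⁻¹)) = 1 := by
      rw [map_mul, map_inv, es, map_mul, map_mul, map_inv]
      group
    exact this
  have hy : g * d * g⁻¹ ∈ S ⊔ N := by
    have e : g * d * g⁻¹ = s * (s⁻¹ * (g * d * g⁻¹)) := by group
    rw [e]
    exact mul_mem (Subgroup.mem_sup_left hs) (Subgroup.mem_sup_right hyN)
  have hzp : IsPGroup p (Subgroup.zpowers (g * d * g⁻¹)) := by
    apply (isPGroup_cj (g := g) hDp).to_le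
    rw [Subgroup.zpowers_le]
    exact conj_mem_cj hd
  have hSL : SylIn p S (S ⊔ N) := hS.of_le le_sup_left le_top
  obtain ⟨k, hk, hkz⟩ := hSL.exists_cj_le ((Subgroup.zpowers_le).2 hy) hzp
  obtain ⟨s₁, hs₁, n₁, hn₁, rfl⟩ := Subgroup.mem_sup_of_normal_right.1 hk
  have h1 : (s₁ * n₁) * (g * d * g⁻¹) * (s₁ * n₁)⁻¹ ∈ S :=
    hkz (conj_mem_cj (Subgroup.mem_zpowers _))
  have h2 : (n₁ * g) * d * (n₁ * g)⁻¹ ∈ S := by
    have e : (n₁ * g) * d * (n₁ * g)⁻¹ =
        s₁⁻¹ * ((s₁ * n₁) * (g * d * g⁻¹) * (s₁ * n₁)⁻¹) * s₁ := by group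
    rw [e]
    exact mul_mem (mul_mem (inv_mem hs₁) h1) hs₁
  have h3 := hD.2 d hd (n₁ * g) h2
  refine ⟨_, h3, ?_⟩
  have hn1 : (QuotientGroup.mk' N) n₁ = 1 := (QuotientGroup.eq_one_iff _).2 hn₁
  rw [map_mul, map_mul, map_inv, map_mul, hn1, one_mul]

/-- Passage to the quotient by a normal `p'`-subgroup. -/
theorem scp_of_quot (hWf : IsCharPFunctor.{u} p Wf) {X : Type u} [Group X] [Finite X]
    [Fact p.Prime] (N : Subgroup X) [N.Normal] (hN : (Nat.card N).Coprime p)
    (h : SCP p Wf (X ⧸ N)) : SCP p Wf X := by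
  intro S D hS hD A g hA hgA
  have hpS : IsPGroup p S := hS.2.1
  have hDp : IsPGroup p D := hpS.to_le hD.1
  have hcfX := isConjugacyFunctor_induced hWf X
  have hVS : inducedFunctor (G := X) Wf D ≤ S := (cf_le hcfX hDp).trans hD.1
  have hSV : S ≤ Subgroup.normalizer ((inducedFunctor (G := X) Wf D : Subgroup X) : Set X) :=
    (sc_le_normalizer hD).trans (cf_normalizer_le hcfX hDp)
  have hS' := hS.map_surjective (QuotientGroup.mk' N) (QuotientGroup.mk'_surjective N)
  have hD' := sc_quotient hS hD N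
  have hA' : (QuotientGroup.mk' N) '' A ⊆
      ((S.map (QuotientGroup.mk' N) : Subgroup (X ⧸ N)) : Set (X ⧸ N)) := by
    rw [Subgroup.coe_map]; exact Set.image_mono hA
  have hgA' : lconj (QuotientGroup.mk' N g) ((QuotientGroup.mk' N) '' A) ⊆
      ((S.map (QuotientGroup.mk' N) : Subgroup (X ⧸ N)) : Set (X ⧸ N)) := by
    rw [lconj_image, Subgroup.coe_map]; exact Set.image_mono hgA
  obtain ⟨x', hx', ex'⟩ := h _ _ hS' hD' _ _ hA' hgA'
  rw [inducedFunctor_map_mk' hWf hN hDp] at hx'
  have hBy : lconj x' ((QuotientGroup.mk' N) '' A) ⊆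
      ((S.map (QuotientGroup.mk' N) : Subgroup (X ⧸ N)) : Set (X ⧸ N)) := by
    rw [lconj_congr ex']; exact hgA'
  obtain ⟨y, hy, rfl, hyA⟩ := step_lift hN hS hVS hSV hx' hA hBy
  refine ⟨y, hy, fun a ha => ?_⟩
  apply mk'_injOn_of_coprime hN hpS (hyA ⟨a, ha, rfl⟩) (hgA ⟨a, ha, rfl⟩)
  have := ex' _ ⟨a, ha, rfl⟩
  rw [map_mul, map_mul, map_inv, map_mul, map_mul, map_inv]
  exact this

/-! ### The conjugacy functor attached to a strongly closed subgroup -/

/-- The subgroup of `Q` generated by its elements conjugate into `D`. -/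
def scPart {X : Type*} [Group X] (D Q : Subgroup X) : Subgroup X :=
  Subgroup.closure {x | x ∈ Q ∧ ∃ g : X, g * x * g⁻¹ ∈ D}

theorem scPart_le {X : Type*} [Group X] (D Q : Subgroup X) : scPart D Q ≤ Q := by
  unfold scPart
  rw [Subgroup.closure_le]
  intro x hx
  exact hx.1

theorem scPart_cj {X : Type*} [Group X] (D Q : Subgroup X) (k : X) :
    scPart D (cj k Q) = cj k (scPart D Q) := by
  unfold scPart
  rw [cj_closure]
  congr 1
  ext x
  constructor
  · rintro ⟨hx, g, hg⟩
    refine ⟨k⁻¹ * x * k, ⟨mem_cj.1 hx, g * k, ?_⟩, by group⟩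
    have e : g * k * (k⁻¹ * x * k) * (g * k)⁻¹ = g * x * g⁻¹ := by group
    rw [e]; exact hg
  · rintro ⟨a, ⟨ha, g, hg⟩, rfl⟩
    refine ⟨conj_mem_cj ha, g * k⁻¹, ?_⟩
    have e : g * k⁻¹ * (k * a * k⁻¹) * (g * k⁻¹)⁻¹ = g * a * g⁻¹ := by group
    rw [e]; exact hg

theorem scPart_eq_of_le {X : Type*} [Group X] {D S Q : Subgroup X}
    (hD : IsStronglyClosed D S) (hQ : Q ≤ S) : scPart D Q = D ⊓ Q := by
  unfold scPart
  have : {x | x ∈ Q ∧ ∃ g : X, g * x * g⁻¹ ∈ D} = ((D ⊓ Q : Subgroup X) : Set X) := by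
    ext x
    constructor
    · rintro ⟨hx, g, hg⟩
      refine Subgroup.mem_inf.2 ⟨?_, hx⟩
      have h1 : g⁻¹ * (g * x * g⁻¹) * g⁻¹⁻¹ ∈ S := by
        have e : g⁻¹ * (g * x * g⁻¹) * g⁻¹⁻¹ = x := by group
        rw [e]; exact hQ hx
      have h2 := hD.2 _ hg g⁻¹ h1
      have e : g⁻¹ * (g * x * g⁻¹) * g⁻¹⁻¹ = x := by group
      rwa [e] at h2
    · intro hx
      refine ⟨(Subgroup.mem_inf.1 hx).2, 1, ?_⟩
      rw [one_mul, inv_one, mul_one]
      exact (Subgroup.mem_inf.1 hx).1
  rw [this, Subgroup.closure_eq]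

open Classical in
/-- The conjugacy functor `Q ↦ Wf(Q ∩ D)` (for `Q` inside the Sylow subgroup), extended to all
`p`-subgroups by conjugation, and made nontrivial where `Q ∩ D = 1`. -/
noncomputable def scFun {X : Type u} [Group X] (Wf : ∀ (Q : Type u) [Group Q], Subgroup Q)
    (D : Subgroup X) : Subgroup X → Subgroup X :=
  fun Q => if scPart D Q = ⊥ then Q else inducedFunctor (G := X) Wf (scPart D Q)

theorem scFun_of_ne {X : Type u} [Group X] (Wf : ∀ (Q : Type u) [Group Q], Subgroup Q)
    (D Q : Subgroup X) (h : scPart D Q ≠ ⊥) :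
    scFun Wf D Q = inducedFunctor (G := X) Wf (scPart D Q) := by
  unfold scFun
  rw [if_neg h]

theorem scFun_of_eq {X : Type u} [Group X] (Wf : ∀ (Q : Type u) [Group Q], Subgroup Q)
    (D Q : Subgroup X) (h : scPart D Q = ⊥) : scFun Wf D Q = Q := by
  unfold scFun
  rw [if_pos h]

theorem scFun_isConjugacyFunctor (hWf : IsCharPFunctor.{u} p Wf) {X : Type u} [Group X]
    [Finite X] (D : Subgroup X) : IsConjugacyFunctor p (scFun Wf D) := by
  have hcf := isConjugacyFunctor_induced hWf X
  intro Q hQ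
  have hQ' : IsPGroup p (scPart D Q) := hQ.to_le (scPart_le D Q)
  refine ⟨?_, ?_, ?_⟩
  · by_cases h : scPart D Q = ⊥
    · rw [scFun_of_eq Wf D Q h]
    · rw [scFun_of_ne Wf D Q h]
      exact (cf_le hcf hQ').trans (scPart_le D Q)
  · intro hne
    by_cases h : scPart D Q = ⊥
    · rw [scFun_of_eq Wf D Q h]; exact hne
    · rw [scFun_of_ne Wf D Q h]
      exact (hcf _ hQ').2.1 h
  · intro g
    show scFun Wf D (cj g Q) = cj g (scFun Wf D Q)
    by_cases h : scPart D Q = ⊥
    · have h' : scPart D (cj g Q) = ⊥ := by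
        rw [scPart_cj, h]; exact Subgroup.map_bot _
      rw [scFun_of_eq Wf D Q h, scFun_of_eq Wf D _ h']
    · have h' : scPart D (cj g Q) ≠ ⊥ := by
        rw [scPart_cj]
        intro hbot
        apply h
        have := cj_inv_cj g (scPart D Q)
        rw [hbot] at this
        rw [← this]
        exact Subgroup.map_bot _
      rw [scFun_of_ne Wf D Q h, scFun_of_ne Wf D _ h', scPart_cj]
      exact cf_cj_eq hcf hQ' g

/-- Local-to-global: control in the normalisers of the nontrivial subgroups of `S` gives control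
in the whole group. -/
theorem scp_local (hWf : IsCharPFunctor.{u} p Wf) {X : Type u} [Group X] [Finite X]
    [Fact p.Prime] {S D : Subgroup X} (hS : SylIn p S ⊤) (hD : IsStronglyClosed D S)
    (hDne : D ≠ ⊥)
    (hloc : ∀ T : Subgroup X, T ≤ S → T ≠ ⊥ →
      SylIn p (S ⊓ Subgroup.normalizer (T : Set X)) (Subgroup.normalizer (T : Set X)) →
      ∀ (A : Set X) (g : X), g ∈ Subgroup.normalizer (T : Set X) →
        A ⊆ ((S ⊓ Subgroup.normalizer (T : Set X) : Subgroup X) : Set X) →
        lconj g A ⊆ ((S ⊓ Subgroup.normalizer (T : Set X) : Subgroup X) : Set X) →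
        ∃ x ∈ Subgroup.normalizer (T : Set X) ⊓ Subgroup.normalizer
            ((inducedFunctor (G := X) Wf (D ⊓ Subgroup.normalizer (T : Set X)) : Subgroup X) :
              Set X),
          ∀ a ∈ A, x * a * x⁻¹ = g * a * g⁻¹) :
    SCtl (Subgroup.normalizer ((inducedFunctor (G := X) Wf D : Subgroup X) : Set X)) S := by
  have hpS : IsPGroup p S := hS.2.1
  have hDS : D ≤ S := hD.1
  have hcf := scFun_isConjugacyFunctor hWf (X := X) D
  have h𝓦 : ∀ W ∈ ({scFun Wf D} : Set (Subgroup X → Subgroup X)), IsConjugacyFunctor p W := by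
    rintro W rfl; exact hcf
  -- a nontrivial element of `D` central in `S`
  obtain ⟨z, hzD, hz1, hzc⟩ := Cfsg.Agent.Lib.Helper53.exists_mem_center_of_normal_subgroup hpS hDS
    (sc_le_normalizer hD) hDne
  have hzC : z ∈ Subgroup.centralizer (S : Set X) := Subgroup.mem_centralizer_iff.2 hzc
  have hzN : ∀ T : Subgroup X, T ≤ S → z ∈ Subgroup.normalizer (T : Set X) := fun T hT =>
    Subgroup.centralizer_le_normalizer _
      (Subgroup.centralizer_le (SetLike.coe_subset_coe.2 hT) hzC)
  -- the value of the functor at subgroups containing `z`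
  have hval : ∀ Q : Subgroup X, Q ≤ S → z ∈ Q →
      scFun Wf D Q = inducedFunctor (G := X) Wf (D ⊓ Q) := by
    intro Q hQ hzQ
    have e := scPart_eq_of_le hD hQ
    have hne : scPart D Q ≠ ⊥ := by
      rw [e]
      intro hbot
      have : z ∈ D ⊓ Q := Subgroup.mem_inf.2 ⟨hzD, hzQ⟩
      rw [hbot, Subgroup.mem_bot] at this
      exact hz1 this
    rw [scFun_of_ne Wf D Q hne, e]
  let S₀ : Sylow p X := hpS.toSylow (by have := hS.2.2; rwa [Subgroup.relIndex_top_right] at this)
  have hS₀ : (S₀ : Subgroup X) = S := rfl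
  have key := familyControlsStrongFusion_of_local S₀ {scFun Wf D} h𝓦 (by
    intro T hT hTne hsyl
    rw [hS₀] at hT hsyl
    have hsyl' : SylIn p (S ⊓ Subgroup.normalizer (T : Set X)) (Subgroup.normalizer (T : Set X)) :=
      ⟨inf_le_right, hpS.to_le inf_le_left, hsyl⟩
    refine familyControlsStrongFusionIn_iff_exists.2
      ⟨S ⊓ Subgroup.normalizer (T : Set X), hsyl', ?_⟩
    intro A h hh hA hhA
    obtain ⟨x, hx, ex⟩ := hloc T hT hTne hsyl' A h hh hA hhA
    refine ⟨x, FRel.single hA ⟨scFun Wf D, rfl, ?_⟩ ?_, ex⟩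
    · rw [hval _ inf_le_left (Subgroup.mem_inf.2 ⟨hDS hzD, hzN T hT⟩)]
      have e : D ⊓ (S ⊓ Subgroup.normalizer (T : Set X)) = D ⊓ Subgroup.normalizer (T : Set X) := by
        rw [← inf_assoc, inf_eq_left.2 hDS]
      rw [e]; exact hx
    · rw [lconj_congr ex]; exact hhA)
  have hctrl := (familyControlsStrongFusionIn_iff h𝓦 hS).1 key
  intro A g hA hgA
  obtain ⟨c, hc, ec⟩ := hctrl A g (Subgroup.mem_top _) hA hgA
  refine ⟨c, hc.mem_normalizer_of_forall (V := inducedFunctor (G := X) Wf D) ?_, ec⟩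
  rintro W' rfl
  rw [hval S le_rfl (hDS hzD), inf_eq_left.2 hDS]

/-! ### The inductive step -/

/-- The inductive step: the property holds in `X` if it holds in all proper subgroups and proper
quotients, and `Wf(D)` is normal when `X` is `p`-constrained with `O_{p'}(X) = 1`. -/
theorem scp_step (hWf : IsCharPFunctor.{u} p Wf) {X : Type u} [Group X] [Finite X]
    [Fact p.Prime]
    (hsubX : ∀ H : Subgroup X, H ≠ ⊤ → SCP p Wf ↥H)
    (hquoX : ∀ (N : Subgroup X) [N.Normal], N ≠ ⊥ → SCP p Wf (X ⧸ N))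
    (hcon : Subgroup.centralizer ((pCore p X : Subgroup X) : Set X) ≤ pCore p X →
      ∀ S D : Subgroup X, SylIn p S ⊤ → IsStronglyClosed D S →
        (inducedFunctor (G := X) Wf D).Normal) :
    SCP p Wf X := by
  intro S D hS hD
  have hpS : IsPGroup p S := hS.2.1
  have hDS : D ≤ S := hD.1
  have hDp : IsPGroup p D := hpS.to_le hDS
  have hcfX := isConjugacyFunctor_induced hWf X
  have hVD : inducedFunctor (G := X) Wf D ≤ D := cf_le hcfX hDp
  have hVS : inducedFunctor (G := X) Wf D ≤ S := hVD.trans hDS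
  have hSV : S ≤ Subgroup.normalizer ((inducedFunctor (G := X) Wf D : Subgroup X) : Set X) :=
    (sc_le_normalizer hD).trans (cf_normalizer_le hcfX hDp)
  -- the trivial case
  have triv : (inducedFunctor (G := X) Wf D).Normal →
      SCtl (Subgroup.normalizer ((inducedFunctor (G := X) Wf D : Subgroup X) : Set X)) S := by
    intro hn A g _ _
    exact ⟨g, by rw [Subgroup.normalizer_eq_top_iff.2 hn]; trivial, fun _ _ => rfl⟩
  by_cases hc : Subgroup.centralizer ((pCore p X : Subgroup X) : Set X) ≤ pCore p X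
  · exact triv (hcon hc S D hS hD)
  by_cases hOp : NoPPrime p X
  swap
  · unfold NoPPrime at hOp
    push Not at hOp
    obtain ⟨N, hNn, hNc, hNne⟩ := hOp
    exact scp_of_quot hWf N hNc (hquoX N hNne) S D hS hD
  have hPn : (pCore p X).Normal := pCore_normal p X
  have hPp : IsPGroup p (pCore p X) := pCore_isPGroup p X
  have hPS : pCore p X ≤ S := pCore_le_sylIn hS
  -- control in proper subgroups containing `S`
  have hsubctl : ∀ H : Subgroup X, H ≠ ⊤ → S ≤ H → ∀ (A : Set X) (g : X), g ∈ H → A ⊆ S →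
      lconj g A ⊆ S →
      ∃ x ∈ H ⊓ Subgroup.normalizer ((inducedFunctor (G := X) Wf D : Subgroup X) : Set X),
        ∀ a ∈ A, x * a * x⁻¹ = g * a * g⁻¹ := by
    intro H hH hSH A g hg hA hgA
    have e1 : S ⊓ H = S := inf_eq_left.2 hSH
    have e2 : D ⊓ H = D := inf_eq_left.2 (hDS.trans hSH)
    have := scp_subgroup hWf (hsubX H hH) (by rw [e1]; exact hS.of_le hSH le_top) hD A g hg
      (by rw [e1]; exact hA) (by rw [e1]; exact hgA)
    rwa [e2] at this
  by_cases hP : pCore p X = ⊥
  · -- `O_p(X) = 1`: all local subgroups are proper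
    by_cases hDbot : D = ⊥
    · apply triv
      have : inducedFunctor (G := X) Wf D = ⊥ := by
        apply le_bot_iff.1
        rw [← hDbot]; exact hVD
      rw [this]; infer_instance
    · apply scp_local hWf hS hD hDbot
      intro T hT hTne hsyl
      have hTtop : Subgroup.normalizer (T : Set X) ≠ ⊤ := by
        intro htop
        apply hTne
        have hTn : T.Normal := Subgroup.normalizer_eq_top_iff.1 htop
        have := le_pCore hTn (hpS.to_le hT)
        rw [hP] at this
        exact le_bot_iff.1 this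
      exact scp_subgroup hWf (hsubX _ hTtop) hsyl hD
  · have hCn : (Subgroup.centralizer ((pCore p X : Subgroup X) : Set X)).Normal := inferInstance
    have hKn : (pCore p X ⊔ Subgroup.centralizer ((pCore p X : Subgroup X) : Set X)).Normal :=
      inferInstance
    -- the normaliser of `S ∩ PC` is proper
    have hN₁ : Subgroup.normalizer (((S : Subgroup X) ⊓ (pCore p X ⊔
        Subgroup.centralizer ((pCore p X : Subgroup X) : Set X)) : Subgroup X) : Set X) ≠ ⊤ := by
      intro htop
      apply hc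
      have hS₁n := Subgroup.normalizer_eq_top_iff.1 htop
      have hS₁P := le_pCore hS₁n (hpS.to_le inf_le_left)
      have h1 : (S : Subgroup X) ⊓ Subgroup.centralizer ((pCore p X : Subgroup X) : Set X) ≤
          pCore p X := (inf_le_inf_left _ le_sup_right).trans hS₁P
      exact le_pCore hCn (isPGroup_centralizer_of_inf_le hOp hS h1)
    have hSN₁ : (S : Subgroup X) ≤ Subgroup.normalizer (((S : Subgroup X) ⊓ (pCore p X ⊔
        Subgroup.centralizer ((pCore p X : Subgroup X) : Set X)) : Subgroup X) : Set X) := by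
      intro s hs
      rw [mem_normalizer_iff_cj, cj_inf, cj_eq_self_of_mem hs, cj_eq_self_of_normal hKn]
    by_cases hM : (S : Subgroup X) ⊔ Subgroup.centralizer ((pCore p X : Subgroup X) : Set X) = ⊤
    · -- `X = S C_X(P)`
      by_cases hDQ : D ≤ pCore p X
      · -- `D` is normal
        apply triv
        have hDn : Subgroup.normalizer (D : Set X) = ⊤ := by
          rw [eq_top_iff]
          intro g _
          rw [mem_normalizer_iff_cj]
          apply eq_of_le_of_card_le _ (by rw [card_cj])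
          rintro _ ⟨d, hd, rfl⟩
          exact hD.2 d hd g (hPS (hPn.conj_mem d (hDQ hd) g))
        apply Subgroup.normalizer_eq_top_iff.1
        rw [eq_top_iff, ← hDn]
        exact cf_normalizer_le hcfX hDp
      · -- the main case: induction in `X / O_p(X)` and in the preimage of a normaliser
        have hsurj := QuotientGroup.mk'_surjective (pCore p X)
        have hS' := hS.map_surjective (QuotientGroup.mk' (pCore p X)) hsurj
        have hD' := sc_quotient hS hD (pCore p X)
        have hD'p : IsPGroup p (D.map (QuotientGroup.mk' (pCore p X))) := hDp.map _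
        have hcf' := isConjugacyFunctor_induced hWf (X ⧸ pCore p X)
        have hctrlQ := hquoX (pCore p X) hP _ _ hS' hD'
        obtain ⟨H₁, hH₁⟩ : ∃ H₁ : Subgroup X, H₁ = Subgroup.comap (QuotientGroup.mk' (pCore p X))
            (Subgroup.normalizer ((inducedFunctor (G := X ⧸ pCore p X) Wf
              (D.map (QuotientGroup.mk' (pCore p X))) : Subgroup (X ⧸ pCore p X)) :
                Set (X ⧸ pCore p X))) := ⟨_, rfl⟩
        have hSH₁ : S ≤ H₁ := by
          intro s hs
          rw [hH₁, Subgroup.mem_comap]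
          exact cf_normalizer_le hcf' hD'p (sc_le_normalizer hD' ⟨s, hs, rfl⟩)
        have hH₁ne : H₁ ≠ ⊤ := by
          intro htop
          have hNtop : Subgroup.normalizer ((inducedFunctor (G := X ⧸ pCore p X) Wf
              (D.map (QuotientGroup.mk' (pCore p X))) : Subgroup (X ⧸ pCore p X)) :
                Set (X ⧸ pCore p X)) = ⊤ := by
            apply Subgroup.comap_injective hsurj
            rw [← hH₁, htop, Subgroup.comap_top]
          have hVn := Subgroup.normalizer_eq_top_iff.1 hNtop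
          have hD'ne : D.map (QuotientGroup.mk' (pCore p X)) ≠ ⊥ := by
            intro hbot
            rw [Subgroup.map_eq_bot_iff, QuotientGroup.ker_mk'] at hbot
            exact hDQ hbot
          have hVne := (hcf' _ hD'p).2.1 hD'ne
          have hle : Subgroup.comap (QuotientGroup.mk' (pCore p X))
              (inducedFunctor (G := X ⧸ pCore p X) Wf
                (D.map (QuotientGroup.mk' (pCore p X)))) ≤ S := by
            have h1 := Subgroup.comap_mono (f := QuotientGroup.mk' (pCore p X))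
              ((cf_le hcf' hD'p).trans hD'.1)
            rw [QuotientGroup.comap_map_mk', sup_eq_right.2 hPS] at h1
            exact h1
          have h2 := le_pCore (hVn.comap (QuotientGroup.mk' (pCore p X))) (hpS.to_le hle)
          apply hVne
          rw [← Subgroup.map_comap_eq_self_of_surjective hsurj
            (inducedFunctor (G := X ⧸ pCore p X) Wf (D.map (QuotientGroup.mk' (pCore p X))))]
          apply le_bot_iff.1
          refine (Subgroup.map_mono h2).trans ?_
          rw [QuotientGroup.map_mk'_self]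
        have hctrlH := hsubctl H₁ hH₁ne hSH₁
        intro A g hA hgA
        have hcl : Subgroup.closure A ≤ (S : Subgroup X) := (Subgroup.closure_le _).2 hA
        have hcl' : cj g⁻¹⁻¹ (Subgroup.closure A) ≤ (S : Subgroup X) := by
          rw [inv_inv, cj_closure, Subgroup.closure_le]
          exact hgA
        have key := alperin_induction hS
          (fun A g => ∃ c ∈ Subgroup.normalizer
            ((inducedFunctor (G := X) Wf D : Subgroup X) : Set X),
              ∀ a ∈ A, c * a * c⁻¹ = g⁻¹ * a * g)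
          (by
            rintro A g h ⟨c₁, hc₁, e1⟩ ⟨c₂, hc₂, e2⟩
            refine ⟨c₂ * c₁, mul_mem hc₂ hc₁, fun a ha => ?_⟩
            have hmem : g⁻¹ * a * g ∈ cj g⁻¹ A := by
              have := conj_mem_cj (g := g⁻¹) ha
              rwa [inv_inv] at this
            have e3 := e2 (g⁻¹ * a * g) hmem
            calc c₂ * c₁ * a * (c₂ * c₁)⁻¹ = c₂ * (c₁ * a * c₁⁻¹) * c₂⁻¹ := by group
              _ = c₂ * (g⁻¹ * a * g) * c₂⁻¹ := by rw [e1 a ha]
              _ = h⁻¹ * (g⁻¹ * a * g) * h := e3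
              _ = (g * h)⁻¹ * a * (g * h) := by group)
          (fun A B g hBA ⟨c, hc, e⟩ => ⟨c, hc, fun a ha => e a (hBA ha)⟩)
          (by
            rintro A g ⟨c, hc, e⟩
            refine ⟨c⁻¹, inv_mem hc, ?_⟩
            intro b hb
            have ha : g * b * g⁻¹ ∈ A := by
              have := mem_cj.1 hb
              rwa [inv_inv] at this
            have e1 := e _ ha
            have e2 : g⁻¹ * (g * b * g⁻¹) * g = b := by group
            rw [e2] at e1
            calc c⁻¹ * b * c⁻¹⁻¹ = c⁻¹ * (c * (g * b * g⁻¹) * c⁻¹) * c⁻¹⁻¹ := by rw [e1]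
              _ = g⁻¹⁻¹ * b * g⁻¹ := by group)
          (by
            intro U hU hsyl IHa m hm
            by_cases hPU : pCore p X ≤ U
            · have hmi : m⁻¹ ∈ Subgroup.normalizer (U : Set X) := inv_mem hm
              have hconj : ∀ {n : X}, n ∈ Subgroup.normalizer (U : Set X) → ∀ {u : X}, u ∈ U →
                  n * u * n⁻¹ ∈ U := fun {n} hn {u} hu => (Subgroup.mem_normalizer_iff.1 hn u).1 hu
              have hU' : (QuotientGroup.mk' (pCore p X)) '' (U : Set X) ⊆
                  (((S : Subgroup X).map (QuotientGroup.mk' (pCore p X)) :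
                    Subgroup (X ⧸ pCore p X)) : Set (X ⧸ pCore p X)) := by
                rw [Subgroup.coe_map]; exact Set.image_mono hU
              have hmU' : lconj (QuotientGroup.mk' (pCore p X) m⁻¹)
                  ((QuotientGroup.mk' (pCore p X)) '' (U : Set X)) ⊆
                  (((S : Subgroup X).map (QuotientGroup.mk' (pCore p X)) :
                    Subgroup (X ⧸ pCore p X)) : Set (X ⧸ pCore p X)) := by
                rw [lconj_image, Subgroup.coe_map]
                apply Set.image_mono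
                rintro _ ⟨u, hu, rfl⟩
                exact hU (hconj hmi hu)
              obtain ⟨c₀, hc₀, ec₀⟩ := hctrlQ _ (QuotientGroup.mk' (pCore p X) m⁻¹) hU' hmU'
              obtain ⟨c, rfl⟩ := hsurj c₀
              have hcH : c ∈ H₁ := by
                rw [hH₁, Subgroup.mem_comap]; exact hc₀
              have hrel : ∀ u ∈ U, (m⁻¹ * u * m⁻¹⁻¹)⁻¹ * (c * u * c⁻¹) ∈ pCore p X := by
                intro u hu
                apply QuotientGroup.eq.1
                have := ec₀ _ ⟨u, hu, rfl⟩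
                show QuotientGroup.mk' (pCore p X) (m⁻¹ * u * m⁻¹⁻¹) =
                  QuotientGroup.mk' (pCore p X) (c * u * c⁻¹)
                rw [map_mul, map_mul, map_inv, map_mul, map_mul, map_inv]
                exact this.symm
              have hcU : ∀ u ∈ U, c * u * c⁻¹ ∈ U := by
                intro u hu
                have h1 := hPU (hrel u hu)
                have h2 := mul_mem (hconj hmi hu) h1
                rwa [mul_inv_cancel_left] at h2
              have hcN : c ∈ Subgroup.normalizer (U : Set X) := by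
                rw [mem_normalizer_iff_cj]
                apply eq_of_le_of_card_le _ (by rw [card_cj])
                rintro _ ⟨u, hu, rfl⟩
                exact hcU u hu
              have hcUS : lconj c (U : Set X) ⊆ S := by
                rintro _ ⟨u, hu, rfl⟩
                exact hU (hcU u hu)
              obtain ⟨c', hc', ec'⟩ := hctrlH (U : Set X) c hcH hU hcUS
              have hrN : m⁻¹ * c⁻¹ ∈ Subgroup.normalizer (U : Set X) :=
                mul_mem hmi (inv_mem hcN)
              have hrU : ∀ u ∈ U, (m⁻¹ * c⁻¹) * u * (m⁻¹ * c⁻¹)⁻¹ * u⁻¹ ∈ pCore p X := by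
                intro u hu
                have hu' : c⁻¹ * u * c ∈ U := by
                  have := hconj (inv_mem hcN) hu
                  rwa [inv_inv] at this
                have h1 := hrel _ hu'
                have e : (m⁻¹ * c⁻¹) * u * (m⁻¹ * c⁻¹)⁻¹ * u⁻¹ =
                    u * ((m⁻¹ * (c⁻¹ * u * c) * m⁻¹⁻¹)⁻¹ * (c * (c⁻¹ * u * c) * c⁻¹))⁻¹ * u⁻¹ := by
                  group
                rw [e]
                exact hPn.conj_mem _ (inv_mem h1) u
              obtain ⟨s, hs, es⟩ := stability_lemma hPp hpS hM hsyl hrN hrU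
              have hsS : s ∈ (S : Subgroup X) := (Subgroup.mem_inf.1 hs).1
              refine ⟨s * c', mul_mem (hSV hsS) (Subgroup.mem_inf.1 hc').2, fun u hu => ?_⟩
              have e1 := ec' u hu
              have e2 := es (c * u * c⁻¹) (hcU u hu)
              calc s * c' * u * (s * c')⁻¹ = s * (c' * u * c'⁻¹) * s⁻¹ := by group
                _ = s * (c * u * c⁻¹) * s⁻¹ := by rw [e1]
                _ = (m⁻¹ * c⁻¹) * (c * u * c⁻¹) * (m⁻¹ * c⁻¹)⁻¹ := e2
                _ = m⁻¹ * u * m := by group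
            · have hlt : U < U ⊔ pCore p X :=
                lt_of_le_of_ne le_sup_left (fun h => hPU (by rw [h]; exact le_sup_right))
              have hle : U ⊔ pCore p X ≤ (S : Subgroup X) := sup_le hU hPS
              have hcj : cj m⁻¹ (U ⊔ pCore p X) ≤ (S : Subgroup X) := by
                have e : cj m⁻¹ (U ⊔ pCore p X) = cj m⁻¹ U ⊔ cj m⁻¹ (pCore p X) :=
                  Subgroup.map_sup _ _ _
                rw [e, mem_normalizer_iff_cj.1 (inv_mem hm), cj_eq_self_of_normal hPn]
                exact hle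
              obtain ⟨c, hc, ec⟩ := IHa _ hle (card_lt_of_lt hlt) m hcj
              exact ⟨c, hc, fun u hu => ec u (Subgroup.mem_sup_left hu)⟩)
          (Subgroup.closure A) hcl g⁻¹ hcl'
        obtain ⟨c, hc, ec⟩ := key
        refine ⟨c, hc, fun a ha => ?_⟩
        rw [ec a (Subgroup.subset_closure ha), inv_inv]
    · -- `S C_X(P)` is a proper subgroup
      have hctrlM := hsubctl _ hM le_sup_left
      have hctrlN := hsubctl _ hN₁ hSN₁
      intro A g hA hgA
      obtain ⟨g₁, hg₁, g₂, hg₂, rfl, hg₁A⟩ := exists_factor_of_mul hS hSN₁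
        (fun g => frattini_factor hS hPS g) hA hgA
      obtain ⟨c₁, hc₁, e₁⟩ := hctrlM A g₁ hg₁ hA hg₁A
      obtain ⟨c₂, hc₂, e₂⟩ := hctrlN (lconj g₁ A) g₂ hg₂ hg₁A
        (by rw [← lconj_mul]; exact hgA)
      refine ⟨c₂ * c₁, mul_mem (Subgroup.mem_inf.1 hc₂).2 (Subgroup.mem_inf.1 hc₁).2,
        fun a ha => ?_⟩
      have e3 := e₂ (g₁ * a * g₁⁻¹) ⟨a, ha, rfl⟩
      calc c₂ * c₁ * a * (c₂ * c₁)⁻¹ = c₂ * (c₁ * a * c₁⁻¹) * c₂⁻¹ := by group
        _ = c₂ * (g₁ * a * g₁⁻¹) * c₂⁻¹ := by rw [e₁ a ha]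
        _ = g₂ * (g₁ * a * g₁⁻¹) * g₂⁻¹ := e3
        _ = g₂ * g₁ * a * (g₂ * g₁)⁻¹ := by group

/-- Induction over a class of finite groups closed under subgroups and quotients: if `Wf(D)` is
normal in the `p`-constrained members (with trivial `p'`-core), then `N(Wf(D))` controls strong
fusion in every member. -/
theorem scp_induction [Fact p.Prime] (hWf : IsCharPFunctor.{u} p Wf)
    (𝒳 : ∀ (X : Type u) [Group X], Prop)
    (hfin : ∀ (X : Type u) [Group X], 𝒳 X → Finite X)
    (hsub : ∀ (X : Type u) [Group X], 𝒳 X → ∀ H : Subgroup X, 𝒳 ↥H)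
    (hquo : ∀ (X : Type u) [Group X], 𝒳 X → ∀ (N : Subgroup X) [N.Normal], 𝒳 (X ⧸ N))
    (hcon : ∀ (X : Type u) [Group X], 𝒳 X →
      Subgroup.centralizer ((pCore p X : Subgroup X) : Set X) ≤ pCore p X →
      ∀ S D : Subgroup X, SylIn p S ⊤ → IsStronglyClosed D S →
        (inducedFunctor (G := X) Wf D).Normal) :
    ∀ (X : Type u) [Group X], 𝒳 X → SCP p Wf X := by
  have key : ∀ n : ℕ, ∀ (X : Type u) [Group X], 𝒳 X → Nat.card X = n → SCP p Wf X := by
    intro n
    induction n using Nat.strong_induction_on with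
    | _ n ih =>
      intro X _ hX hn
      have := hfin X hX
      apply scp_step hWf
      · intro H hH
        exact ih _ (by rw [← hn]; exact card_subgroup_lt_of_ne_top hH) ↥H (hsub X hX H) rfl
      · intro N _ hN
        exact ih _ (by rw [← hn]; exact card_quotient_lt_of_ne_bot hN) (X ⧸ N) (hquo X hX N) rfl
      · exact hcon X hX
  intro X _ hX
  exact key _ X hX rfl

end Cfsg.Agent.Lib.Helper51
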