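import Mathlib
import Cfsg.Prelude.Def_Transfer
import Cfsg.Prelude.Def_PLocal
import Cfsg.Prelude.Def_TwoFusion
import Cfsg.Prelude.Def_LocalEven
import Cfsg.Agent.Lib.Helper11.ZJ
import Cfsg.Agent.Lib.Helper51.ReplOdd

set_option autoImplicit false
open scoped commutatorElement

namespace Cfsg.Agent.Lib.Helper51

universe u

/-- A Sylow subgroup normalizes each of its strongly closed subgroups. -/
theorem stronglyClosed_le_normalizer {G : Type u} [Group G] {D S : Subgroup G}
    (hD : Cfsg.IsStronglyClosed D S) : S ≤ Subgroup.normalizer (D : Set G) := by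
  apply Helper11.le_normalizer_of_map_conj_le
  intro s hs
  rintro _ ⟨x, hx, rfl⟩
  have h1 : s * x * s⁻¹ ∈ S := mul_mem (mul_mem hs (hD.1 hx)) (inv_mem hs)
  exact hD.2 x hx s h1

/-- For `L` normal, the normalizer of `S ∩ L` normalizes `D ∩ L` when `D` is strongly closed. -/
theorem stronglyClosed_normalizer_inf {G : Type u} [Group G] {D S : Subgroup G}
    (hD : Cfsg.IsStronglyClosed D S) (L : Subgroup G) [L.Normal] :
    Subgroup.normalizer ((S ⊓ L : Subgroup G) : Set G) ≤
      Subgroup.normalizer ((D ⊓ L : Subgroup G) : Set G) := by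
  apply Helper11.le_normalizer_of_map_conj_le
  intro g hg
  rintro _ ⟨x, hx, rfl⟩
  have hx' := Subgroup.mem_inf.mp hx
  have hxP : x ∈ S ⊓ L := Subgroup.mem_inf.mpr ⟨hD.1 hx'.1, hx'.2⟩
  have h1 : g * x * g⁻¹ ∈ S ⊓ L := (Subgroup.mem_normalizer_iff.mp hg x).mp hxP
  have h1' := Subgroup.mem_inf.mp h1
  exact Subgroup.mem_inf.mpr ⟨hD.2 x hx'.1 g h1'.1, h1'.2⟩

/-- Key step of the ZJ-theorem for a strongly closed subgroup `D`: `Z ∩ B` is normal in `G` for
every normal `p`-subgroup `B` inside `D`. -/
theorem zj_inf_normal_sc {G : Type u} [Group G] [Finite G] {p : ℕ} [Fact p.Prime] (hp : p ≠ 2)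
    (hst : ∀ (P : Subgroup G) [P.Normal], IsPGroup p P → Cfsg.IsPStableOn p P) (S : Sylow p G)
    (D : Subgroup G) (hD : Cfsg.IsStronglyClosed D (S : Subgroup G))
    {Φ : Subgroup G → Prop} (hΦ : Helper11.ReplClass Φ) :
    ∀ (n : ℕ) (B : Subgroup G), B.Normal → IsPGroup p B → B ≤ D → Nat.card B ≤ n →
      (sInf (Helper11.maxIn Φ D) ⊓ B).Normal := by
  have hDS : D ≤ (S : Subgroup G) := hD.1
  have hSD : (S : Subgroup G) ≤ Subgroup.normalizer (D : Set G) := stronglyClosed_le_normalizer hD
  have hDp : IsPGroup p D := S.isPGroup'.to_le hDS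
  intro n
  induction n with
  | zero =>
    intro B hBn hBp hBD hcard
    have := Nat.card_pos (α := B)
    omega
  | succ n ih =>
    intro B hBn hBp hBD hcard
    have := hBn
    set Z := sInf (Helper11.maxIn Φ D) with hZ
    have hBS : B ≤ S := hBD.trans hDS
    have hSZ : (S : Subgroup G) ≤ Subgroup.normalizer (Z : Set G) :=
      hSD.trans (Helper11.normalizer_le_normalizer_sInf_maxIn hΦ.map_equiv D)
    set Z₁ := Z ⊓ B with hZ₁
    set B₁ := Subgroup.normalClosure (Z₁ : Set G) with hB₁def
    have hB₁B : B₁ ≤ B := Subgroup.normalClosure_le_normal (inf_le_right : Z₁ ≤ B)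
    have hZ₁B₁ : Z₁ ≤ B₁ := Subgroup.le_normalClosure
    have hZB₁ : Z ⊓ B₁ = Z₁ := le_antisymm (inf_le_inf_left _ hB₁B) (le_inf inf_le_left hZ₁B₁)
    by_cases hlt : Nat.card B₁ < Nat.card B
    · have := ih B₁ Subgroup.normalClosure_normal (hBp.to_le hB₁B) (hB₁B.trans hBD) (by omega)
      rw [hZB₁] at this
      exact this
    · have hB₁ : B₁ = B := Subgroup.eq_of_le_of_card_ge hB₁B (by omega)
      by_cases hbot : B = ⊥
      · have : Z₁ = ⊥ := by rw [hZ₁, hbot, inf_bot_eq]
        rw [this]
        infer_instance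
      have hYn : (Z ⊓ ⁅B, B⁆).Normal :=
        ih ⁅B, B⁆ (Subgroup.commutator_normal B B) (hBp.to_le (Subgroup.commutator_le_left B B))
          ((Subgroup.commutator_le_left B B).trans hBD)
          (by have := Helper11.card_commutator_lt hBp hbot; omega)
      have hBB : ⁅B, B⁆ ≤ Z := by
        have h1 : ⁅B₁, B₁⁆ ≤ Z ⊓ ⁅B, B⁆ := by
          apply Helper11.comm_closure_le
          intro x hx y hy
          rw [Group.mem_conjugatesOfSet_iff] at hx hy
          obtain ⟨z, hz, hzx⟩ := hx
          obtain ⟨w, hw, hwy⟩ := hy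
          obtain ⟨g, rfl⟩ := isConj_iff.mp hzx
          obtain ⟨h, rfl⟩ := isConj_iff.mp hwy
          rw [SetLike.mem_coe, hZ₁, Subgroup.mem_inf] at hz hw
          have hx' : g⁻¹ * h * w * (g⁻¹ * h)⁻¹ ∈ B := hBn.conj_mem w hw.2 (g⁻¹ * h)
          have e : ⁅g * z * g⁻¹, h * w * h⁻¹⁆ = g * ⁅z, g⁻¹ * h * w * (g⁻¹ * h)⁻¹⁆ * g⁻¹ := by
            simp only [commutatorElement_def]; group
          rw [e]
          apply hYn.conj_mem
          refine Subgroup.mem_inf.mpr ⟨?_, Subgroup.commutator_mem_commutator hz.2 hx'⟩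
          have hx'N := hSZ (hBS hx')
          rw [commutatorElement_def]
          have e2 : z * (g⁻¹ * h * w * (g⁻¹ * h)⁻¹) * z⁻¹ * (g⁻¹ * h * w * (g⁻¹ * h)⁻¹)⁻¹ =
              z * ((g⁻¹ * h * w * (g⁻¹ * h)⁻¹) * z⁻¹ * (g⁻¹ * h * w * (g⁻¹ * h)⁻¹)⁻¹) := by group
          rw [e2]
          exact Z.mul_mem hz.1 ((Subgroup.mem_normalizer_iff.mp hx'N z⁻¹).mp (Z.inv_mem hz.1))
        rw [hB₁] at h1
        exact h1.trans inf_le_left
      by_cases hall : ∀ U ∈ Helper11.maxIn Φ D, B ≤ U
      · have : B ≤ Z := le_sInf hall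
        rw [hZ₁, inf_eq_right.mpr this]
        exact hBn
      · push Not at hall
        obtain ⟨U, hU, hnBU⟩ := hall
        exfalso
        obtain ⟨A, hA, hnBA, hBNA⟩ := Helper11.repl_ambient hp D hDp
          (Helper11.maxIn Φ D) (fun A hA => hΦ.comm A hA.2.1)
          (fun A hA A' hA'S hcard hcomm hexp =>
            ⟨hA'S, hΦ.repl A hA.2.1 A' hcomm hexp,
              fun B hB hΦB => (hA.2.2 B hB hΦB).trans_eq hcard.symm⟩)
          B hBD (by rw [Subgroup.normalizer_eq_top]; exact le_top)
          ⟨U, hU, hU.1, hBB.trans (sInf_le hU), hnBU⟩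
        have hAcomm := hΦ.comm A hA.2.1
        have hquad : ∀ a ∈ A, ⁅⁅B, Subgroup.zpowers a⁆, Subgroup.zpowers a⁆ = ⊥ := by
          intro a ha
          have h1 : ⁅B, Subgroup.zpowers a⁆ ≤ A := by
            rw [Subgroup.commutator_le]
            intro b hb x hx
            have hx' : x ∈ A := (Subgroup.zpowers_le.mpr ha) hx
            have hbN := hBNA hb
            rw [commutatorElement_def]
            exact A.mul_mem ((Subgroup.mem_normalizer_iff.mp hbN x).mp hx') (A.inv_mem hx')
          rw [eq_bot_iff]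
          refine (Subgroup.commutator_mono h1 (Subgroup.zpowers_le.mpr ha)).trans ?_
          rw [Subgroup.commutator_le]
          intro x hx y hy
          rw [commutatorElement_eq_one_iff_mul_comm.mpr (setLike_mul_comm hx hy)]
          exact Subgroup.one_mem _
        have hstB := hst B hBp
        set C := Subgroup.centralizer (B : Set G) with hC
        set L := (Cfsg.pCore p (G ⧸ C)).comap (QuotientGroup.mk' C) with hL
        have hLn : L.Normal := (Helper11.pCore_normal' p (G ⧸ C)).comap _
        have hAL : A ≤ L := fun a ha => Subgroup.mem_comap.mpr (hstB a (hquad a ha))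
        set P₁ := (S : Subgroup G) ⊓ L with hP₁
        set D₁ := D ⊓ L with hD₁
        have hAD₁ : A ≤ D₁ := le_inf hA.1 hAL
        obtain ⟨hA₁, hsub⟩ := Helper11.maxIn_subset_of_le hA hAD₁ (inf_le_left : D₁ ≤ D)
        set Z₂ := sInf (Helper11.maxIn Φ D₁) with hZ₂
        have hZZ₂ : Z ≤ Z₂ := sInf_le_sInf hsub
        set X := Z₂ ⊓ B with hX
        have hXn : X.Normal := by
          rw [← Subgroup.normalizer_eq_top_iff]
          have hN1 : Subgroup.normalizer (P₁ : Set G) ≤ Subgroup.normalizer (X : Set G) := by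
            intro g hg
            have hgD₁ : g ∈ Subgroup.normalizer (D₁ : Set G) :=
              stronglyClosed_normalizer_inf hD L hg
            have hg2 := Helper11.normalizer_le_normalizer_sInf_maxIn hΦ.map_equiv D₁ hgD₁
            rw [Subgroup.mem_normalizer_iff] at hg2 ⊢
            intro x
            rw [hX, Subgroup.mem_inf, Subgroup.mem_inf, ← hg2 x]
            have : g * x * g⁻¹ ∈ B ↔ x ∈ B := by
              constructor
              · intro h
                have := hBn.conj_mem _ h g⁻¹
                simpa [mul_assoc] using this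
              · intro h
                exact hBn.conj_mem _ h g
            rw [this]
          have hC1 : C ≤ Subgroup.normalizer (X : Set G) := by
            intro c hc
            rw [Subgroup.mem_normalizer_iff]
            intro x
            have hcB : ∀ y ∈ B, c * y * c⁻¹ = y := by
              intro y hy
              have := Subgroup.mem_centralizer_iff.mp hc y hy
              rw [← this]; group
            constructor
            · intro hx
              rw [hcB x (Subgroup.mem_inf.mp hx).2]
              exact hx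
            · intro hx
              have hxB : x ∈ B := by
                have := hBn.conj_mem _ (Subgroup.mem_inf.mp hx).2 c⁻¹
                simpa [mul_assoc] using this
              rw [hcB x hxB] at hx
              exact hx
          have hL1 : L ≤ Subgroup.normalizer (X : Set G) := by
            intro l hl
            obtain ⟨s, hs, hsl⟩ := Helper11.exists_mem_sylow_mk_eq S C (Subgroup.mem_comap.mp hl)
            have hsL : s ∈ L := by
              rw [hL, Subgroup.mem_comap]
              have : QuotientGroup.mk' C s = QuotientGroup.mk' C l := hsl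
              rw [this]
              exact hl
            have hsP₁ : s ∈ P₁ := Subgroup.mem_inf.mpr ⟨hs, hsL⟩
            have hc : s⁻¹ * l ∈ C := QuotientGroup.eq.mp hsl
            have e : l = s * (s⁻¹ * l) := by group
            rw [e]
            exact Subgroup.mul_mem _ (hN1 (Subgroup.le_normalizer hsP₁)) (hC1 hc)
          rw [eq_top_iff, ← Helper11.frattini_inf S L]
          exact sup_le hN1 hL1
        have hZ₁X : Z₁ ≤ X := inf_le_inf_right _ hZZ₂
        have hBX : B ≤ X := by
          rw [← hB₁]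
          exact Subgroup.normalClosure_le_normal hZ₁X
        exact hnBA (hBX.trans (inf_le_left.trans (sInf_le hA₁)))

/-- The ZJ-theorem for a replacement class and a strongly closed subgroup `D` of a Sylow
`p`-subgroup: the intersection of the family is normal. -/
theorem zj_normal_sc {G : Type u} [Group G] [Finite G] {p : ℕ} [Fact p.Prime] (hp : p ≠ 2)
    (hc : Subgroup.centralizer (Cfsg.pCore p G : Set G) ≤ Cfsg.pCore p G)
    (hst : ∀ (P : Subgroup G) [P.Normal], IsPGroup p P → Cfsg.IsPStableOn p P) (S : Sylow p G)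
    (D : Subgroup G) (hD : Cfsg.IsStronglyClosed D (S : Subgroup G))
    {Φ : Subgroup G → Prop} (hΦ : Helper11.ReplClass Φ) :
    (sInf (Helper11.maxIn Φ D)).Normal := by
  have hSD : (S : Subgroup G) ≤ Subgroup.normalizer (D : Set G) := stronglyClosed_le_normalizer hD
  set Z := sInf (Helper11.maxIn Φ D) with hZ
  set Q := Cfsg.pCore p G with hQ
  have hQn : Q.Normal := Helper11.pCore_normal' p G
  have hQp : IsPGroup p Q := Helper11.pCore_isPGroup' p G
  have hQS : Q ≤ S := hQp.le_sylow_of_normal S
  have hSZ : (S : Subgroup G) ≤ Subgroup.normalizer (Z : Set G) :=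
    hSD.trans (Helper11.normalizer_le_normalizer_sInf_maxIn hΦ.map_equiv D)
  obtain ⟨A₀, hA₀⟩ := Helper11.maxIn_nonempty hΦ.bot D
  have hZA₀ : Z ≤ A₀ := sInf_le hA₀
  have hA₀c := hΦ.comm A₀ hA₀.2.1
  have hZD : Z ≤ D := hZA₀.trans hA₀.1
  -- Z ≤ Q
  have hZQ : Z ≤ Q := by
    intro z hz
    have hquad : ⁅⁅Q, Subgroup.zpowers z⁆, Subgroup.zpowers z⁆ = ⊥ := by
      have h1 : ⁅Q, Subgroup.zpowers z⁆ ≤ Z := by
        rw [Subgroup.commutator_le]
        intro q hq x hx
        have hx' : x ∈ Z := (Subgroup.zpowers_le.mpr hz) hx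
        have hqN := hSZ (hQS hq)
        rw [commutatorElement_def]
        exact Z.mul_mem ((Subgroup.mem_normalizer_iff.mp hqN x).mp hx') (Z.inv_mem hx')
      rw [eq_bot_iff]
      refine (Subgroup.commutator_mono h1 (Subgroup.zpowers_le.mpr hz)).trans ?_
      rw [Subgroup.commutator_le]
      intro x hx y hy
      rw [commutatorElement_eq_one_iff_mul_comm.mpr (setLike_mul_comm (hZA₀ hx) (hZA₀ hy))]
      exact Subgroup.one_mem _
    have h2 := hst Q hQp z hquad
    set C := Subgroup.centralizer (Q : Set G) with hC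
    set L := (Cfsg.pCore p (G ⧸ C)).comap (QuotientGroup.mk' C) with hL
    have hLn : L.Normal := (Helper11.pCore_normal' p (G ⧸ C)).comap _
    have hLp : IsPGroup p L := by
      apply (Helper11.pCore_isPGroup' p (G ⧸ C)).comap_of_ker_isPGroup
      rw [QuotientGroup.ker_mk']
      exact hQp.to_le hc
    exact Helper11.le_pCore' hLn hLp (Subgroup.mem_comap.mpr h2)
  -- `Q ∩ D` is a normal `p`-subgroup inside `D`
  have hB₀n : (Q ⊓ D).Normal := by
    refine ⟨fun x hx g => ?_⟩
    have hx' := Subgroup.mem_inf.mp hx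
    have h1 : g * x * g⁻¹ ∈ Q := hQn.conj_mem x hx'.1 g
    exact Subgroup.mem_inf.mpr ⟨h1, hD.2 x hx'.2 g (hQS h1)⟩
  have h3 := zj_inf_normal_sc hp hst S D hD hΦ (Nat.card ↥(Q ⊓ D)) (Q ⊓ D) hB₀n
    (hQp.to_le inf_le_left) inf_le_right le_rfl
  rwa [inf_eq_left.mpr (le_inf hZQ hZD)] at h3

/-- The normalizer form of `p`-stability gives `p`-stability on normal `p`-subgroups. -/
theorem isPStableOn_of_normalizerPStable {G : Type u} [Group G] {p : ℕ}
    (hst : Cfsg.IsNormalizerPStable p G) (V : Subgroup G) [hV : V.Normal] (hVp : IsPGroup p V) :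
    Cfsg.IsPStableOn p V := by
  intro a ha
  have hN : Subgroup.normalizer (V : Set G) = ⊤ := Subgroup.normalizer_eq_top V
  have haN : a ∈ Subgroup.normalizer (V : Set G) := by
    rw [hN]
    trivial
  have h1 := hst V hVp a haN ha
  have hsurj : Function.Surjective (QuotientGroup.map
      ((Subgroup.centralizer (V : Set G)).subgroupOf (Subgroup.normalizer (V : Set G)))
      (Subgroup.centralizer (V : Set G)) (Subgroup.normalizer (V : Set G)).subtype le_rfl) := by
    intro y
    obtain ⟨g, rfl⟩ := QuotientGroup.mk_surjective y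
    have hg : g ∈ Subgroup.normalizer (V : Set G) := by
      rw [hN]
      trivial
    exact ⟨QuotientGroup.mk ⟨g, hg⟩, rfl⟩
  have hle : (Cfsg.pCore p (↥(Subgroup.normalizer (V : Set G)) ⧸
      (Subgroup.centralizer (V : Set G)).subgroupOf (Subgroup.normalizer (V : Set G)))).map
      (QuotientGroup.map
      ((Subgroup.centralizer (V : Set G)).subgroupOf (Subgroup.normalizer (V : Set G)))
      (Subgroup.centralizer (V : Set G)) (Subgroup.normalizer (V : Set G)).subtype le_rfl) ≤
      Cfsg.pCore p (G ⧸ Subgroup.centralizer (V : Set G)) := by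
    apply Helper11.le_pCore' ((Helper11.pCore_normal' p _).map _ hsurj)
    exact (Helper11.pCore_isPGroup' p _).map _
  exact hle ⟨_, h1, rfl⟩

theorem omegaOne_centerThompsonOf_eq {G : Type u} [Group G] {p : ℕ} [Fact p.Prime]
    (D : Subgroup G) [Finite D] (hDp : IsPGroup p D) :
    Cfsg.omegaOne p (Cfsg.centerThompsonOf p D) =
      sInf (Helper11.maxIn (fun A : Subgroup G => Cfsg.IsElementaryAbelian p A) D) := by
  rw [← Helper11.omegaCenterThompson_map_eq D hDp]
  unfold Cfsg.centerThompsonOf Cfsg.thompsonSubgroupOf Cfsg.omegaCenterThompson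
  rw [← Helper11.map_inf_centralizer _ D.subtype_injective,
    omegaOne_map_of_injective p _ D.subtype_injective]

/-- Glauberman's ZJ-theorem for strongly closed subgroups. -/
theorem zj_strongly_closed {G : Type u} [Group G] [Finite G] {p : ℕ} [Fact p.Prime] (hp : p ≠ 2)
    (P : Sylow p G) (D : Subgroup G) (hD : Cfsg.IsStronglyClosed D (P : Subgroup G))
    (hst : Cfsg.IsNormalizerPStable p G)
    (hc : Subgroup.centralizer ((Cfsg.pCore p G : Subgroup G) : Set G) ≤ Cfsg.pCore p G) :
    (Cfsg.centerThompsonAOf D).Normal ∧ (Cfsg.omegaOne p (Cfsg.centerThompsonOf p D)).Normal := by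
  have hst' : ∀ (V : Subgroup G) [V.Normal], IsPGroup p V → Cfsg.IsPStableOn p V :=
    fun V _ hV => isPStableOn_of_normalizerPStable hst V hV
  have hDp : IsPGroup p D := P.isPGroup'.to_le hD.1
  constructor
  · rw [Helper11.centerThompsonAOf_eq D]
    exact zj_normal_sc hp hc hst' P D hD (Helper11.replClass_comm G)
  · rw [omegaOne_centerThompsonOf_eq D hDp]
    exact zj_normal_sc hp hc hst' P D hD (Helper11.replClass_elemAb p G)

end Cfsg.Agent.Lib.Helper51
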