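import Mathlib
import Cfsg.Prelude.Def_ConjugacyFunctors
import Cfsg.Prelude.Def_TwoFusion
import Cfsg.Prelude.Def_PLocal
import Cfsg.Prelude.Def_Transfer
import Cfsg.Prelude.Def_LocalEven
import Cfsg.Agent.Lib.Helper51.SCFusion
import Cfsg.Agent.Lib.Helper51.ZJStrong
import Cfsg.Agent.Lib.Helper51.ZJFunctor
import Cfsg.Agent.Lib.Helper51.QdNorm
import Cfsg.Agent.Lib.Helper11.Thompson
import Cfsg.Agent.Lib.Helper11.StableClosure
import Cfsg.Agent.Lib.Helper34.InvolvesAux

/-!
# `Z(J(D))` and `Ω₁(Z(J_e(D)))` of a strongly closed subgroup control strong fusion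
in `Qd(p)`-free groups
-/

set_option autoImplicit false

universe u

namespace Cfsg.Agent.Lib.Helper51

open Cfsg Cfsg.Agent.Lib.Helper33

variable {p : ℕ}

theorem inducedFunctor_omegaCenterThompson {G : Type u} [Group G] (p : ℕ) (D : Subgroup G) :
    Cfsg.inducedFunctor (fun (Q : Type u) (_ : Group Q) => Cfsg.omegaCenterThompson p Q) D =
      Cfsg.omegaOne p (Cfsg.centerThompsonOf p D) := by
  unfold Cfsg.inducedFunctor Cfsg.centerThompsonOf Cfsg.thompsonSubgroupOf Cfsg.omegaCenterThompson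
  rw [← Helper11.map_inf_centralizer _ D.subtype_injective,
    omegaOne_map_of_injective p _ D.subtype_injective]

theorem isCharPFunctor_omegaCenterThompson (p : ℕ) [Fact p.Prime] :
    Cfsg.IsCharPFunctor.{u} p
      (fun (Q : Type u) (_ : Group Q) => Cfsg.omegaCenterThompson p Q) := by
  refine ⟨?_, ?_⟩
  · intro Q _ _ hQ hnt h
    have hpp : p.Prime := Fact.out
    have hcn := hQ.center_nontrivial
    have hcp : IsPGroup p (Subgroup.center Q) := hQ.to_subgroup _
    have hdvd : p ∣ Nat.card (Subgroup.center Q) := by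
      rcases hcp.card_eq_or_dvd with h1 | h1
      · exact absurd h1 (Finite.one_lt_card_iff_nontrivial.2 hcn).ne'
      · exact h1
    obtain ⟨w, hw⟩ := exists_prime_orderOf_dvd_card' p hdvd
    have hwp : (w : Q) ^ p = 1 := by
      have := pow_orderOf_eq_one w
      rw [hw] at this
      exact congrArg Subtype.val this
    have hw1 : (w : Q) ≠ 1 := by
      intro h1
      have : w = 1 := Subtype.ext h1
      rw [this, orderOf_one] at hw
      exact hpp.one_lt.ne hw
    have hmem : (w : Q) ∈ Cfsg.omegaCenterThompson p Q := by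
      rw [← (Helper11.sInf_maxElemAb_eq (S := Q) p).1, Subgroup.mem_sInf]
      intro A hA
      apply Helper11.mem_of_mem_maxElemAb hA _ hwp
      rw [Subgroup.mem_centralizer_iff]
      intro a _
      exact (Subgroup.mem_center_iff.1 w.2 a)
    have h' : Cfsg.omegaCenterThompson p Q = ⊥ := h
    rw [h', Subgroup.mem_bot] at hmem
    exact hw1 hmem
  · intro Q R _ _ _ _ φ
    exact Helper11.omegaCenterThompson_map_equiv p φ

/-- In a `Qd(p)`-free group, `p` odd, the normalisers of `Z(J(D))` and of `Ω₁(Z(J_e(D)))` control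
strong fusion in the Sylow `p`-subgroup `S`, for `D` strongly closed in `S`. -/
theorem sc_zj_control [Fact p.Prime] (hp : p ≠ 2) {G : Type u} [Group G] [Finite G]
    (hqd : ¬ Cfsg.Involves ↥(Cfsg.qd p) G) (S : Sylow p G) (D : Subgroup G)
    (hD : Cfsg.IsStronglyClosed D (S : Subgroup G)) :
    SCtl (Subgroup.normalizer ((Cfsg.centerThompsonAOf D : Subgroup G) : Set G)) (S : Subgroup G) ∧
    SCtl (Subgroup.normalizer ((Cfsg.omegaOne p (Cfsg.centerThompsonOf p D) : Subgroup G) : Set G))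
      (S : Subgroup G) := by
  have hnorm : ∀ (X : Type u) [Group X], (Finite X ∧ ¬ Cfsg.Involves ↥(Cfsg.qd p) X) →
      Subgroup.centralizer ((pCore p X : Subgroup X) : Set X) ≤ pCore p X →
      ∀ S D : Subgroup X, SylIn p S ⊤ → IsStronglyClosed D S →
        (Cfsg.centerThompsonAOf D).Normal ∧ (Cfsg.omegaOne p (Cfsg.centerThompsonOf p D)).Normal := by
    intro X _ hX hc S D hS hD
    have := hX.1
    let S₀ : Sylow p X := hS.2.1.toSylow
      (by have := hS.2.2; rwa [Subgroup.relIndex_top_right] at this)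
    exact zj_strongly_closed hp S₀ D hD (isNormalizerPStable_of_qd_free hp hX.2) hc
  have hsub : ∀ (X : Type u) [Group X], (Finite X ∧ ¬ Cfsg.Involves ↥(Cfsg.qd p) X) →
      ∀ H : Subgroup X, (Finite ↥H ∧ ¬ Cfsg.Involves ↥(Cfsg.qd p) ↥H) := by
    intro X _ hX H
    have := hX.1
    exact ⟨inferInstance, fun h => hX.2 (Cfsg.Agent.Lib.Helper34.involves_of_subgroup H h)⟩
  have hquo : ∀ (X : Type u) [Group X], (Finite X ∧ ¬ Cfsg.Involves ↥(Cfsg.qd p) X) →
      ∀ (N : Subgroup X) [N.Normal], (Finite (X ⧸ N) ∧ ¬ Cfsg.Involves ↥(Cfsg.qd p) (X ⧸ N)) := by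
    intro X _ hX N _
    have := hX.1
    exact ⟨inferInstance, fun h => hX.2 (Cfsg.Agent.Lib.Helper34.involves_of_quotient N h)⟩
  have h1 := scp_induction (isCharPFunctor_zjA.{u} p)
    (fun (X : Type u) [Group X] => Finite X ∧ ¬ Cfsg.Involves ↥(Cfsg.qd p) X)
    (fun X _ h => h.1) hsub hquo (by
      intro X _ hX hc S D hS hD
      rw [inducedFunctor_zjA]
      exact (hnorm X hX hc S D hS hD).1) G ⟨inferInstance, hqd⟩ (S : Subgroup G) D (sylIn_top S) hD
  have h2 := scp_induction (isCharPFunctor_omegaCenterThompson.{u} p)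
    (fun (X : Type u) [Group X] => Finite X ∧ ¬ Cfsg.Involves ↥(Cfsg.qd p) X)
    (fun X _ h => h.1) hsub hquo (by
      intro X _ hX hc S D hS hD
      rw [inducedFunctor_omegaCenterThompson]
      exact (hnorm X hX hc S D hS hD).2) G ⟨inferInstance, hqd⟩ (S : Subgroup G) D (sylIn_top S) hD
  rw [inducedFunctor_zjA] at h1
  rw [inducedFunctor_omegaCenterThompson] at h2
  exact ⟨h1, h2⟩

end Cfsg.Agent.Lib.Helper51
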