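import Mathlib
import Cfsg.Agent.Lib.Helper51.SCZJ
import Cfsg.Agent.Lib.Helper51.FusCtl2

/-!
# Enlarging a normal non-centric subgroup whose normaliser controls strong fusion
-/

set_option autoImplicit false

universe u

namespace Cfsg.Agent.Lib.Helper51

open Cfsg Cfsg.Agent.Lib.Helper33

variable {p : ℕ} [Fact p.Prime]

/-- In a `Qd(p)`-free group `X` (`p` odd) with Sylow `p`-subgroup `S`, a normal subgroup `Q ≤ S`
that is not centric is properly contained in a normal subgroup `Q₂` of `S` whose normaliser controls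
strong fusion in `S`. -/
theorem exists_larger_of_not_centric (hp : p ≠ 2) {X : Type u} [Group X] [Finite X]
    (hqd : ¬ Cfsg.Involves ↥(Cfsg.qd p) X) {S Q : Subgroup X} (hS : SylIn p S ⊤)
    (hQn : Q.Normal) (hQS : Q ≤ S) (hnc : ¬ S ⊓ Subgroup.centralizer (Q : Set X) ≤ Q) :
    ∃ Q₂ : Subgroup X, Q ≤ Q₂ ∧ Q₂ ≤ S ∧ S ≤ Subgroup.normalizer (Q₂ : Set X) ∧
      Nat.card Q < Nat.card Q₂ ∧ SCtl (Subgroup.normalizer (Q₂ : Set X)) S := by
  classical
  have hCn : (Subgroup.centralizer (Q : Set X)).Normal := by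
    have := hQn; infer_instance
  have hQCn : (Q ⊔ Subgroup.centralizer (Q : Set X)).Normal := by
    have := hQn; infer_instance
  -- the strongly closed subgroup `D = S ∩ Q C(Q)`
  have hD : IsStronglyClosed (S ⊓ (Q ⊔ Subgroup.centralizer (Q : Set X))) S := by
    refine ⟨inf_le_left, ?_⟩
    intro x hx g hg
    exact Subgroup.mem_inf.2 ⟨hg, hQCn.conj_mem x (Subgroup.mem_inf.1 hx).2 g⟩
  have hS' : SylIn p (S.map (QuotientGroup.mk' Q)) ⊤ :=
    hS.map_surjective _ (QuotientGroup.mk'_surjective Q)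
  have hD' := sc_quotient hS hD Q
  have hqd' : ¬ Cfsg.Involves ↥(Cfsg.qd p) (X ⧸ Q) :=
    fun h => hqd (Cfsg.Agent.Lib.Helper34.involves_of_quotient Q h)
  have hidx : ¬ p ∣ (S.map (QuotientGroup.mk' Q)).index := by
    have := hS'.2.2; rwa [Subgroup.relIndex_top_right] at this
  have hctl := (sc_zj_control hp hqd' (hS'.2.1.toSylow hidx) _ hD').1
  rw [IsPGroup.toSylow_coe] at hctl
  have hDp' : IsPGroup p ((S ⊓ (Q ⊔ Subgroup.centralizer (Q : Set X))).map (QuotientGroup.mk' Q)) :=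
    hS'.2.1.to_le hD'.1
  have hW := isConjugacyFunctor_induced (isCharPFunctor_zjA.{u} p) (X ⧸ Q)
  have hWle := cf_le hW hDp'
  have hWne := (hW _ hDp').2.1
  have hWnorm := cf_normalizer_le hW hDp'
  rw [inducedFunctor_zjA] at hWle hWne hWnorm
  have hSN : S.map (QuotientGroup.mk' Q) ≤ Subgroup.normalizer
      ((Cfsg.centerThompsonAOf ((S ⊓ (Q ⊔ Subgroup.centralizer (Q : Set X))).map
        (QuotientGroup.mk' Q)) : Subgroup (X ⧸ Q)) : Set (X ⧸ Q)) :=
    (sc_le_normalizer hD').trans hWnorm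
  -- the preimage
  have hker : ∀ x : X, (QuotientGroup.mk' Q) x = 1 ↔ x ∈ Q := fun x => QuotientGroup.eq_one_iff x
  have hQ₂D : (Cfsg.centerThompsonAOf ((S ⊓ (Q ⊔ Subgroup.centralizer (Q : Set X))).map
        (QuotientGroup.mk' Q))).comap (QuotientGroup.mk' Q) ≤
      S ⊓ (Q ⊔ Subgroup.centralizer (Q : Set X)) := by
    intro x hx
    obtain ⟨d, hd, hdx⟩ := hWle (Subgroup.mem_comap.1 hx)
    have h1 : d⁻¹ * x ∈ Q := by
      rw [← hker, map_mul, map_inv, hdx]; group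
    have e : x = d * (d⁻¹ * x) := by group
    rw [e]
    exact mul_mem hd (Subgroup.mem_inf.2 ⟨hQS h1, Subgroup.mem_sup_left h1⟩)
  have hQQ₂ : Q ≤ (Cfsg.centerThompsonAOf ((S ⊓ (Q ⊔ Subgroup.centralizer (Q : Set X))).map
        (QuotientGroup.mk' Q))).comap (QuotientGroup.mk' Q) := by
    intro q hq
    rw [Subgroup.mem_comap, (hker q).2 hq]
    exact one_mem _
  have hNN : (Subgroup.normalizer
      ((Cfsg.centerThompsonAOf ((S ⊓ (Q ⊔ Subgroup.centralizer (Q : Set X))).map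
        (QuotientGroup.mk' Q)) : Subgroup (X ⧸ Q)) : Set (X ⧸ Q))).comap (QuotientGroup.mk' Q) ≤
      Subgroup.normalizer (((Cfsg.centerThompsonAOf
        ((S ⊓ (Q ⊔ Subgroup.centralizer (Q : Set X))).map
        (QuotientGroup.mk' Q))).comap (QuotientGroup.mk' Q) : Subgroup X) : Set X) :=
    Subgroup.le_normalizer_comap _
  have hSQ₂ : S ≤ Subgroup.normalizer (((Cfsg.centerThompsonAOf
        ((S ⊓ (Q ⊔ Subgroup.centralizer (Q : Set X))).map
        (QuotientGroup.mk' Q))).comap (QuotientGroup.mk' Q) : Subgroup X) : Set X) :=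
    fun s hs => hNN (Subgroup.mem_comap.2 (hSN (Subgroup.mem_map_of_mem _ hs)))
  refine ⟨_, hQQ₂, hQ₂D.trans inf_le_left, hSQ₂, ?_, ?_⟩
  · apply card_lt_of_lt
    refine lt_of_le_of_ne hQQ₂ (fun heq => hnc ?_)
    -- `D / Q` is trivial
    have hbot : (S ⊓ (Q ⊔ Subgroup.centralizer (Q : Set X))).map (QuotientGroup.mk' Q) = ⊥ := by
      by_contra hne
      apply hWne hne
      rw [eq_bot_iff]
      intro w hw
      obtain ⟨x, rfl⟩ := QuotientGroup.mk'_surjective Q w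
      have hx : x ∈ Q := by
        rw [heq]; exact Subgroup.mem_comap.2 hw
      rw [Subgroup.mem_bot]
      exact (hker x).2 hx
    intro x hx
    have h1 : (QuotientGroup.mk' Q) x ∈
        (S ⊓ (Q ⊔ Subgroup.centralizer (Q : Set X))).map (QuotientGroup.mk' Q) :=
      Subgroup.mem_map_of_mem _ (Subgroup.mem_inf.2
        ⟨(Subgroup.mem_inf.1 hx).1, Subgroup.mem_sup_right (Subgroup.mem_inf.1 hx).2⟩)
    rw [hbot, Subgroup.mem_bot] at h1
    exact (hker x).1 h1
  · apply sctl_lift hS hQn hQQ₂ (hQ₂D.trans inf_le_left) hSQ₂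
    · intro x hx
      obtain ⟨q, hq, t, ht, e⟩ := Subgroup.mem_sup_of_normal_right.1 (Subgroup.mem_inf.1 (hQ₂D hx)).2
      exact ⟨q, hq, t, ht, e.symm⟩
    · intro U hU hQU m hm
      obtain ⟨x', hx', ex'⟩ := hctl (((U.map (QuotientGroup.mk' Q) : Subgroup (X ⧸ Q))) : Set (X ⧸ Q))
        ((QuotientGroup.mk' Q) m) (Subgroup.map_mono hU) (by
          rintro _ ⟨_, ⟨u, hu, rfl⟩, rfl⟩
          refine ⟨m * u * m⁻¹, hU (conj_mem_of_mem_normalizer hm hu), ?_⟩
          simp only [map_mul, map_inv])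
      obtain ⟨h, rfl⟩ := QuotientGroup.mk'_surjective Q x'
      refine ⟨h, hNN (Subgroup.mem_comap.2 hx'), ?_⟩
      intro u hu
      have e := ex' _ (Subgroup.mem_map_of_mem _ hu)
      rw [← hker]
      simp only [map_mul, map_inv]
      calc ((QuotientGroup.mk' Q) h)⁻¹ * (QuotientGroup.mk' Q) m * (QuotientGroup.mk' Q) u *
            (((QuotientGroup.mk' Q) h)⁻¹ * (QuotientGroup.mk' Q) m)⁻¹ * ((QuotientGroup.mk' Q) u)⁻¹
          = ((QuotientGroup.mk' Q) h)⁻¹ * ((QuotientGroup.mk' Q) m * (QuotientGroup.mk' Q) u *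
            ((QuotientGroup.mk' Q) m)⁻¹) * (QuotientGroup.mk' Q) h *
              ((QuotientGroup.mk' Q) u)⁻¹ := by group
        _ = ((QuotientGroup.mk' Q) h)⁻¹ * ((QuotientGroup.mk' Q) h * (QuotientGroup.mk' Q) u *
            ((QuotientGroup.mk' Q) h)⁻¹) * (QuotientGroup.mk' Q) h *
              ((QuotientGroup.mk' Q) u)⁻¹ := by rw [e]
        _ = 1 := by group

end Cfsg.Agent.Lib.Helper51
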