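import Mathlib
import Cfsg.Prelude.Def_ConjugacyFunctors
import Cfsg.Agent.Lib.Helper33.FamFusion
import Cfsg.Agent.Lib.Helper33.Sect4
import Cfsg.Agent.Lib.Helper33.Sect2

/-!
# A local-to-global theorem for control of strong fusion, through centric subgroups

Chains of conjugations with a general step predicate `St T y` ("`y` is an admissible step at the
`p`-subgroup `T`"), and Glauberman's local-to-global theorem in the form: if control holds in the
normalisers `N_G(T)` of the subgroups `Z(S) ≤ T ≤ S`, then it holds in `G`.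
-/

set_option autoImplicit false

namespace Cfsg.Agent.Lib.Helper51

open Cfsg Cfsg.Agent.Lib.Helper33

variable {G : Type*} [Group G]

/-- `CRel St H T A c`: there is a chain `1 = c₀, c₁, …, cₙ = c` whose steps lie in `H` and are
admissible at `T`, with every `cᵢ A cᵢ⁻¹ ⊆ T`. -/
inductive CRel (St : Subgroup G → G → Prop) (H T : Subgroup G) (A : Set G) : G → Prop
  | refl : A ⊆ T → CRel St H T A 1
  | step (c y : G) : CRel St H T A c → y ∈ H → St T y → lconj (y * c) A ⊆ T →
      CRel St H T A (y * c)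

section crel

variable {St : Subgroup G → G → Prop} {H T : Subgroup G}

theorem CRel.subset0 {A : Set G} {c : G} (h : CRel St H T A c) : A ⊆ T := by
  induction h with
  | refl hA => exact hA
  | step c y _ _ _ _ ih => exact ih

theorem CRel.subset {A : Set G} {c : G} (h : CRel St H T A c) : lconj c A ⊆ T := by
  cases h with
  | refl hA => rw [lconj_one]; exact hA
  | step c y _ _ _ hsub => exact hsub

theorem CRel.mem {A : Set G} {c : G} (h : CRel St H T A c) : c ∈ H := by
  induction h with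
  | refl hA => exact one_mem H
  | step c y _ hy _ _ ih => exact mul_mem hy ih

theorem CRel.mono {A B : Set G} {c : G} (hBA : B ⊆ A) (h : CRel St H T A c) :
    CRel St H T B c := by
  induction h with
  | refl hA => exact CRel.refl (hBA.trans hA)
  | step c y _ hy hSt hsub ih => exact CRel.step c y ih hy hSt ((lconj_mono hBA).trans hsub)

theorem CRel.comp {A : Set G} {c₁ c₂ : G} (h1 : CRel St H T A c₁)
    (h2 : CRel St H T (lconj c₁ A) c₂) : CRel St H T A (c₂ * c₁) := by
  induction h2 with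
  | refl hA => rw [one_mul]; exact h1
  | step c y _ hy hSt hsub ih =>
    rw [mul_assoc]
    refine CRel.step _ y ih hy hSt ?_
    rw [← mul_assoc, lconj_mul]
    exact hsub

theorem CRel.single {A : Set G} {y : G} (hA : A ⊆ T) (hy : y ∈ H) (hSt : St T y)
    (hsub : lconj y A ⊆ T) : CRel St H T A y := by
  have := CRel.step (St := St) (H := H) (T := T) (A := A) 1 y (CRel.refl hA) hy hSt
    (by rw [mul_one]; exact hsub)
  rwa [mul_one] at this

theorem CRel.inv (hSti : ∀ (T : Subgroup G) (y : G), St T y → St T y⁻¹) {A : Set G} {c : G}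
    (h : CRel St H T A c) : CRel St H T (lconj c A) c⁻¹ := by
  induction h with
  | refl hA => rw [lconj_one, inv_one]; exact CRel.refl hA
  | step c y hc hy hSt hsub ih =>
    have h1 : CRel St H T (lconj (y * c) A) y⁻¹ := by
      apply CRel.single hsub (inv_mem hy) (hSti _ _ hSt)
      rw [← lconj_mul]
      have : y⁻¹ * (y * c) = c := by group
      rw [this]
      exact hc.subset
    have h2 : CRel St H T (lconj y⁻¹ (lconj (y * c) A)) c⁻¹ := by
      rw [← lconj_mul]
      have : y⁻¹ * (y * c) = c := by group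
      rw [this]
      exact ih
    have := CRel.comp h1 h2
    have e : (y * c)⁻¹ = c⁻¹ * y⁻¹ := by group
    rw [e]
    exact this

theorem CRel.conj {p : ℕ}
    (hStc : ∀ (k : G) (T : Subgroup G) (y : G), IsPGroup p T → St T y →
      St (cj k T) (k * y * k⁻¹))
    (hT : IsPGroup p T) (k : G) {A : Set G} {c : G} (h : CRel St H T A c) :
    CRel St (cj k H) (cj k T) (lconj k A) (k * c * k⁻¹) := by
  induction h with
  | refl hA =>
    have : k * 1 * k⁻¹ = 1 := by group
    rw [this]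
    apply CRel.refl
    rw [coe_cj_eq_lconj]
    exact lconj_mono hA
  | step c y hc hy hSt hsub ih =>
    have e : k * (y * c) * k⁻¹ = (k * y * k⁻¹) * (k * c * k⁻¹) := by group
    rw [e]
    refine CRel.step _ _ ih (conj_mem_cj hy) (hStc k T y hT hSt) ?_
    rw [← e, ← lconj_mul, coe_cj_eq_lconj]
    have e2 : k * (y * c) * k⁻¹ * k = k * (y * c) := by group
    rw [e2, lconj_mul]
    exact lconj_mono hsub

theorem CRel.mono_subgroup {H' : Subgroup G} (hHH' : H ≤ H') {A : Set G} {c : G}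
    (h : CRel St H T A c) : CRel St H' T A c := by
  induction h with
  | refl hA => exact CRel.refl hA
  | step c y _ hy hSt hsub ih => exact CRel.step c y ih (hHH' hy) hSt hsub

end crel

/-- Control of strong fusion in `H` with respect to the `p`-subgroup `T`, by chains. -/
def CCtl (St : Subgroup G → G → Prop) (H T : Subgroup G) : Prop :=
  ∀ (A : Set G) (h : G), h ∈ H → A ⊆ T → lconj h A ⊆ T →
    ∃ c, CRel St H T A c ∧ ∀ a ∈ A, c * a * c⁻¹ = h * a * h⁻¹

theorem CCtl.conj {p : ℕ} {St : Subgroup G → G → Prop}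
    (hStc : ∀ (k : G) (T : Subgroup G) (y : G), IsPGroup p T → St T y →
      St (cj k T) (k * y * k⁻¹))
    {H T : Subgroup G} (hT : IsPGroup p T) (k : G) (h : CCtl St H T) :
    CCtl St (cj k H) (cj k T) := by
  intro A g hg hA hgA
  have hA' : lconj k⁻¹ A ⊆ T := by
    rintro _ ⟨a, ha, rfl⟩
    have := mem_cj.1 (hA ha)
    rw [inv_inv]; exact this
  have hg0 : k⁻¹ * g * k ∈ H := mem_cj.1 hg
  have hg' : lconj (k⁻¹ * g * k) (lconj k⁻¹ A) ⊆ T := by
    rw [← lconj_mul]
    have e : k⁻¹ * g * k * k⁻¹ = k⁻¹ * g := by group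
    rw [e, lconj_mul]
    rintro _ ⟨b, hb, rfl⟩
    have := mem_cj.1 (hgA hb)
    rw [inv_inv]; exact this
  obtain ⟨c, hc, ec⟩ := h _ (k⁻¹ * g * k) hg0 hA' hg'
  have hc' := hc.conj hStc hT k
  rw [← lconj_mul, mul_inv_cancel, lconj_one] at hc'
  refine ⟨k * c * k⁻¹, hc', ?_⟩
  intro a ha
  have := ec (k⁻¹ * a * k) ⟨a, ha, by rw [inv_inv]⟩
  calc k * c * k⁻¹ * a * (k * c * k⁻¹)⁻¹ = k * (c * (k⁻¹ * a * k) * c⁻¹) * k⁻¹ := by group
    _ = k * ((k⁻¹ * g * k) * (k⁻¹ * a * k) * (k⁻¹ * g * k)⁻¹) * k⁻¹ := by rw [this]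
    _ = g * a * g⁻¹ := by group

/-- The relation used in Alperin's induction. -/
def CR (St : Subgroup G → G → Prop) (S : Subgroup G) (A : Set G) (g : G) : Prop :=
  ∃ c, CRel St ⊤ S A c ∧ ∀ a ∈ A, c * a * c⁻¹ = g⁻¹ * a * g

section cr

variable {St : Subgroup G → G → Prop} {S : Subgroup G}

theorem CR.comp {A : Set G} {g h : G} (h1 : CR St S A g) (h2 : CR St S (rconj g A) h) :
    CR St S A (g * h) := by
  obtain ⟨c₁, hc₁, e1⟩ := h1
  obtain ⟨c₂, hc₂, e2⟩ := h2
  rw [← FR.lconj_eq e1] at hc₂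
  refine ⟨c₂ * c₁, hc₁.comp hc₂, fun a ha => ?_⟩
  have e3 := e2 (g⁻¹ * a * g) ⟨a, ha, rfl⟩
  calc c₂ * c₁ * a * (c₂ * c₁)⁻¹ = c₂ * (c₁ * a * c₁⁻¹) * c₂⁻¹ := by group
    _ = c₂ * (g⁻¹ * a * g) * c₂⁻¹ := by rw [e1 a ha]
    _ = h⁻¹ * (g⁻¹ * a * g) * h := e3
    _ = (g * h)⁻¹ * a * (g * h) := by group

theorem CR.mono {A B : Set G} {g : G} (hBA : B ⊆ A) (h : CR St S A g) : CR St S B g := by
  obtain ⟨c, hc, e⟩ := h
  exact ⟨c, hc.mono hBA, fun a ha => e a (hBA ha)⟩

theorem CR.inv (hSti : ∀ (T : Subgroup G) (y : G), St T y → St T y⁻¹) {A : Set G} {g : G}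
    (h : CR St S A g) : CR St S (rconj g A) g⁻¹ := by
  obtain ⟨c, hc, e⟩ := h
  have := hc.inv hSti
  rw [FR.lconj_eq e] at this
  refine ⟨c⁻¹, this, ?_⟩
  rintro _ ⟨a, ha, rfl⟩
  have e1 := e a ha
  show c⁻¹ * (g⁻¹ * a * g) * c⁻¹⁻¹ = g⁻¹⁻¹ * (g⁻¹ * a * g) * g⁻¹
  calc c⁻¹ * (g⁻¹ * a * g) * c⁻¹⁻¹ = c⁻¹ * (c * a * c⁻¹) * c⁻¹⁻¹ := by rw [e1]
    _ = a := by group
    _ = g⁻¹⁻¹ * (g⁻¹ * a * g) * g⁻¹ := by group

/-- Turning a chain in a local subgroup into a chain in the whole group. -/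
theorem CRel.convert {H Q₁ : Subgroup G} (c₀ : ℕ)
    (hQ₁ : ∀ z : G, St Q₁ z⁻¹ → ∀ U₁ : Subgroup G, U₁ ≤ Q₁ → c₀ ≤ Nat.card U₁ →
      cj z⁻¹ U₁ ≤ Q₁ → CR St S (U₁ : Set G) z)
    (hQ₁S : Q₁ ≤ S) {U : Subgroup G} (hUc : c₀ ≤ Nat.card U) {c : G}
    (h : CRel St H Q₁ (U : Set G) c) :
    ∃ c', CRel St ⊤ S (U : Set G) c' ∧ ∀ a ∈ U, c' * a * c'⁻¹ = c * a * c⁻¹ := by
  induction h with
  | refl hA => exact ⟨1, CRel.refl (hA.trans hQ₁S), fun a _ => rfl⟩
  | step c y hc hy hSt hsub ih =>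
    obtain ⟨c₁, h1, e1⟩ := ih
    have hU₁ : cj c U ≤ Q₁ := by
      have := hc.subset
      rw [← coe_cj_eq_lconj] at this
      exact this
    have hU₁c : c₀ ≤ Nat.card (cj c U) := by rw [card_cj]; exact hUc
    have hU₁y : cj y⁻¹⁻¹ (cj c U) ≤ Q₁ := by
      rw [inv_inv, ← cj_mul]
      have := hsub
      rw [← coe_cj_eq_lconj] at this
      exact this
    obtain ⟨cy, h2, e2⟩ := hQ₁ y⁻¹ (by rw [inv_inv]; exact hSt) (cj c U) hU₁ hU₁c hU₁y
    have hset : ((cj c U : Subgroup G) : Set G) = lconj c₁ (U : Set G) := by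
      rw [coe_cj_eq_lconj]
      exact (lconj_congr e1).symm
    rw [hset] at h2
    refine ⟨cy * c₁, h1.comp h2, fun a ha => ?_⟩
    have e3 := e2 (c * a * c⁻¹) (conj_mem_cj ha)
    rw [inv_inv] at e3
    calc cy * c₁ * a * (cy * c₁)⁻¹ = cy * (c₁ * a * c₁⁻¹) * cy⁻¹ := by group
      _ = cy * (c * a * c⁻¹) * cy⁻¹ := by rw [e1 a ha]
      _ = y * (c * a * c⁻¹) * y⁻¹ := e3
      _ = y * c * a * (y * c)⁻¹ := by group

end cr

section lists

variable {St : Subgroup G → G → Prop} {H T : Subgroup G}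

theorem CRel.mem_of_step {A : Set G} {c : G} (M : Subgroup G) (hM : ∀ y, St T y → y ∈ M)
    (h : CRel St H T A c) : c ∈ M := by
  induction h with
  | refl hA => exact one_mem M
  | step c y _ hy hSt _ ih => exact mul_mem (hM y hSt) ih

/-- A chain from a list of (inverse) steps with all partial right conjugates in `T`. -/
theorem CRel.of_list {A : Set G} :
    ∀ (l : List G), (∀ y ∈ l, y ∈ H ∧ St T y⁻¹) →
      (∀ k : ℕ, k ≤ l.length → lconj ((l.take k).prod)⁻¹ A ⊆ T) → CRel St H T A (l.prod)⁻¹ := by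
  intro l
  induction l using List.reverseRecOn with
  | nil =>
    intro _ h
    have := h 0 le_rfl
    simp only [List.take_nil, List.prod_nil, inv_one] at this ⊢
    rw [lconj_one] at this
    exact CRel.refl this
  | append_singleton l y ih =>
    intro hmem h
    have h1 : CRel St H T A (l.prod)⁻¹ := by
      apply ih (fun z hz => hmem z (List.mem_append_left _ hz))
      intro k hk
      have := h k (by rw [List.length_append]; omega)
      rwa [List.take_append_of_le_length hk] at this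
    have e : ((l ++ [y]).prod)⁻¹ = y⁻¹ * (l.prod)⁻¹ := by
      rw [List.prod_append, List.prod_singleton, mul_inv_rev]
    rw [e]
    have hy := hmem y (List.mem_append_right _ (List.mem_singleton_self y))
    refine CRel.step _ _ h1 (inv_mem hy.1) hy.2 ?_
    have := h (l ++ [y]).length le_rfl
    rwa [List.take_length, e] at this

/-- The list of (inverse) steps of a chain. -/
theorem CRel.to_list (hSti : ∀ (T : Subgroup G) (y : G), St T y → St T y⁻¹) {A : Set G} {c : G}
    (h : CRel St H T A c) :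
    ∃ l : List G, (∀ y ∈ l, y ∈ H ∧ St T y) ∧ l.prod = c⁻¹ ∧
      ∀ k : ℕ, k ≤ l.length → lconj ((l.take k).prod)⁻¹ A ⊆ T := by
  induction h with
  | refl hA =>
    refine ⟨[], by simp, by simp, ?_⟩
    intro k _
    simp only [List.take_nil, List.prod_nil, inv_one]
    rw [lconj_one]; exact hA
  | step c y hc hy hSt hsub ih =>
    obtain ⟨l, hl, hprod, htake⟩ := ih
    refine ⟨l ++ [y⁻¹], ?_, ?_, ?_⟩
    · intro z hz
      rcases List.mem_append.1 hz with hz | hz
      · exact hl z hz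
      · rw [List.mem_singleton] at hz
        rw [hz]; exact ⟨inv_mem hy, hSti _ _ hSt⟩
    · rw [List.prod_append, List.prod_singleton, hprod, mul_inv_rev]
    · intro k hk
      rw [List.length_append, List.length_singleton] at hk
      rcases Nat.lt_or_ge k (l.length + 1) with hk' | hk'
      · have hk'' : k ≤ l.length := by omega
        rw [List.take_append_of_le_length hk'']
        exact htake k hk''
      · have hkl : k = (l ++ [y⁻¹]).length := by
          rw [List.length_append, List.length_singleton]; omega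
        rw [hkl, List.take_length, List.prod_append, List.prod_singleton, hprod, ← mul_inv_rev,
          inv_inv]
        exact hsub

end lists

section main

variable {p : ℕ} [Finite G] [Fact p.Prime]

/-- The inner induction of the centric local-to-global theorem. -/
theorem cctl_claim {S : Subgroup G} (hS : SylIn p S ⊤)
    {W : Subgroup G → Subgroup G} (hW : IsConjugacyFunctor p W)
    (hWZ : ∀ P : Subgroup G, IsPGroup p P → P ⊓ Subgroup.centralizer (P : Set G) ≤ W P)
    {St : Subgroup G → G → Prop}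
    (hSti : ∀ (T : Subgroup G) (y : G), St T y → St T y⁻¹)
    (hStc : ∀ (k : G) (T : Subgroup G) (y : G), IsPGroup p T → St T y →
      St (cj k T) (k * y * k⁻¹))
    (hStW : ∀ y ∈ Subgroup.normalizer ((W S : Subgroup G) : Set G), St S y)
    (hStQ : ∀ Q : Subgroup G, S ⊓ Subgroup.centralizer (S : Set G) ≤ Q → Q ≤ S → ∀ y, St Q y →
      y ∈ Subgroup.normalizer ((W Q : Subgroup G) : Set G) ∨ St S y)
    (hloc : ∀ T : Subgroup G, S ⊓ Subgroup.centralizer (S : Set G) ≤ T → T ≤ S →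
      ∃ Q, SylIn p Q (Subgroup.normalizer (T : Set G)) ∧
        CCtl St (Subgroup.normalizer (T : Set G)) Q)
    (c₀ : ℕ)
    (IH : ∀ A' : Subgroup G, A' ≤ S → c₀ < Nat.card A' → ∀ g, cj g⁻¹ A' ≤ S →
      CR St S (A' : Set G) g) :
    ∀ Q : Subgroup G, S ⊓ Subgroup.centralizer (S : Set G) ≤ Q → Q ≤ S → ∀ z, St Q z⁻¹ →
      ∀ U₁ : Subgroup G, U₁ ≤ Q → c₀ ≤ Nat.card U₁ → cj z⁻¹ U₁ ≤ Q →
        CR St S (U₁ : Set G) z := by
  have hpS : IsPGroup p S := hS.2.1
  intro Q
  induction' hn : Nat.card G - Nat.card Q using Nat.strong_induction_on with n ih generalizing Q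
  intro hZQ hQ z hz U₁ hU₁ hU₁c hU₁z
  have top : St S z⁻¹ → CR St S (U₁ : Set G) z := by
    intro hzS
    refine ⟨z⁻¹, ?_, fun a _ => by rw [inv_inv]⟩
    apply CRel.single (show (U₁ : Set G) ⊆ S from hU₁.trans hQ) (Subgroup.mem_top _) hzS
    rw [← coe_cj_eq_lconj]
    exact hU₁z.trans hQ
  rcases hStQ Q hZQ hQ z⁻¹ hz with hzW | hzS
  swap
  · exact top hzS
  by_cases hQS : Q = S
  · subst hQS
    exact top (hStW _ hzW)
  · have hzW' : z ∈ Subgroup.normalizer ((W Q : Subgroup G) : Set G) := by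
      simpa using inv_mem hzW
    have hpQ : IsPGroup p Q := hpS.to_le hQ
    have hTS : W Q ≤ S := (cf_le hW hpQ).trans hQ
    have hZT : S ⊓ Subgroup.centralizer (S : Set G) ≤ W Q := by
      refine le_trans ?_ (hWZ Q hpQ)
      exact le_inf hZQ (inf_le_right.trans (Subgroup.centralizer_le hQ))
    obtain ⟨Q', hQ', hctl'⟩ := hloc (W Q) hZT hTS
    have hQNT : Q ≤ S ⊓ Subgroup.normalizer ((W Q : Subgroup G) : Set G) :=
      le_inf hQ (Subgroup.le_normalizer.trans (cf_normalizer_le hW hpQ))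
    have hcard : Nat.card Q < Nat.card ↥(S ⊓ Subgroup.normalizer ((W Q : Subgroup G) : Set G)) :=
      lt_of_lt_of_le (card_lt_card_inf_normalizer hpS hQ hQS)
        (Subgroup.card_le_of_le (inf_le_inf_left _ (cf_normalizer_le hW hpQ)))
    obtain ⟨n₁, hn₁, hn₁le⟩ := hQ'.exists_cj_le
      (B := S ⊓ Subgroup.normalizer ((W Q : Subgroup G) : Set G)) inf_le_right
      (hpS.to_le inf_le_left)
    have hNn : cj n₁⁻¹ (Subgroup.normalizer ((W Q : Subgroup G) : Set G)) =
        Subgroup.normalizer ((W Q : Subgroup G) : Set G) := cj_eq_self_of_mem (inv_mem hn₁)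
    have hQ'' : SylIn p (cj n₁⁻¹ Q') (Subgroup.normalizer ((W Q : Subgroup G) : Set G)) := by
      have := hQ'.conj n₁⁻¹
      rwa [hNn] at this
    have hctl'' : CCtl St (Subgroup.normalizer ((W Q : Subgroup G) : Set G)) (cj n₁⁻¹ Q') := by
      have := hctl'.conj hStc hQ'.2.1 n₁⁻¹
      rwa [hNn] at this
    have hle'' : S ⊓ Subgroup.normalizer ((W Q : Subgroup G) : Set G) ≤ cj n₁⁻¹ Q' :=
      cj_le_iff.1 hn₁le
    obtain ⟨k', -, hk'⟩ := hS.exists_cj_le (B := cj n₁⁻¹ Q') le_top hQ''.2.1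
    obtain ⟨k, rfl⟩ : ∃ k, k' = k⁻¹ := ⟨k'⁻¹, (inv_inv _).symm⟩
    have hQ₂syl : SylIn p (cj k⁻¹ (cj n₁⁻¹ Q'))
        (Subgroup.normalizer ((cj k⁻¹ (W Q) : Subgroup G) : Set G)) := by
      have := hQ''.conj k⁻¹
      rwa [cj_normalizer] at this
    have hctl₂ : CCtl St (Subgroup.normalizer ((cj k⁻¹ (W Q) : Subgroup G) : Set G))
        (cj k⁻¹ (cj n₁⁻¹ Q')) := by
      have := hctl''.conj hStc hQ''.2.1 k⁻¹
      rwa [cj_normalizer] at this
    have hT₂S : cj k⁻¹ (W Q) ≤ S :=
      (cj_mono (((cf_le hW hpQ).trans hQNT).trans hle'')).trans hk'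
    have hZQ₂ : S ⊓ Subgroup.centralizer (S : Set G) ≤ cj k⁻¹ (cj n₁⁻¹ Q') := by
      have hZN : S ⊓ Subgroup.centralizer (S : Set G) ≤
          Subgroup.normalizer ((cj k⁻¹ (W Q) : Subgroup G) : Set G) :=
        (inf_le_right.trans (Subgroup.centralizer_le hT₂S)).trans
          (Subgroup.centralizer_le_normalizer _)
      have := hQ₂syl.eq_of_le (T' := (S ⊓ Subgroup.centralizer (S : Set G)) ⊔
        cj k⁻¹ (cj n₁⁻¹ Q')) (sup_le hZN hQ₂syl.1)
        (hpS.to_le (sup_le inf_le_left hk')) le_sup_right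
      rw [← this]
      exact le_sup_left
    have hcard₂ : Nat.card Q < Nat.card ↥(cj k⁻¹ (cj n₁⁻¹ Q')) := by
      rw [card_cj]
      exact lt_of_lt_of_le hcard (Subgroup.card_le_of_le hle'')
    have hU₁card : Nat.card U₁ ≤ Nat.card Q := Subgroup.card_le_of_le hU₁
    have hRk := IH _ inf_le_left (by omega) k ((cj_mono hle'').trans hk')
    have hRk1 : CR St S (U₁ : Set G) k := hRk.mono (hU₁.trans hQNT)
    have hRk2 : CR St S ((cj z⁻¹ U₁ : Subgroup G) : Set G) k := hRk.mono (hU₁z.trans hQNT)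
    have hz' : k⁻¹ * z * k ∈ Subgroup.normalizer ((cj k⁻¹ (W Q) : Subgroup G) : Set G) := by
      have := conj_mem_cj (g := k⁻¹) hzW'
      rw [inv_inv, cj_normalizer] at this
      exact this
    have hU'' : cj k⁻¹ U₁ ≤ cj k⁻¹ (cj n₁⁻¹ Q') := cj_mono ((hU₁.trans hQNT).trans hle'')
    have hU''c : c₀ ≤ Nat.card (cj k⁻¹ U₁) := by rw [card_cj]; exact hU₁c
    have hsub : lconj (k⁻¹ * z * k)⁻¹ ((cj k⁻¹ U₁ : Subgroup G) : Set G) ⊆
        ((cj k⁻¹ (cj n₁⁻¹ Q') : Subgroup G) : Set G) := by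
      rw [← coe_cj_eq_lconj, ← cj_mul]
      have e : (k⁻¹ * z * k)⁻¹ * k⁻¹ = k⁻¹ * z⁻¹ := by group
      rw [e, cj_mul]
      exact cj_mono ((hU₁z.trans hQNT).trans hle'')
    obtain ⟨c, hc, ec⟩ := hctl₂ ((cj k⁻¹ U₁ : Subgroup G) : Set G) (k⁻¹ * z * k)⁻¹ (inv_mem hz')
      hU'' hsub
    have hle : Nat.card ↥(cj k⁻¹ (cj n₁⁻¹ Q')) ≤ Nat.card G := Subgroup.card_le_card_group _
    have hQ₂claim := ih _ (by omega) (cj k⁻¹ (cj n₁⁻¹ Q')) rfl hZQ₂ hk'
    obtain ⟨c', hc', ec'⟩ := CRel.convert c₀ hQ₂claim hk' hU''c hc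
    have hRz' : CR St S ((cj k⁻¹ U₁ : Subgroup G) : Set G) (k⁻¹ * z * k) :=
      ⟨c', hc', fun a ha => (ec' a ha).trans (by rw [ec a ha, inv_inv])⟩
    rw [coe_cj_inv_eq_rconj] at hRz'
    have s1 : CR St S (U₁ : Set G) (k * (k⁻¹ * z * k)) := hRk1.comp hRz'
    have hRk2' := hRk2.inv hSti
    have e1 : rconj k ((cj z⁻¹ U₁ : Subgroup G) : Set G) =
        rconj (k * (k⁻¹ * z * k)) (U₁ : Set G) := by
      rw [coe_cj_inv_eq_rconj, ← rconj_mul]
      congr 1
      group
    rw [e1] at hRk2'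
    have s2 := s1.comp hRk2'
    have e2 : k * (k⁻¹ * z * k) * k⁻¹ = z := by group
    rw [e2] at s2
    exact s2

/-- Local-to-global for chain control of strong fusion: it suffices to have control in the
normalisers of the subgroups `T` with `Z(S) ≤ T ≤ S`. -/
theorem cctl_of_local_centric {S : Subgroup G} (hS : SylIn p S ⊤)
    {W : Subgroup G → Subgroup G} (hW : IsConjugacyFunctor p W)
    (hWZ : ∀ P : Subgroup G, IsPGroup p P → P ⊓ Subgroup.centralizer (P : Set G) ≤ W P)
    {St : Subgroup G → G → Prop}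
    (hSti : ∀ (T : Subgroup G) (y : G), St T y → St T y⁻¹)
    (hStc : ∀ (k : G) (T : Subgroup G) (y : G), IsPGroup p T → St T y →
      St (cj k T) (k * y * k⁻¹))
    (hStW : ∀ y ∈ Subgroup.normalizer ((W S : Subgroup G) : Set G), St S y)
    (hStQ : ∀ Q : Subgroup G, S ⊓ Subgroup.centralizer (S : Set G) ≤ Q → Q ≤ S → ∀ y, St Q y →
      y ∈ Subgroup.normalizer ((W Q : Subgroup G) : Set G) ∨ St S y)
    (hloc : ∀ T : Subgroup G, S ⊓ Subgroup.centralizer (S : Set G) ≤ T → T ≤ S →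
      ∃ Q, SylIn p Q (Subgroup.normalizer (T : Set G)) ∧
        CCtl St (Subgroup.normalizer (T : Set G)) Q) :
    CCtl St ⊤ S := by
  have hpS : IsPGroup p S := hS.2.1
  intro A h _ hA hhA
  have hcl : Subgroup.closure A ≤ S := (Subgroup.closure_le _).2 hA
  have hcl' : cj h⁻¹⁻¹ (Subgroup.closure A) ≤ S := by
    rw [inv_inv, cj_closure, Subgroup.closure_le]
    exact hhA
  have key := alperin_induction hS
    (fun A g => CR St S (A : Set G) g)
    (by
      intro A g h h1 h2
      rw [coe_cj_inv_eq_rconj] at h2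
      exact h1.comp h2)
    (fun A B g hBA h => h.mono hBA)
    (by
      intro A g h
      have := h.inv hSti
      rw [← coe_cj_inv_eq_rconj] at this
      exact this)
    (by
      intro U hU hsyl IH m hm
      by_cases hcen : S ⊓ Subgroup.centralizer (U : Set G) ≤ U
      · have hZU : S ⊓ Subgroup.centralizer (S : Set G) ≤ U :=
          (inf_le_inf_left _ (Subgroup.centralizer_le hU)).trans hcen
        obtain ⟨Q, hQ, hctl⟩ := hloc U hZU hU
        obtain ⟨k, hk, hkQ⟩ := hsyl.exists_cj_eq hQ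
        have hctrl : CCtl St (Subgroup.normalizer (U : Set G))
            (S ⊓ Subgroup.normalizer (U : Set G)) := by
          have := hctl.conj hStc hQ.2.1 k
          rwa [cj_eq_self_of_mem hk, hkQ] at this
        have hsub : lconj m⁻¹ (U : Set G) ⊆
            ((S ⊓ Subgroup.normalizer (U : Set G) : Subgroup G) : Set G) := by
          rw [← coe_cj_eq_lconj, mem_normalizer_iff_cj.1 (inv_mem hm)]
          exact le_inf hU Subgroup.le_normalizer
        obtain ⟨c, hc, ec⟩ := hctrl (U : Set G) m⁻¹ (inv_mem hm)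
          (show (U : Set G) ⊆ _ from le_inf hU Subgroup.le_normalizer) hsub
        have claim := cctl_claim hS hW hWZ hSti hStc hStW hStQ hloc (Nat.card U) IH
          (S ⊓ Subgroup.normalizer (U : Set G)) (hZU.trans (le_inf hU Subgroup.le_normalizer))
          inf_le_left
        obtain ⟨c', hc', ec'⟩ := CRel.convert (Nat.card U) claim inf_le_left le_rfl hc
        exact ⟨c', hc', fun a ha => (ec' a ha).trans (by rw [ec a ha, inv_inv])⟩
      · have hCN : Subgroup.centralizer (U : Set G) ≤ Subgroup.normalizer (U : Set G) :=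
          (Subgroup.centralizer_le_normalizer _)
        have hCnorm : ∀ n ∈ Subgroup.normalizer (U : Set G),
            cj n (Subgroup.centralizer (U : Set G)) = Subgroup.centralizer (U : Set G) := by
          intro n hn
          rw [cj_centralizer, mem_normalizer_iff_cj.1 hn]
        have hSC := hsyl.inf_normal hCN hCnorm
        have hSC' : (S ⊓ Subgroup.normalizer (U : Set G)) ⊓ Subgroup.centralizer (U : Set G) =
            S ⊓ Subgroup.centralizer (U : Set G) := by
          rw [inf_assoc, inf_eq_right.2 hCN]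
        rw [hSC'] at hSC
        have h1 := hSC.conj m⁻¹
        rw [hCnorm _ (inv_mem hm)] at h1
        obtain ⟨k, hk, hkT⟩ := hSC.exists_cj_eq h1
        have hnU : cj (m * k⁻¹)⁻¹ U = U :=
          mem_normalizer_iff_cj.1 (inv_mem (mul_mem hm (inv_mem (hCN hk))))
        have hnSC : cj (m * k⁻¹)⁻¹ (S ⊓ Subgroup.centralizer (U : Set G)) =
            S ⊓ Subgroup.centralizer (U : Set G) := by
          have e : (m * k⁻¹)⁻¹ = k * m⁻¹ := by group
          rw [e, cj_mul]; exact hkT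
        have hUs : U ⊔ (S ⊓ Subgroup.centralizer (U : Set G)) ≤ S := sup_le hU inf_le_left
        have hn' : cj (m * k⁻¹)⁻¹ (U ⊔ (S ⊓ Subgroup.centralizer (U : Set G))) ≤ S := by
          have : cj (m * k⁻¹)⁻¹ (U ⊔ (S ⊓ Subgroup.centralizer (U : Set G))) =
              cj (m * k⁻¹)⁻¹ U ⊔ cj (m * k⁻¹)⁻¹ (S ⊓ Subgroup.centralizer (U : Set G)) :=
            Subgroup.map_sup _ _ _
          rw [this, hnU, hnSC]
          exact hUs
        have hlt : Nat.card U < Nat.card ↥(U ⊔ (S ⊓ Subgroup.centralizer (U : Set G))) := by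
          apply card_lt_of_lt
          refine lt_of_le_of_ne le_sup_left (fun h => hcen ?_)
          have h2 : S ⊓ Subgroup.centralizer (U : Set G) ≤
              U ⊔ (S ⊓ Subgroup.centralizer (U : Set G)) := le_sup_right
          rw [← h] at h2
          exact h2
        obtain ⟨c, hc, ec⟩ := (IH _ hUs hlt (m * k⁻¹) hn').mono
          (show (U : Set G) ⊆ ((U ⊔ (S ⊓ Subgroup.centralizer (U : Set G)) : Subgroup G) : Set G)
            from (le_sup_left : U ≤ U ⊔ (S ⊓ Subgroup.centralizer (U : Set G))))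
        refine ⟨c, hc, fun a ha => ?_⟩
        rw [ec a ha]
        have hmem : m⁻¹ * a * m ∈ U := by
          have := (mem_normalizer_iff_cj.1 (inv_mem hm))
          have h3 : m⁻¹ * a * m⁻¹⁻¹ ∈ cj m⁻¹ U := conj_mem_cj ha
          rw [this, inv_inv] at h3
          exact h3
        have hkc := Subgroup.mem_centralizer_iff.1 hk _ hmem
        calc (m * k⁻¹)⁻¹ * a * (m * k⁻¹) = k * (m⁻¹ * a * m) * k⁻¹ := by group
          _ = (m⁻¹ * a * m) * k * k⁻¹ := by rw [hkc]
          _ = m⁻¹ * a * m := by group)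
    (Subgroup.closure A) hcl h⁻¹ hcl'
  obtain ⟨c, hc, ec⟩ := key
  refine ⟨c, hc.mono Subgroup.subset_closure, fun a ha => ?_⟩
  rw [ec a (Subgroup.subset_closure ha), inv_inv]

end main

end Cfsg.Agent.Lib.Helper51
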