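import Mathlib
import Cfsg.Agent.Lib.Helper51.CentricLG
import Cfsg.Agent.Lib.Helper51.SCZJ

/-!
# `Z(J(S))` controls strong fusion when the normalisers of the subgroups between `Z(S)` and `S`
are `SL₂(p)`-free
-/

set_option autoImplicit false

universe u

namespace Cfsg.Agent.Lib.Helper51

open Cfsg Cfsg.Agent.Lib.Helper33

variable {p : ℕ}

/-- The homomorphism of `Qd(p)` onto `SL₂(p)`. -/
def qdSL (p : ℕ) [Fact p.Prime] : ↥(Cfsg.qd p) →* Matrix.SpecialLinearGroup (Fin 2) (ZMod p) where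
  toFun x := ⟨Cfsg.Agent.Lib.Helper37.qdBlock p x, by
    obtain ⟨m, v, rfl⟩ := qdElt_surj x
    rw [qdBlock_qdElt]
    exact m.2⟩
  map_one' := Subtype.ext (map_one _)
  map_mul' x y := Subtype.ext (map_mul _ x y)

theorem qdSL_surjective [Fact p.Prime] : Function.Surjective (qdSL p) :=
  fun m => ⟨qdElt m 0, Subtype.ext (qdBlock_qdElt m 0)⟩

/-- In a `Qd(p)`-free group, `p` odd, the functor `Z(J(·))` has the strongly-closed control
property. -/
theorem scp_zjA_of_qd_free [Fact p.Prime] (hp : p ≠ 2) {G : Type u} [Group G] [Finite G]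
    (hqd : ¬ Cfsg.Involves ↥(Cfsg.qd p) G) :
    SCP p (fun (Q : Type u) (_ : Group Q) => zjA Q) G := by
  have hnorm : ∀ (X : Type u) [Group X], (Finite X ∧ ¬ Cfsg.Involves ↥(Cfsg.qd p) X) →
      Subgroup.centralizer ((pCore p X : Subgroup X) : Set X) ≤ pCore p X →
      ∀ S D : Subgroup X, SylIn p S ⊤ → IsStronglyClosed D S →
        (Cfsg.centerThompsonAOf D).Normal ∧ (Cfsg.omegaOne p (Cfsg.centerThompsonOf p D)).Normal := by
    intro X _ hX hc S D hS hD
    have := hX.1
    let S₀ : Sylow p X := hS.2.1.toSylow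
      (by have := hS.2.2; rwa [Subgroup.relIndex_top_right] at this)
    exact zj_strongly_closed hp S₀ D hD (isNormalizerPStable_of_qd_free hp hX.2) hc
  have hsub : ∀ (X : Type u) [Group X], (Finite X ∧ ¬ Cfsg.Involves ↥(Cfsg.qd p) X) →
      ∀ H : Subgroup X, (Finite ↥H ∧ ¬ Cfsg.Involves ↥(Cfsg.qd p) ↥H) := by
    intro X _ hX H
    have := hX.1
    exact ⟨inferInstance, fun h => hX.2 (Cfsg.Agent.Lib.Helper34.involves_of_subgroup H h)⟩
  have hquo : ∀ (X : Type u) [Group X], (Finite X ∧ ¬ Cfsg.Involves ↥(Cfsg.qd p) X) →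
      ∀ (N : Subgroup X) [N.Normal], (Finite (X ⧸ N) ∧ ¬ Cfsg.Involves ↥(Cfsg.qd p) (X ⧸ N)) := by
    intro X _ hX N _
    have := hX.1
    exact ⟨inferInstance, fun h => hX.2 (Cfsg.Agent.Lib.Helper34.involves_of_quotient N h)⟩
  exact scp_induction (isCharPFunctor_zjA.{u} p)
    (fun (X : Type u) [Group X] => Finite X ∧ ¬ Cfsg.Involves ↥(Cfsg.qd p) X)
    (fun X _ h => h.1) hsub hquo (by
      intro X _ hX hc S D hS hD
      rw [inducedFunctor_zjA]
      exact (hnorm X hX hc S D hS hD).1) G ⟨inferInstance, hqd⟩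

/-- A section of a subgroup `N` onto `SL₂(p)` coming from an involvement of `Qd(p)` in `N`. -/
theorem exists_sl2_section_of_involves_qd [Fact p.Prime] {G : Type u} [Group G] (N : Subgroup G)
    (h : Cfsg.Involves ↥(Cfsg.qd p) ↥N) :
    ∃ (H K : Subgroup G) (_ : (K.subgroupOf H).Normal), H ≤ N ∧
      Nonempty ((H ⧸ K.subgroupOf H) ≃* Matrix.SpecialLinearGroup (Fin 2) (ZMod p)) := by
  obtain ⟨K, φ, hφ⟩ := Cfsg.Agent.Lib.Helper34.involves_iff_exists_hom.mp h
  let e : ↥K ≃* ↥(K.map N.subtype) := K.equivMapOfInjective N.subtype N.subtype_injective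
  let ψ : ↥(K.map N.subtype) →* Matrix.SpecialLinearGroup (Fin 2) (ZMod p) :=
    ((qdSL p).comp φ).comp e.symm.toMonoidHom
  have hψ : Function.Surjective ψ := (qdSL_surjective.comp hφ).comp e.symm.surjective
  have hR : ((ψ.ker.map (K.map N.subtype).subtype).subgroupOf (K.map N.subtype)) = ψ.ker :=
    Subgroup.comap_map_eq_self_of_injective (K.map N.subtype).subtype_injective _
  have hn : ((ψ.ker.map (K.map N.subtype).subtype).subgroupOf (K.map N.subtype)).Normal := by
    rw [hR]; infer_instance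
  refine ⟨K.map N.subtype, ψ.ker.map (K.map N.subtype).subtype, hn, Subgroup.map_subtype_le _, ⟨?_⟩⟩
  exact (QuotientGroup.quotientMulEquivOfEq hR).trans
    (QuotientGroup.quotientKerEquivOfSurjective ψ hψ)

/-- `S3071`, in chain form. -/
theorem zjA_control_of_local_free [Fact p.Prime] (hp : p ≠ 2) {G : Type u} [Group G] [Finite G]
    (S : Sylow p G)
    (hfree : ∀ P : Subgroup G,
      (S : Subgroup G) ⊓ Subgroup.centralizer ((S : Subgroup G) : Set G) ≤ P → P ≤ S →
      ¬ ∃ (H K : Subgroup G) (_ : (K.subgroupOf H).Normal), H ≤ Subgroup.normalizer (P : Set G) ∧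
        Nonempty ((H ⧸ K.subgroupOf H) ≃* Matrix.SpecialLinearGroup (Fin 2) (ZMod p))) :
    CCtl (fun (T : Subgroup G) (y : G) =>
      y ∈ Subgroup.normalizer ((Cfsg.centerThompsonAOf T : Subgroup G) : Set G)) ⊤
      (S : Subgroup G) := by
  have hWf := isCharPFunctor_zjA.{u} p
  have hW := isConjugacyFunctor_induced hWf G
  have hWe : ∀ T : Subgroup G, Cfsg.centerThompsonAOf T =
      Cfsg.inducedFunctor (fun (Q : Type u) (_ : Group Q) => zjA Q) T :=
    fun T => (inducedFunctor_zjA T).symm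
  have hWZ : ∀ P : Subgroup G, IsPGroup p P → P ⊓ Subgroup.centralizer (P : Set G) ≤
      Cfsg.inducedFunctor (fun (Q : Type u) (_ : Group Q) => zjA Q) P := by
    intro P _ x hx
    obtain ⟨hxP, hxC⟩ := Subgroup.mem_inf.1 hx
    have hc : (⟨x, hxP⟩ : ↥P) ∈ Subgroup.center ↥P := by
      rw [Subgroup.mem_center_iff]
      intro g
      exact Subtype.ext (Subgroup.mem_centralizer_iff.1 hxC g g.2)
    exact ⟨⟨x, hxP⟩, center_le_zjA ↥P hc, rfl⟩
  have key := cctl_of_local_centric (sylIn_top S) hW hWZ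
    (St := fun (T : Subgroup G) (y : G) =>
      y ∈ Subgroup.normalizer ((Cfsg.inducedFunctor (fun (Q : Type u) (_ : Group Q) => zjA Q) T :
        Subgroup G) : Set G))
    (fun T y hy => inv_mem hy)
    (by
      intro k T y hT hy
      show k * y * k⁻¹ ∈ Subgroup.normalizer _
      rw [cf_cj_eq hW hT, ← cj_normalizer]
      exact conj_mem_cj hy)
    (fun y hy => hy)
    (fun Q _ _ y hy => Or.inl hy)
    (by
      intro T hZT hTS
      have hqd : ¬ Cfsg.Involves ↥(Cfsg.qd p) ↥(Subgroup.normalizer (T : Set G)) := by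
        intro hinv
        exact hfree T hZT hTS (exists_sl2_section_of_involves_qd _ hinv)
      have hscp := scp_zjA_of_qd_free hp hqd
      obtain ⟨Q, hQ, -⟩ := exists_sylIn_ge (p := p) (H := Subgroup.normalizer (T : Set G))
        (B := ⊥) bot_le IsPGroup.of_bot
      refine ⟨Q, hQ, ?_⟩
      have hQN : Q ⊓ Subgroup.normalizer (T : Set G) = Q := inf_eq_left.2 hQ.1
      have hsyl : SylIn p (Q ⊓ Subgroup.normalizer (T : Set G)) (Subgroup.normalizer (T : Set G)) := by
        rw [hQN]; exact hQ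
      have hD : IsStronglyClosed Q Q := ⟨le_rfl, fun x _ g hg => hg⟩
      have hctl := scp_subgroup hWf hscp hsyl hD
      rw [hQN] at hctl
      intro A h hh hA hhA
      obtain ⟨x, hx, ex⟩ := hctl A h hh hA hhA
      refine ⟨x, ?_, ex⟩
      apply CRel.single hA (Subgroup.mem_inf.1 hx).1 (Subgroup.mem_inf.1 hx).2
      rw [lconj_congr ex]
      exact hhA)
  have hfun : (fun (T : Subgroup G) (y : G) =>
      y ∈ Subgroup.normalizer ((Cfsg.centerThompsonAOf T : Subgroup G) : Set G)) =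
      (fun (T : Subgroup G) (y : G) =>
      y ∈ Subgroup.normalizer ((Cfsg.inducedFunctor (fun (Q : Type u) (_ : Group Q) => zjA Q) T :
        Subgroup G) : Set G)) := by
    funext T y
    rw [hWe T]
  rw [hfun]
  exact key

end Cfsg.Agent.Lib.Helper51
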