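import Mathlib
import Cfsg.Agent.Lib.Helper51.ZJLocal
import Cfsg.Agent.Lib.Helper51.FusCtl

/-!
# A section `Qd(p)` gives a `p`-subgroup whose automiser involves `SL₂(p)`
-/

set_option autoImplicit false

universe u

namespace Cfsg.Agent.Lib.Helper51

open Cfsg Cfsg.Agent.Lib.Helper33

variable {p : ℕ} [Fact p.Prime]

theorem qdSL_qdLin (s : Matrix.SpecialLinearGroup (Fin 2) (ZMod p)) : qdSL p (qdLin p s) = s :=
  Subtype.ext (qdBlock_qdElt s 0)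

theorem qdSL_eq_one_of_mem_ker {y : ↥(Cfsg.qd p)}
    (hy : y ∈ (Cfsg.Agent.Lib.Helper37.qdBlock p).ker) : qdSL p y = 1 :=
  Subtype.ext (MonoidHom.mem_ker.1 hy)

theorem qdKer_comm {a b : ↥(Cfsg.qd p)} (ha : a ∈ (Cfsg.Agent.Lib.Helper37.qdBlock p).ker)
    (hb : b ∈ (Cfsg.Agent.Lib.Helper37.qdBlock p).ker) : a * b = b * a := by
  obtain ⟨v, rfl⟩ := mem_qdBlock_ker a ha
  obtain ⟨w, rfl⟩ := mem_qdBlock_ker b hb
  rw [qdElt_mul, qdElt_mul]
  simp [add_comm]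

theorem qdTr_mem_ker (v : Multiplicative (Fin 2 → ZMod p)) :
    qdTr p v ∈ (Cfsg.Agent.Lib.Helper37.qdBlock p).ker := qdElt_one_mem_ker _

/-- If `Qd(p)` is involved in `G`, some `p`-subgroup `R` of `G` has `SL₂(p)` involved in
`N_G(R) / C_G(R)`. -/
theorem exists_sl2_automizer_of_involves_qd {G : Type u} [Group G] [Finite G]
    (h : Cfsg.Involves ↥(Cfsg.qd p) G) :
    ∃ R : Subgroup G, IsPGroup p R ∧ ∃ (H K : Subgroup G) (_ : (K.subgroupOf H).Normal),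
      Subgroup.centralizer (R : Set G) ≤ K ∧ K ≤ H ∧ H ≤ Subgroup.normalizer (R : Set G) ∧
      Nonempty ((↥H ⧸ K.subgroupOf H) ≃* Matrix.SpecialLinearGroup (Fin 2) (ZMod p)) := by
  classical
  obtain ⟨K₀, φ, hφ⟩ := Cfsg.Agent.Lib.Helper34.involves_iff_exists_hom.mp h
  -- total extension of `φ`
  let φ' : G → ↥(Cfsg.qd p) := fun x => if hx : x ∈ K₀ then φ ⟨x, hx⟩ else 1
  have φ'_eq : ∀ (x : G) (hx : x ∈ K₀), φ' x = φ ⟨x, hx⟩ := fun x hx => dif_pos hx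
  have φ'_mul : ∀ x y : G, x ∈ K₀ → y ∈ K₀ → φ' (x * y) = φ' x * φ' y := by
    intro x y hx hy
    rw [φ'_eq _ (mul_mem hx hy), φ'_eq x hx, φ'_eq y hy, ← map_mul]
    rfl
  have φ'_inv : ∀ x : G, x ∈ K₀ → φ' x⁻¹ = (φ' x)⁻¹ := by
    intro x hx
    rw [φ'_eq _ (inv_mem hx), φ'_eq x hx, ← map_inv]
    rfl
  have φ'_pow : ∀ (x : G) (n : ℕ), x ∈ K₀ → φ' (x ^ n) = (φ' x) ^ n := by
    intro x n hx
    rw [φ'_eq _ (pow_mem hx n), φ'_eq x hx, ← map_pow]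
    rfl
  have φ'_surj : ∀ y : ↥(Cfsg.qd p), ∃ x ∈ K₀, φ' x = y := by
    intro y
    obtain ⟨x, rfl⟩ := hφ y
    exact ⟨x, x.2, φ'_eq _ x.2⟩
  -- the preimage of the translation subgroup
  let M : Subgroup G :=
    { carrier := {x | x ∈ K₀ ∧ φ' x ∈ (Cfsg.Agent.Lib.Helper37.qdBlock p).ker}
      mul_mem' := by
        rintro x y ⟨hx, hx'⟩ ⟨hy, hy'⟩
        exact ⟨mul_mem hx hy, by rw [φ'_mul x y hx hy]; exact mul_mem hx' hy'⟩
      one_mem' := ⟨one_mem _, by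
        rw [φ'_eq 1 (one_mem _)]
        have : (⟨1, one_mem K₀⟩ : ↥K₀) = 1 := rfl
        rw [this, map_one]; exact one_mem _⟩
      inv_mem' := by
        rintro x ⟨hx, hx'⟩
        exact ⟨inv_mem hx, by rw [φ'_inv x hx]; exact inv_mem hx'⟩ }
  have hMK : M ≤ K₀ := fun x hx => hx.1
  have hMV : ∀ x ∈ M, φ' x ∈ (Cfsg.Agent.Lib.Helper37.qdBlock p).ker := fun x hx => hx.2
  have hVn : ((Cfsg.Agent.Lib.Helper37.qdBlock p).ker).Normal := inferInstance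
  have hMinv : ∀ g ∈ K₀, cj g M = M := by
    intro g hg
    apply eq_of_le_of_card_le _ (by rw [card_cj])
    rintro _ ⟨x, ⟨hx, hx'⟩, rfl⟩
    refine ⟨mul_mem (mul_mem hg hx) (inv_mem hg), ?_⟩
    show φ' (g * x * g⁻¹) ∈ _
    rw [φ'_mul _ _ (mul_mem hg hx) (inv_mem hg), φ'_mul _ _ hg hx, φ'_inv g hg]
    exact hVn.conj_mem _ hx' _
  obtain ⟨R, hR, -⟩ := exists_sylIn_ge (p := p) (H := M) (B := ⊥) bot_le IsPGroup.of_bot
  have hRK : R ≤ K₀ := hR.1.trans hMK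
  -- the kernel of `φ`
  let Kφ : Subgroup G :=
    { carrier := {x | x ∈ K₀ ∧ φ' x = 1}
      mul_mem' := by
        rintro x y ⟨hx, hx'⟩ ⟨hy, hy'⟩
        exact ⟨mul_mem hx hy, by rw [φ'_mul x y hx hy, hx', hy', one_mul]⟩
      one_mem' := ⟨one_mem _, by
        rw [φ'_eq 1 (one_mem _)]
        have : (⟨1, one_mem K₀⟩ : ↥K₀) = 1 := rfl
        rw [this, map_one]⟩
      inv_mem' := by
        rintro x ⟨hx, hx'⟩
        exact ⟨inv_mem hx, by rw [φ'_inv x hx, hx', inv_one]⟩ }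
  have hKφinv : ∀ n ∈ M, cj n Kφ = Kφ := by
    intro n hn
    apply eq_of_le_of_card_le _ (by rw [card_cj])
    rintro _ ⟨x, ⟨hx, hx'⟩, rfl⟩
    have hnK := hMK hn
    refine ⟨mul_mem (mul_mem hnK hx) (inv_mem hnK), ?_⟩
    show φ' (n * x * n⁻¹) = 1
    rw [φ'_mul _ _ (mul_mem hnK hx) (inv_mem hnK), φ'_mul _ _ hnK hx, φ'_inv n hnK, hx']
    group
  have hpq : ∀ x ∈ M, ∃ k : ℕ, x ^ (p ^ k) ∈ Kφ := by
    intro x hx
    obtain ⟨k, hk⟩ := (Cfsg.Agent.Lib.Helper37.qdBlock_ker_isPGroup (p := p)) ⟨φ' x, hMV x hx⟩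
    refine ⟨k, pow_mem (hMK hx) _, ?_⟩
    show φ' (x ^ (p ^ k)) = 1
    rw [φ'_pow x _ (hMK hx)]
    exact congrArg Subtype.val hk
  have hmul := exists_mul_of_pquotient hR hKφinv hpq
  -- `φ` maps `R` onto the translation subgroup
  have hRV : ∀ v ∈ (Cfsg.Agent.Lib.Helper37.qdBlock p).ker, ∃ r ∈ R, φ' r = v := by
    intro v hv
    obtain ⟨x, hx, rfl⟩ := φ'_surj v
    obtain ⟨t, ht, c, hc, rfl⟩ := hmul x ⟨hx, hv⟩
    refine ⟨t, ht, ?_⟩
    rw [φ'_mul t c (hRK ht) hc.1, hc.2, mul_one]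
  -- Frattini argument
  have hfr : ∀ g ∈ K₀, ∃ x ∈ M, x * g ∈ Subgroup.normalizer (R : Set G) := by
    intro g hg
    have h1 := hR.conj g
    rw [hMinv g hg] at h1
    obtain ⟨k, hk, hkR⟩ := hR.exists_cj_eq h1
    exact ⟨k, hk, mem_normalizer_iff_cj.2 (by rw [cj_mul]; exact hkR)⟩
  -- the action predicate
  let Act : G → Matrix.SpecialLinearGroup (Fin 2) (ZMod p) → Prop := fun h s =>
    ∀ r ∈ R, φ' (h * r * h⁻¹) = qdLin p s * φ' r * (qdLin p s)⁻¹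
  have hU : ∀ (h : G) (s s' : Matrix.SpecialLinearGroup (Fin 2) (ZMod p)),
      Act h s → Act h s' → s = s' := by
    intro h s s' h1 h2
    have hc : qdLin p (s'⁻¹ * s) ∈ Subgroup.centralizer
        (((Cfsg.Agent.Lib.Helper37.qdBlock p).ker : Subgroup ↥(Cfsg.qd p)) : Set ↥(Cfsg.qd p)) := by
      rw [Subgroup.mem_centralizer_iff]
      intro v hv
      obtain ⟨r, hr, rfl⟩ := hRV v hv
      have e := (h1 r hr).symm.trans (h2 r hr)
      rw [map_mul, map_inv]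
      calc φ' r * ((qdLin p s')⁻¹ * qdLin p s)
          = (qdLin p s')⁻¹ * (qdLin p s' * φ' r * (qdLin p s')⁻¹) * qdLin p s := by group
        _ = (qdLin p s')⁻¹ * (qdLin p s * φ' r * (qdLin p s)⁻¹) * qdLin p s := by rw [e]
        _ = (qdLin p s')⁻¹ * qdLin p s * φ' r := by group
    have := qdLin_centralizer _ hc
    calc s = s' * (s'⁻¹ * s) := by group
      _ = s' := by rw [this, mul_one]
  have hM : ∀ (h₁ h₂ : G) (s₁ s₂ : Matrix.SpecialLinearGroup (Fin 2) (ZMod p)),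
      Act h₁ s₁ → Act h₂ s₂ → h₂ ∈ Subgroup.normalizer (R : Set G) →
      Act (h₁ * h₂) (s₁ * s₂) := by
    intro h₁ h₂ s₁ s₂ a₁ a₂ hh₂ r hr
    have hr' : h₂ * r * h₂⁻¹ ∈ R := conj_mem_of_mem_normalizer hh₂ hr
    have e : h₁ * h₂ * r * (h₁ * h₂)⁻¹ = h₁ * (h₂ * r * h₂⁻¹) * h₁⁻¹ := by group
    rw [e, a₁ _ hr', a₂ r hr, map_mul]
    group
  have hE₁ : ∀ n ∈ K₀ ⊓ Subgroup.normalizer (R : Set G), Act n (qdSL p (φ' n)) := by
    intro n hn r hr
    obtain ⟨hnK, hnN⟩ := Subgroup.mem_inf.1 hn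
    have hrK := hRK hr
    rw [φ'_mul _ _ (mul_mem hnK hrK) (inv_mem hnK), φ'_mul _ _ hnK hrK, φ'_inv n hnK]
    obtain ⟨s, v, e⟩ := qdTr_mul_qdLin_surj (φ' n)
    have hs : qdSL p (φ' n) = s := by
      rw [e, map_mul, qdSL_eq_one_of_mem_ker (qdTr_mem_ker v), one_mul, qdSL_qdLin]
    rw [hs, e]
    have hw : qdLin p s * φ' r * (qdLin p s)⁻¹ ∈ (Cfsg.Agent.Lib.Helper37.qdBlock p).ker :=
      hVn.conj_mem _ (hMV r (hR.1 hr)) _
    have hcomm := qdKer_comm (qdTr_mem_ker v) hw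
    calc qdTr p v * qdLin p s * φ' r * (qdTr p v * qdLin p s)⁻¹
        = (qdTr p v * (qdLin p s * φ' r * (qdLin p s)⁻¹)) * (qdTr p v)⁻¹ := by group
      _ = ((qdLin p s * φ' r * (qdLin p s)⁻¹) * qdTr p v) * (qdTr p v)⁻¹ := by rw [hcomm]
      _ = qdLin p s * φ' r * (qdLin p s)⁻¹ := by group
  have hE₂ : ∀ c ∈ Subgroup.centralizer (R : Set G), Act c 1 := by
    intro c hc r hr
    rw [conj_eq_of_mem_centralizer hc hr, map_one]
    group
  have hN₀C : K₀ ⊓ Subgroup.normalizer (R : Set G) ≤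
      Subgroup.normalizer ((Subgroup.centralizer (R : Set G) : Subgroup G) : Set G) :=
    fun n hn => mem_normalizer_iff_cj.2 (by
      rw [cj_centralizer, mem_normalizer_iff_cj.1 (Subgroup.mem_inf.1 hn).2])
  have hE : ∀ h ∈ (K₀ ⊓ Subgroup.normalizer (R : Set G)) ⊔ Subgroup.centralizer (R : Set G),
      ∃ s, Act h s := by
    intro h hh
    obtain ⟨n, hn, c, hc, rfl⟩ := exists_mul_of_mem_sup hN₀C hh
    exact ⟨_, hM n c _ _ (hE₁ n hn) (hE₂ c hc) (Subgroup.centralizer_le_normalizer _ hc)⟩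
  have hHN : (K₀ ⊓ Subgroup.normalizer (R : Set G)) ⊔ Subgroup.centralizer (R : Set G) ≤
      Subgroup.normalizer (R : Set G) :=
    sup_le inf_le_right (Subgroup.centralizer_le_normalizer _)
  let ψ : ↥((K₀ ⊓ Subgroup.normalizer (R : Set G)) ⊔ Subgroup.centralizer (R : Set G)) →*
      Matrix.SpecialLinearGroup (Fin 2) (ZMod p) :=
    MonoidHom.mk' (fun h => Classical.choose (hE h.1 h.2)) (by
      intro a b
      apply hU ((a : G) * (b : G))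
      · exact Classical.choose_spec (hE (a * b).1 (a * b).2)
      · exact hM _ _ _ _ (Classical.choose_spec (hE a.1 a.2)) (Classical.choose_spec (hE b.1 b.2))
          (hHN b.2))
  have hψ : ∀ (h : ↥((K₀ ⊓ Subgroup.normalizer (R : Set G)) ⊔ Subgroup.centralizer (R : Set G))),
      Act (h : G) (ψ h) := fun h => Classical.choose_spec (hE h.1 h.2)
  have hψsurj : Function.Surjective ψ := by
    intro s
    obtain ⟨g, hg, eg⟩ := φ'_surj (qdLin p s)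
    obtain ⟨x, hx, hxg⟩ := hfr g hg
    have hn : x * g ∈ K₀ ⊓ Subgroup.normalizer (R : Set G) :=
      Subgroup.mem_inf.2 ⟨mul_mem (hMK hx) hg, hxg⟩
    refine ⟨⟨x * g, Subgroup.mem_sup_left hn⟩, ?_⟩
    apply hU (x * g) _ _ (hψ ⟨x * g, Subgroup.mem_sup_left hn⟩)
    have h1 := hE₁ _ hn
    have h2 : qdSL p (φ' (x * g)) = s := by
      rw [φ'_mul x g (hMK hx) hg, eg, map_mul, qdSL_eq_one_of_mem_ker (hMV x hx), one_mul,
        qdSL_qdLin]
    rwa [h2] at h1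
  have hR' : ((ψ.ker.map ((K₀ ⊓ Subgroup.normalizer (R : Set G)) ⊔
      Subgroup.centralizer (R : Set G)).subtype).subgroupOf
      ((K₀ ⊓ Subgroup.normalizer (R : Set G)) ⊔ Subgroup.centralizer (R : Set G))) = ψ.ker :=
    Subgroup.comap_map_eq_self_of_injective (Subgroup.subtype_injective _) _
  have hn : ((ψ.ker.map ((K₀ ⊓ Subgroup.normalizer (R : Set G)) ⊔
      Subgroup.centralizer (R : Set G)).subtype).subgroupOf
      ((K₀ ⊓ Subgroup.normalizer (R : Set G)) ⊔ Subgroup.centralizer (R : Set G))).Normal := by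
    rw [hR']; infer_instance
  refine ⟨R, hR.2.1, (K₀ ⊓ Subgroup.normalizer (R : Set G)) ⊔ Subgroup.centralizer (R : Set G),
    ψ.ker.map ((K₀ ⊓ Subgroup.normalizer (R : Set G)) ⊔
      Subgroup.centralizer (R : Set G)).subtype, hn, ?_, Subgroup.map_subtype_le _, hHN, ⟨?_⟩⟩
  · intro c hc
    refine ⟨⟨c, Subgroup.mem_sup_right hc⟩, ?_, rfl⟩
    rw [SetLike.mem_coe, MonoidHom.mem_ker]
    exact hU c _ _ (hψ ⟨c, Subgroup.mem_sup_right hc⟩) (hE₂ c hc)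
  · exact (QuotientGroup.quotientMulEquivOfEq hR').trans
      (QuotientGroup.quotientKerEquivOfSurjective ψ hψsurj)

end Cfsg.Agent.Lib.Helper51
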