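import Mathlib
import Cfsg.Agent.Lib.Helper51.CRLarger
import Cfsg.Agent.Lib.Helper51.QdAut

/-!
# The least centric radical subgroup controls strong fusion (`SL₂(p)`-free automisers)
-/

set_option autoImplicit false

universe u

namespace Cfsg.Agent.Lib.Helper51

open Cfsg Cfsg.Agent.Lib.Helper33

theorem SCtl.mono {X : Type*} [Group X] {M M₂ S : Subgroup X} (h : SCtl M S) (hM : M ≤ M₂) :
    SCtl M₂ S := by
  intro A g hA hgA
  obtain ⟨x, hx, e⟩ := h A g hA hgA
  exact ⟨x, hM hx, e⟩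

theorem sctl_top (X : Type*) [Group X] (S : Subgroup X) : SCtl (⊤ : Subgroup X) S :=
  fun _ g _ _ => ⟨g, Subgroup.mem_top g, fun _ _ => rfl⟩

/-- Control of strong fusion in two steps: first by `N`, then by `M'` inside `N`. -/
theorem sctl_of_subgroup {G : Type*} [Group G] {N P : Subgroup G} (hPN : P ≤ N) (hN : SCtl N P)
    {M' : Subgroup ↥N} (h' : SCtl M' (P.subgroupOf N)) : SCtl (M'.map N.subtype) P := by
  intro A g hA hgA
  obtain ⟨n, hn, en⟩ := hN A g hA hgA
  have hA' : N.subtype ⁻¹' A ⊆ ((P.subgroupOf N : Subgroup ↥N) : Set ↥N) := by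
    intro a ha
    exact Subgroup.mem_subgroupOf.2 (hA ha)
  have hgA' : lconj (⟨n, hn⟩ : ↥N) (N.subtype ⁻¹' A) ⊆
      ((P.subgroupOf N : Subgroup ↥N) : Set ↥N) := by
    rintro _ ⟨a, ha, rfl⟩
    rw [SetLike.mem_coe, Subgroup.mem_subgroupOf]
    have e : (((⟨n, hn⟩ : ↥N) * a * (⟨n, hn⟩ : ↥N)⁻¹ : ↥N) : G) = g * (a : G) * g⁻¹ :=
      en (a : G) ha
    rw [e]
    exact hgA ⟨(a : G), ha, rfl⟩
  obtain ⟨x, hx, ex⟩ := h' _ _ hA' hgA'
  refine ⟨(x : G), ⟨x, hx, rfl⟩, ?_⟩
  intro a ha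
  have haN : a ∈ N := hPN (hA ha)
  have := congrArg Subtype.val (ex ⟨a, haN⟩ ha)
  exact this.trans (en a ha)

theorem sylIn_subgroupOf_top {G : Type*} [Group G] {p : ℕ} {P N : Subgroup G}
    (h : SylIn p P N) : SylIn p (P.subgroupOf N) ⊤ :=
  ⟨le_top, h.2.1.comap_subtype, by rw [Subgroup.relIndex_top_right]; exact h.2.2⟩

/-- The family of normal subgroups of `P` whose normalisers control strong fusion in `P`. -/
def CN {G : Type*} [Group G] (P Q : Subgroup G) : Prop :=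
  Q ≤ P ∧ P ≤ Subgroup.normalizer (Q : Set G) ∧ SCtl (Subgroup.normalizer (Q : Set G)) P

variable {p : ℕ} [Fact p.Prime]

theorem cn_larger_of_not_centric (hp : p ≠ 2) {G : Type u} [Group G] [Finite G]
    (hqd : ¬ Cfsg.Involves ↥(Cfsg.qd p) G) {P Q : Subgroup G} (hS : SylIn p P ⊤)
    (hQ : CN P Q) (hnc : ¬ P ⊓ Subgroup.centralizer (Q : Set G) ≤ Q) :
    ∃ Q₂ : Subgroup G, CN P Q₂ ∧ Nat.card Q < Nat.card Q₂ := by
  obtain ⟨hQP, hPQ, hctl⟩ := hQ
  have hSN : SylIn p P (Subgroup.normalizer (Q : Set G)) := hS.of_le hPQ le_top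
  have hS' := sylIn_subgroupOf_top hSN
  have hQn : (Q.subgroupOf (Subgroup.normalizer (Q : Set G))).Normal :=
    Subgroup.normal_in_normalizer
  have hqd' : ¬ Cfsg.Involves ↥(Cfsg.qd p) ↥(Subgroup.normalizer (Q : Set G)) :=
    fun h => hqd (Cfsg.Agent.Lib.Helper34.involves_of_subgroup _ h)
  have hQS' : Q.subgroupOf (Subgroup.normalizer (Q : Set G)) ≤
      P.subgroupOf (Subgroup.normalizer (Q : Set G)) := fun x hx => hQP hx
  have hnc' : ¬ P.subgroupOf (Subgroup.normalizer (Q : Set G)) ⊓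
      Subgroup.centralizer ((Q.subgroupOf (Subgroup.normalizer (Q : Set G)) :
        Subgroup ↥(Subgroup.normalizer (Q : Set G))) : Set ↥(Subgroup.normalizer (Q : Set G))) ≤
      Q.subgroupOf (Subgroup.normalizer (Q : Set G)) := by
    intro h
    apply hnc
    intro x hx
    have hxN : x ∈ Subgroup.normalizer (Q : Set G) := hPQ (Subgroup.mem_inf.1 hx).1
    have h1 : (⟨x, hxN⟩ : ↥(Subgroup.normalizer (Q : Set G))) ∈
        P.subgroupOf (Subgroup.normalizer (Q : Set G)) ⊓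
        Subgroup.centralizer ((Q.subgroupOf (Subgroup.normalizer (Q : Set G)) :
          Subgroup ↥(Subgroup.normalizer (Q : Set G))) :
            Set ↥(Subgroup.normalizer (Q : Set G))) := by
      refine Subgroup.mem_inf.2 ⟨Subgroup.mem_subgroupOf.2 (Subgroup.mem_inf.1 hx).1, ?_⟩
      rw [Subgroup.mem_centralizer_iff]
      intro q hq
      apply Subtype.ext
      exact Subgroup.mem_centralizer_iff.1 (Subgroup.mem_inf.1 hx).2 (q : G)
        (Subgroup.mem_subgroupOf.1 hq)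
    exact Subgroup.mem_subgroupOf.1 (h h1)
  obtain ⟨Q₂', h1, h2, h3, h4, h5⟩ := exists_larger_of_not_centric hp hqd' hS' hQn hQS' hnc'
  refine ⟨Q₂'.map (Subgroup.normalizer (Q : Set G)).subtype, ⟨?_, ?_, ?_⟩, ?_⟩
  · rintro _ ⟨x, hx, rfl⟩
    exact Subgroup.mem_subgroupOf.1 (h2 hx)
  · intro x hx
    exact Subgroup.le_normalizer_map (Subgroup.normalizer (Q : Set G)).subtype
      ⟨⟨x, hPQ hx⟩, h3 (Subgroup.mem_subgroupOf.2 hx), rfl⟩
  · exact (sctl_of_subgroup hPQ hctl h5).mono (Subgroup.le_normalizer_map _)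
  · rw [Subgroup.card_map_of_injective (Subgroup.subtype_injective _)]
    have e : Nat.card ↥(Q.subgroupOf (Subgroup.normalizer (Q : Set G))) = Nat.card ↥Q :=
      Nat.card_congr (Subgroup.subgroupOfEquivOfLe Subgroup.le_normalizer).toEquiv
    rw [← e]
    exact h4

theorem normalizer_le_normalizer_centralizer' {G : Type*} [Group G] (Q : Subgroup G) :
    Subgroup.normalizer (Q : Set G) ≤
      Subgroup.normalizer ((Subgroup.centralizer (Q : Set G) : Subgroup G) : Set G) :=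
  fun n hn => mem_normalizer_iff_cj.2 (by rw [cj_centralizer, mem_normalizer_iff_cj.1 hn])

theorem cn_larger_of_not_radical {G : Type u} [Group G] [Finite G]
    {P Q : Subgroup G} (hS : SylIn p P ⊤)
    (hQ : CN P Q) (hcen : P ⊓ Subgroup.centralizer (Q : Set G) ≤ Q) {X₀ : Subgroup G}
    (hX₀N : X₀ ≤ Subgroup.normalizer (Q : Set G))
    (hinv : ∀ n ∈ Subgroup.normalizer (Q : Set G), cj n X₀ = X₀)
    (hle : Q ⊔ Subgroup.centralizer (Q : Set G) ≤ X₀)
    (hidx : ∃ k : ℕ, (Q ⊔ Subgroup.centralizer (Q : Set G)).relIndex X₀ = p ^ k)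
    (hne : X₀ ≠ Q ⊔ Subgroup.centralizer (Q : Set G)) :
    ∃ D : Subgroup G, CN P D ∧ Nat.card Q < Nat.card D := by
  obtain ⟨hQP, hPQ, hctl⟩ := hQ
  have hSN : SylIn p P (Subgroup.normalizer (Q : Set G)) := hS.of_le hPQ le_top
  have hS' := sylIn_subgroupOf_top hSN
  have hCN : Subgroup.centralizer (Q : Set G) ≤ Subgroup.normalizer (Q : Set G) :=
    Subgroup.centralizer_le_normalizer _
  have hQCinv : ∀ n ∈ Subgroup.normalizer (Q : Set G),
      cj n (Q ⊔ Subgroup.centralizer (Q : Set G)) = Q ⊔ Subgroup.centralizer (Q : Set G) := by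
    intro n hn
    have e : cj n (Q ⊔ Subgroup.centralizer (Q : Set G)) =
        cj n Q ⊔ cj n (Subgroup.centralizer (Q : Set G)) := Subgroup.map_sup _ _ _
    rw [e, cj_centralizer, mem_normalizer_iff_cj.1 hn]
  -- the Sylow subgroup `D = P ∩ X₀` of `X₀`
  have hD : SylIn p (P ⊓ X₀) X₀ := hSN.inf_normal hX₀N hinv
  have hQD : Q ≤ P ⊓ X₀ := le_inf hQP (le_sup_left.trans hle)
  have hPD : P ≤ Subgroup.normalizer ((P ⊓ X₀ : Subgroup G) : Set G) := by
    intro x hx
    rw [mem_normalizer_iff_cj, cj_inf, cj_eq_self_of_mem hx, hinv x (hPQ hx)]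
  -- `X₀ / Q C(Q)` is a `p`-group
  have hpq : ∀ x ∈ X₀, ∃ k : ℕ, x ^ (p ^ k) ∈ Q ⊔ Subgroup.centralizer (Q : Set G) := by
    obtain ⟨k, hk⟩ := hidx
    intro x hx
    refine ⟨k, ?_⟩
    have hn : ((Q ⊔ Subgroup.centralizer (Q : Set G)).subgroupOf X₀).Normal := by
      refine ⟨fun a ha g => ?_⟩
      rw [Subgroup.mem_subgroupOf] at ha ⊢
      have h1 : (g : G) * a * (g : G)⁻¹ ∈ cj (g : G) (Q ⊔ Subgroup.centralizer (Q : Set G)) :=
        conj_mem_cj ha
      rw [hQCinv g (hX₀N g.2)] at h1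
      exact h1
    have h2 := Subgroup.pow_index_mem ((Q ⊔ Subgroup.centralizer (Q : Set G)).subgroupOf X₀)
      (⟨x, hx⟩ : ↥X₀)
    have h3 : ((Q ⊔ Subgroup.centralizer (Q : Set G)).subgroupOf X₀).index = p ^ k := hk
    rw [h3, Subgroup.mem_subgroupOf] at h2
    exact h2
  have hmul := exists_mul_of_pquotient hD (fun n hn => hQCinv n (hX₀N hn)) hpq
  have hsplit : ∀ x ∈ X₀, ∃ t ∈ P ⊓ X₀, ∃ c ∈ Subgroup.centralizer (Q : Set G), x = t * c := by
    intro x hx
    obtain ⟨t, ht, y, hy, rfl⟩ := hmul x hx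
    obtain ⟨q, hq, c, hc, rfl⟩ := exists_mul_of_mem_sup
      (Subgroup.le_normalizer.trans (normalizer_le_normalizer_centralizer' Q)) hy
    exact ⟨t * q, mul_mem ht (hQD hq), c, hc, by group⟩
  have hlt : Nat.card Q < Nat.card ↥(P ⊓ X₀) := by
    apply card_lt_of_lt
    refine lt_of_le_of_ne hQD (fun heq => hne (le_antisymm ?_ hle))
    intro x hx
    obtain ⟨t, ht, c, hc, rfl⟩ := hsplit x hx
    rw [← heq] at ht
    exact mul_mem (Subgroup.mem_sup_left ht) (Subgroup.mem_sup_right hc)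
  -- Frattini argument
  have hfr : ∀ g ∈ Subgroup.normalizer (Q : Set G), ∃ c ∈ Subgroup.centralizer (Q : Set G),
      c * g ∈ Subgroup.normalizer ((P ⊓ X₀ : Subgroup G) : Set G) := by
    intro g hg
    have h1 := hD.conj g
    rw [hinv g hg] at h1
    obtain ⟨k, hk, hkD⟩ := hD.exists_cj_eq h1
    obtain ⟨t, ht, c, hc, rfl⟩ := hsplit k hk
    refine ⟨c, hc, mem_normalizer_iff_cj.2 ?_⟩
    have e : c * g = t⁻¹ * (t * c * g) := by group
    rw [e, cj_mul, cj_mul, hkD]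
    exact cj_eq_self_of_mem (inv_mem ht)
  -- control in the normaliser of `Q`
  have hDN : P ⊓ X₀ ≤ Subgroup.normalizer (Q : Set G) := inf_le_right.trans hX₀N
  have hQn : (Q.subgroupOf (Subgroup.normalizer (Q : Set G))).Normal :=
    Subgroup.normal_in_normalizer
  have hcen' : P.subgroupOf (Subgroup.normalizer (Q : Set G)) ⊓
      Subgroup.centralizer ((Q.subgroupOf (Subgroup.normalizer (Q : Set G)) :
        Subgroup ↥(Subgroup.normalizer (Q : Set G))) : Set ↥(Subgroup.normalizer (Q : Set G))) ≤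
      Q.subgroupOf (Subgroup.normalizer (Q : Set G)) := by
    intro x hx
    rw [Subgroup.mem_subgroupOf]
    apply hcen
    refine Subgroup.mem_inf.2 ⟨Subgroup.mem_subgroupOf.1 (Subgroup.mem_inf.1 hx).1, ?_⟩
    rw [Subgroup.mem_centralizer_iff]
    intro q hq
    have := Subgroup.mem_centralizer_iff.1 (Subgroup.mem_inf.1 hx).2
      (⟨q, Subgroup.le_normalizer hq⟩ : ↥(Subgroup.normalizer (Q : Set G)))
      (Subgroup.mem_subgroupOf.2 hq)
    exact congrArg Subtype.val this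
  have hfr' : ∀ g : ↥(Subgroup.normalizer (Q : Set G)),
      ∃ c ∈ Subgroup.centralizer ((Q.subgroupOf (Subgroup.normalizer (Q : Set G)) :
        Subgroup ↥(Subgroup.normalizer (Q : Set G))) : Set ↥(Subgroup.normalizer (Q : Set G))),
      c * g ∈ Subgroup.normalizer ((((P ⊓ X₀).subgroupOf (Subgroup.normalizer (Q : Set G))) :
        Subgroup ↥(Subgroup.normalizer (Q : Set G))) :
          Set ↥(Subgroup.normalizer (Q : Set G))) := by
    intro g
    obtain ⟨c, hc, hcg⟩ := hfr g g.2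
    refine ⟨⟨c, hCN hc⟩, ?_, ?_⟩
    · rw [Subgroup.mem_centralizer_iff]
      intro q hq
      apply Subtype.ext
      exact Subgroup.mem_centralizer_iff.1 hc (q : G) (Subgroup.mem_subgroupOf.1 hq)
    · rw [Subgroup.mem_normalizer_iff]
      intro h
      rw [Subgroup.mem_subgroupOf, Subgroup.mem_subgroupOf]
      exact (Subgroup.mem_normalizer_iff.1 hcg (h : G))
  have hctl' := sctl_radical hS' hQn hcen'
    (fun x hx => hQD hx : Q.subgroupOf (Subgroup.normalizer (Q : Set G)) ≤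
      (P ⊓ X₀).subgroupOf (Subgroup.normalizer (Q : Set G)))
    (fun x hx => (inf_le_left : P ⊓ X₀ ≤ P) hx :
      (P ⊓ X₀).subgroupOf (Subgroup.normalizer (Q : Set G)) ≤
        P.subgroupOf (Subgroup.normalizer (Q : Set G)))
    (by
      intro x hx
      rw [Subgroup.mem_normalizer_iff]
      intro h
      rw [Subgroup.mem_subgroupOf, Subgroup.mem_subgroupOf]
      exact (Subgroup.mem_normalizer_iff.1 (hPD (Subgroup.mem_subgroupOf.1 hx)) (h : G)))
    hfr'
  have hfin := (sctl_of_subgroup hPQ hctl hctl').mono (Subgroup.le_normalizer_map _)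
  rw [Subgroup.map_subgroupOf_eq_of_le hDN] at hfin
  exact ⟨P ⊓ X₀, ⟨inf_le_left, hPD, hfin⟩, hlt⟩

/-- **Main theorem.** In a `Qd(p)`-free group (`p` odd) with Sylow `p`-subgroup `P` there is a
normal centric radical subgroup `Q` of `P` whose normaliser controls strong fusion in `P`. -/
theorem exists_cn_centric_radical (hp : p ≠ 2) {G : Type u} [Group G] [Finite G]
    (hqd : ¬ Cfsg.Involves ↥(Cfsg.qd p) G) {P : Subgroup G} (hS : SylIn p P ⊤) :
    ∃ Q : Subgroup G, CN P Q ∧ P ⊓ Subgroup.centralizer (Q : Set G) ≤ Q ∧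
      ∀ X : Subgroup G, X ≤ Subgroup.normalizer (Q : Set G) →
        (∀ n ∈ Subgroup.normalizer (Q : Set G), cj n X = X) →
        Q ⊔ Subgroup.centralizer (Q : Set G) ≤ X →
        (∃ k : ℕ, (Q ⊔ Subgroup.centralizer (Q : Set G)).relIndex X = p ^ k) →
        X = Q ⊔ Subgroup.centralizer (Q : Set G) := by
  classical
  have hne : {Q : Subgroup G | CN P Q}.Nonempty := by
    refine ⟨⊥, bot_le, ?_, ?_⟩
    · intro x _
      rw [mem_normalizer_iff_cj]
      exact Subgroup.map_bot _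
    · have e : Subgroup.normalizer (((⊥ : Subgroup G) : Subgroup G) : Set G) = ⊤ := by
        rw [eq_top_iff]
        intro x _
        rw [mem_normalizer_iff_cj]
        exact Subgroup.map_bot _
      rw [e]
      exact sctl_top G P
  obtain ⟨Q, hQ, hmax⟩ := Set.Finite.exists_maximalFor (fun Q : Subgroup G => Nat.card Q)
    {Q : Subgroup G | CN P Q} (Set.toFinite _) hne
  have hQ' : CN P Q := hQ
  have hcen : P ⊓ Subgroup.centralizer (Q : Set G) ≤ Q := by
    by_contra hnc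
    obtain ⟨Q₂, hQ₂, hlt⟩ := cn_larger_of_not_centric hp hqd hS hQ' hnc
    exact absurd (hmax hQ₂ hlt.le) (not_le.2 hlt)
  refine ⟨Q, hQ', hcen, ?_⟩
  intro X hXN hinv hle hidx
  by_contra hneX
  obtain ⟨D, hD, hlt⟩ := cn_larger_of_not_radical hS hQ' hcen hXN hinv hle hidx hneX
  exact absurd (hmax hD hlt.le) (not_le.2 hlt)

/-- The statement-level form. -/
theorem cr_main {G : Type u} [Group G] [Finite G] {p : ℕ} [Fact p.Prime] (hp : p ≠ 2) (P : Sylow p G)
    (hfree : ∀ Q : Subgroup G, IsPGroup p ↥Q → ¬ ∃ (H K : Subgroup G) (_ : (K.subgroupOf H).Normal),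
      Subgroup.centralizer (Q : Set G) ≤ K ∧ K ≤ H ∧ H ≤ Subgroup.normalizer (Q : Set G) ∧
      Nonempty ((↥H ⧸ K.subgroupOf H) ≃* Matrix.SpecialLinearGroup (Fin 2) (ZMod p)))
    (cr : Subgroup G → Prop)
    (hcr : ∀ Q : Subgroup G, cr Q ↔ (Q ≤ (P : Subgroup G) ∧
      (∃ R : Sylow p ↥(Subgroup.centralizer (Q : Set G)),
        (R : Subgroup ↥(Subgroup.centralizer (Q : Set G))).map (Subgroup.centralizer (Q : Set G)).subtype = Q ⊓ Subgroup.centralizer (Q : Set G)) ∧
      ∀ X : Subgroup G, X ≤ Subgroup.normalizer (Q : Set G) →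
        (∀ n ∈ Subgroup.normalizer (Q : Set G), X.map (MulAut.conj n).toMonoidHom = X) →
        Q ⊔ Subgroup.centralizer (Q : Set G) ≤ X → (∃ k : ℕ, (Q ⊔ Subgroup.centralizer (Q : Set G)).relIndex X = p ^ k) →
        X = Q ⊔ Subgroup.centralizer (Q : Set G))) :
    ∃ Q : Subgroup G, cr Q ∧ (∀ R : Subgroup G, cr R → Q ≤ R) ∧ (∀ x ∈ (P : Subgroup G), Q.map (MulAut.conj x).toMonoidHom = Q) ∧
      ∀ A : Subgroup G, A ≤ (P : Subgroup G) → ∀ g : G, A.map (MulAut.conj g).toMonoidHom ≤ (P : Subgroup G) →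
        ∃ h ∈ Subgroup.normalizer (Q : Set G), ∃ c ∈ Subgroup.centralizer (A : Set G), g = h * c := by
  classical
  have hqd : ¬ Cfsg.Involves ↥(Cfsg.qd p) G := by
    intro h
    obtain ⟨R, hR, H, K, hn, h1, h2, h3, h4⟩ := exists_sl2_automizer_of_involves_qd h
    exact hfree R hR ⟨H, K, hn, h1, h2, h3, h4⟩
  have hS : SylIn p (P : Subgroup G) ⊤ := sylIn_top P
  obtain ⟨Q, ⟨hQP, hPQ, hctl⟩, hcen, hrad⟩ := exists_cn_centric_radical hp hqd hS
  have hSN : SylIn p (P : Subgroup G) (Subgroup.normalizer (Q : Set G)) := hS.of_le hPQ le_top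
  have hCsyl : SylIn p ((P : Subgroup G) ⊓ Subgroup.centralizer (Q : Set G))
      (Subgroup.centralizer (Q : Set G)) :=
    hSN.inf_normal (Subgroup.centralizer_le_normalizer _)
      (fun n hn => by rw [cj_centralizer, mem_normalizer_iff_cj.1 hn])
  have heq : (P : Subgroup G) ⊓ Subgroup.centralizer (Q : Set G) =
      Q ⊓ Subgroup.centralizer (Q : Set G) :=
    le_antisymm (le_inf hcen inf_le_right) (inf_le_inf_right _ hQP)
  rw [heq] at hCsyl
  refine ⟨Q, (hcr Q).2 ⟨hQP, ?_, ?_⟩, ?_, ?_, ?_⟩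
  · have hp' : IsPGroup p ((Q ⊓ Subgroup.centralizer (Q : Set G)).subgroupOf
        (Subgroup.centralizer (Q : Set G))) := hCsyl.2.1.comap_subtype
    have hidx : ¬ p ∣ ((Q ⊓ Subgroup.centralizer (Q : Set G)).subgroupOf
        (Subgroup.centralizer (Q : Set G))).index := hCsyl.2.2
    refine ⟨hp'.toSylow hidx, ?_⟩
    rw [IsPGroup.toSylow_coe]
    exact Subgroup.map_subgroupOf_eq_of_le inf_le_right
  · intro X hXN hinv hle hidx
    exact hrad X hXN hinv hle hidx
  · intro R hR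
    obtain ⟨hRP, ⟨R₀, hR₀⟩, hRrad⟩ := (hcr R).1 hR
    apply le_of_cr P.2 hQP hPQ hctl hRP ?_ hRrad
    refine ⟨inf_le_right, ?_, ?_⟩
    · rw [← hR₀]; exact R₀.2.map _
    · have e : (R ⊓ Subgroup.centralizer (R : Set G)).subgroupOf
          (Subgroup.centralizer (R : Set G)) = R₀ := by
        rw [← hR₀]
        exact Subgroup.comap_map_eq_self_of_injective (Subgroup.subtype_injective _) _
      show ¬ p ∣ ((R ⊓ Subgroup.centralizer (R : Set G)).subgroupOf
          (Subgroup.centralizer (R : Set G))).index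
      rw [e]
      exact R₀.not_dvd_index
  · intro x hx
    exact mem_normalizer_iff_cj.1 (hPQ hx)
  · intro A hA g hg
    obtain ⟨x, hx, ex⟩ := hctl (A : Set G) g hA (by
      rintro _ ⟨a, ha, rfl⟩
      exact hg (conj_mem_cj ha))
    refine ⟨x, hx, x⁻¹ * g, ?_, by group⟩
    apply mem_centralizer_of_conj_eq
    intro u hu
    have := ex u hu
    calc x⁻¹ * g * u * (x⁻¹ * g)⁻¹ = x⁻¹ * (g * u * g⁻¹) * x := by group
      _ = x⁻¹ * (x * u * x⁻¹) * x := by rw [this]
      _ = u := by group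

end Cfsg.Agent.Lib.Helper51
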