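import Mathlib
import Cfsg.Prelude.Def_PLocal
import Cfsg.Agent.S0649
import Cfsg.Agent.Lib.Helper11.Replacement
import Cfsg.Agent.Lib.Helper11.ReplFamily
import Cfsg.Agent.Lib.Helper50.LargeAbelian
import Cfsg.Agent.Lib.Helper51.ReplOdd
import Cfsg.Agent.Lib.Helper51.DStarZJ
import Cfsg.Agent.Lib.Helper51.CD

set_option autoImplicit false

namespace Cfsg.Agent.Lib.Helper51

open scoped commutatorElement

/-- The replacement subgroup `(A ∩ b⁻¹Ab)[A, b]` when `A` and `b⁻¹Ab` normalize each other and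
the commutators `[a, b]` commute: it is abelian and at least as large as `A`. -/
theorem starB_of_mutual {G : Type*} [Group G] [Finite G] (A : Subgroup G) (b : G)
    (hA : IsMulCommutative A)
    (hN1 : Helper11.conjB A b ≤ Subgroup.normalizer (A : Set G))
    (hN2 : A ≤ Subgroup.normalizer (Helper11.conjB A b : Set G))
    (hC : IsMulCommutative (Helper11.genC A b)) :
    IsMulCommutative (Helper11.starB A b) ∧ Nat.card A ≤ Nat.card (Helper11.starB A b) := by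
  have hAc : ∀ x ∈ A, ∀ y ∈ A, x * y = y * x := fun x hx y hy => setLike_mul_comm hx hy
  have hA'c : IsMulCommutative (Helper11.conjB A b) := by
    unfold Helper11.conjB
    infer_instance
  have hA'c' : ∀ x ∈ Helper11.conjB A b, ∀ y ∈ Helper11.conjB A b, x * y = y * x :=
    fun x hx y hy => setLike_mul_comm hx hy
  have hDc : IsMulCommutative ↥(A ⊓ Helper11.conjB A b) := by
    apply IsMulCommutative.of_setLike_mul_comm
    intro x hx y hy
    exact hAc x (Subgroup.mem_inf.mp hx).1 y (Subgroup.mem_inf.mp hy).1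
  have hxc : ∀ a ∈ A, b⁻¹ * a⁻¹ * b ∈ Helper11.conjB A b := by
    intro a ha
    rw [Helper11.mem_conjB]
    have e : b * (b⁻¹ * a⁻¹ * b) * b⁻¹ = a⁻¹ := by group
    rw [e]
    exact A.inv_mem ha
  have hDC : ∀ d ∈ A ⊓ Helper11.conjB A b, ∀ l ∈ Helper11.genC A b, d * l = l * d := by
    intro d hd
    have hle : Helper11.genC A b ≤ Subgroup.centralizer ({d} : Set G) := by
      unfold Helper11.genC
      rw [Subgroup.closure_le]
      rintro g ⟨a, ha, rfl⟩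
      rw [SetLike.mem_coe, Subgroup.mem_centralizer_iff]
      intro h hh
      rw [Set.mem_singleton_iff] at hh
      subst hh
      have e1 := hAc h (Subgroup.mem_inf.mp hd).1 a ha
      have e2 := hA'c' h (Subgroup.mem_inf.mp hd).2 _ (hxc a ha)
      calc h * (a * b⁻¹ * a⁻¹ * b) = (h * a) * (b⁻¹ * a⁻¹ * b) := by group
        _ = (a * h) * (b⁻¹ * a⁻¹ * b) := by rw [e1]
        _ = a * (h * (b⁻¹ * a⁻¹ * b)) := by group
        _ = a * ((b⁻¹ * a⁻¹ * b) * h) := by rw [e2]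
        _ = (a * b⁻¹ * a⁻¹ * b) * h := by group
    intro l hl
    exact Subgroup.mem_centralizer_iff.mp (hle hl) d (Set.mem_singleton d)
  refine ⟨isMulCommutative_sup_of_commute _ _ hDc hC hDC, ?_⟩
  refine card_le_of_coset_map A (Helper11.starB A b) (A ⊓ Helper11.conjB A b) le_sup_left
    (fun a => a * b⁻¹ * a⁻¹ * b) ?_ ?_
  · intro a ha
    exact (le_sup_right : Helper11.genC A b ≤ Helper11.starB A b)
      (Subgroup.subset_closure ⟨a, ha, rfl⟩)
  · intro a₁ ha₁ a₂ ha₂ hmem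
    have hu : a₁⁻¹ * a₂ ∈ A := mul_mem (inv_mem ha₁) ha₂
    have hy : b⁻¹ * a₁ * b ∈ Helper11.conjB A b := by
      rw [Helper11.mem_conjB]
      have e : b * (b⁻¹ * a₁ * b) * b⁻¹ = a₁ := by group
      rw [e]
      exact ha₁
    have hw1 : (b⁻¹ * a₁ * b) * (a₁⁻¹ * a₂) * (b⁻¹ * a₁ * b)⁻¹ ∈ A :=
      (Subgroup.mem_normalizer_iff.mp (hN1 hy) _).mp hu
    have hw2 : (a₁⁻¹ * a₂) * (b⁻¹ * a₁ * b)⁻¹ * (a₁⁻¹ * a₂)⁻¹ ∈ Helper11.conjB A b :=
      (Subgroup.mem_normalizer_iff.mp (hN2 hu) _).mp (inv_mem hy)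
    have hw : (b⁻¹ * a₁ * b) * (a₁⁻¹ * a₂) * (b⁻¹ * a₁ * b)⁻¹ * (a₁⁻¹ * a₂)⁻¹ ∈
        A ⊓ Helper11.conjB A b := by
      refine Subgroup.mem_inf.mpr ⟨mul_mem hw1 (inv_mem hu), ?_⟩
      have e : (b⁻¹ * a₁ * b) * (a₁⁻¹ * a₂) * (b⁻¹ * a₁ * b)⁻¹ * (a₁⁻¹ * a₂)⁻¹ =
          (b⁻¹ * a₁ * b) * ((a₁⁻¹ * a₂) * (b⁻¹ * a₁ * b)⁻¹ * (a₁⁻¹ * a₂)⁻¹) := by group
      rw [e]
      exact mul_mem hy hw2
    have hcomm : a₁⁻¹ * a₂⁻¹ * a₁ = a₂⁻¹ := by
      have h := hAc a₂⁻¹ (inv_mem ha₂) a₁ ha₁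
      rw [mul_assoc, h, ← mul_assoc, inv_mul_cancel, one_mul]
    have key : ((b⁻¹ * a₁ * b) * (a₁⁻¹ * a₂) * (b⁻¹ * a₁ * b)⁻¹ * (a₁⁻¹ * a₂)⁻¹) *
        ((a₁⁻¹ * a₂) * b⁻¹ * (a₁⁻¹ * a₂)⁻¹ * b) =
        (a₁ * b⁻¹ * a₁⁻¹ * b)⁻¹ * (a₂ * b⁻¹ * a₂⁻¹ * b) := by
      calc ((b⁻¹ * a₁ * b) * (a₁⁻¹ * a₂) * (b⁻¹ * a₁ * b)⁻¹ * (a₁⁻¹ * a₂)⁻¹) *
            ((a₁⁻¹ * a₂) * b⁻¹ * (a₁⁻¹ * a₂)⁻¹ * b)
          = b⁻¹ * a₁ * b * a₁⁻¹ * a₂ * b⁻¹ * (a₁⁻¹ * a₂⁻¹ * a₁) * b := by group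
        _ = b⁻¹ * a₁ * b * a₁⁻¹ * a₂ * b⁻¹ * a₂⁻¹ * b := by rw [hcomm]
        _ = (a₁ * b⁻¹ * a₁⁻¹ * b)⁻¹ * (a₂ * b⁻¹ * a₂⁻¹ * b) := by group
    have hcu : (a₁⁻¹ * a₂) * b⁻¹ * (a₁⁻¹ * a₂)⁻¹ * b ∈ A ⊓ Helper11.conjB A b := by
      have h1 : ((b⁻¹ * a₁ * b) * (a₁⁻¹ * a₂) * (b⁻¹ * a₁ * b)⁻¹ * (a₁⁻¹ * a₂)⁻¹) *
          ((a₁⁻¹ * a₂) * b⁻¹ * (a₁⁻¹ * a₂)⁻¹ * b) ∈ A ⊓ Helper11.conjB A b := by
        rw [key]
        exact hmem
      have h2 := mul_mem (inv_mem hw) h1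
      rwa [inv_mul_cancel_left] at h2
    have hu' : a₁⁻¹ * a₂ ∈ Helper11.conjB A b := by
      have h3 := mul_mem (Subgroup.mem_inf.mp hcu).2 (inv_mem (hxc _ hu))
      have e : (a₁⁻¹ * a₂) * b⁻¹ * (a₁⁻¹ * a₂)⁻¹ * b * (b⁻¹ * (a₁⁻¹ * a₂)⁻¹ * b)⁻¹ =
          a₁⁻¹ * a₂ := by group
      rwa [e] at h3
    exact Subgroup.mem_inf.mpr ⟨hu, hu'⟩

/-- The replacement subgroup meets `V` in a strictly larger subgroup. -/
theorem inf_lt_starB_inf {G : Type*} [Group G] [Finite G] (A V : Subgroup G) (b : G)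
    (hgen : Helper11.genC A b ≤ V) (hDV : A ⊓ V ≤ Helper11.conjB A b)
    (hb : b ∉ Subgroup.normalizer (A : Set G)) : A ⊓ V < Helper11.starB A b ⊓ V := by
  rw [lt_iff_le_not_ge]
  constructor
  · intro x hx
    exact Subgroup.mem_inf.mpr
      ⟨(le_sup_left : A ⊓ Helper11.conjB A b ≤ Helper11.starB A b)
        (Subgroup.mem_inf.mpr ⟨(Subgroup.mem_inf.mp hx).1, hDV hx⟩), (Subgroup.mem_inf.mp hx).2⟩
  · intro hle
    apply hb
    have hmap : conjSub b⁻¹ A ≤ A := by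
      intro y hy
      rw [mem_conjSub, inv_inv] at hy
      have hc : (b * y * b⁻¹)⁻¹ * b⁻¹ * (b * y * b⁻¹)⁻¹⁻¹ * b ∈ Helper11.genC A b :=
        Subgroup.subset_closure ⟨_, inv_mem hy, rfl⟩
      have hcA : (b * y * b⁻¹)⁻¹ * b⁻¹ * (b * y * b⁻¹)⁻¹⁻¹ * b ∈ A :=
        (Subgroup.mem_inf.mp (hle (Subgroup.mem_inf.mpr
          ⟨(le_sup_right : Helper11.genC A b ≤ Helper11.starB A b) hc, hgen hc⟩))).1
      have e : y = (b * y * b⁻¹) * ((b * y * b⁻¹)⁻¹ * b⁻¹ * (b * y * b⁻¹)⁻¹⁻¹ * b) := by group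
      rw [e]
      exact mul_mem hy hcA
    have heq : conjSub b⁻¹ A = A :=
      Subgroup.eq_of_le_of_card_ge hmap (by rw [card_conjSub])
    have h := mem_normalizer_of_conjSub_eq heq
    simpa using inv_mem h

/-- Gillam's theorem: in a metabelian `p`-group, the normal closure of an abelian subgroup of
largest order contains a normal abelian subgroup of the same order. -/
theorem gillam {S : Type*} [Group S] [Finite S] {p : ℕ} [Fact p.Prime]
    (hS : IsPGroup p S) (hmeta : IsMulCommutative ↥(commutator S))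
    (A : Subgroup S) (hA : A ∈ Cfsg.maxAbelianSubgroups S) :
    ∃ B ∈ Cfsg.maxAbelianSubgroups S, B.Normal ∧ B ≤ Subgroup.normalClosure (A : Set S) := by
  classical
  have hfin : Set.Finite {B : Subgroup S | B ∈ Cfsg.maxAbelianSubgroups S ∧
      B ≤ Subgroup.normalClosure (A : Set S)} := Set.toFinite _
  obtain ⟨B, ⟨hBmax, hBle⟩, hBbest⟩ := Set.exists_max_image _
    (fun B : Subgroup S => Nat.card ↥(B ⊓ commutator S)) hfin
    ⟨A, hA, Subgroup.le_normalClosure⟩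
  refine ⟨B, hBmax, ?_, hBle⟩
  have hBc : IsMulCommutative ↥B := hBmax.1
  have hBcc : ∀ x ∈ B, ∀ y ∈ B, x * y = y * x := fun x hx y hy => setLike_mul_comm hx hy
  have hVc : ∀ x ∈ commutator S, ∀ y ∈ commutator S, x * y = y * x :=
    fun x hx y hy => setLike_mul_comm hx hy
  have hcommV : ∀ x y : S, ⁅x, y⁆ ∈ commutator S := fun x y =>
    Subgroup.commutator_mem_commutator (Subgroup.mem_top x) (Subgroup.mem_top y)
  have hcontra : ∀ b : S, Helper11.starB B b ∈ Cfsg.maxAbelianSubgroups S →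
      B ⊓ commutator S < Helper11.starB B b ⊓ commutator S → False := by
    intro b h1 h2
    have h3 : Nat.card ↥(Helper11.starB B b ⊓ commutator S) ≤ Nat.card ↥(B ⊓ commutator S) :=
      hBbest (Helper11.starB B b) ⟨h1, Helper11.starB_le _ B hBle b⟩
    exact h2.ne (Subgroup.eq_of_le_of_card_ge h2.le h3)
  by_contra hBn
  by_cases hG' : commutator S ≤ Subgroup.normalizer (B : Set S)
  · -- the derived subgroup normalizes `B`
    have hex : ∃ x : S, x ∉ Subgroup.normalizer (B : Set S) := by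
      by_contra h
      apply hBn
      rw [← Subgroup.normalizer_eq_top_iff, eq_top_iff]
      intro x _
      by_contra hx
      exact h ⟨x, hx⟩
    obtain ⟨x, hx⟩ := hex
    have hgenV : Helper11.genC B x ≤ commutator S := by
      unfold Helper11.genC
      rw [Subgroup.closure_le]
      rintro g ⟨a, ha, rfl⟩
      have h := hcommV a x⁻¹
      rw [commutatorElement_def, inv_inv] at h
      exact h
    have hC : IsMulCommutative (Helper11.genC B x) := by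
      apply IsMulCommutative.of_setLike_mul_comm
      intro l₁ h₁ l₂ h₂
      exact hVc l₁ (hgenV h₁) l₂ (hgenV h₂)
    have hN1 : Helper11.conjB B x ≤ Subgroup.normalizer (B : Set S) := by
      intro y hy
      rw [Helper11.mem_conjB] at hy
      have e : y = (x * y * x⁻¹) * ⁅(x * y * x⁻¹)⁻¹, x⁻¹⁆ := by
        rw [commutatorElement_def]
        group
      rw [e]
      exact mul_mem (Subgroup.le_normalizer hy) (hG' (hcommV _ _))
    have hV' : commutator S ≤ Subgroup.normalizer (Helper11.conjB B x : Set S) := by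
      have e : Subgroup.normalizer (Helper11.conjB B x : Set S) =
          (Subgroup.normalizer (B : Set S)).map (MulAut.conj x⁻¹).toMonoidHom :=
        (Subgroup.map_equiv_normalizer_eq B (MulAut.conj x⁻¹)).symm
      rw [e]
      intro g hg
      have hn : (commutator S).Normal := inferInstance
      refine ⟨x * g * x⁻¹, hG' (hn.conj_mem g hg x), ?_⟩
      simp [mul_assoc]
    have hN2 : B ≤ Subgroup.normalizer (Helper11.conjB B x : Set S) := by
      intro a ha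
      have h1 : x⁻¹ * a * x ∈ Helper11.conjB B x := by
        rw [Helper11.mem_conjB]
        have e : x * (x⁻¹ * a * x) * x⁻¹ = a := by group
        rw [e]
        exact ha
      have e : a = (x⁻¹ * a * x) * ⁅x⁻¹, a⁻¹⁆ := by
        rw [commutatorElement_def]
        group
      rw [e]
      exact mul_mem (Subgroup.le_normalizer h1) (hV' (hcommV _ _))
    have hDV : B ⊓ commutator S ≤ Helper11.conjB B x := by
      intro d hd
      obtain ⟨hdB, hdV⟩ := Subgroup.mem_inf.mp hd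
      rw [Helper11.mem_conjB, ← Helper50.centralizer_eq_of_mem_maxAbelian B hBmax,
        Subgroup.mem_centralizer_iff]
      intro a ha
      have h1 : (a * ⁅a⁻¹, x⁻¹⁆) * d = d * (a * ⁅a⁻¹, x⁻¹⁆) := by
        have e1 := hBcc a ha d hdB
        have e2 := hVc _ (hcommV a⁻¹ x⁻¹) d hdV
        rw [mul_assoc, e2, ← mul_assoc, e1, mul_assoc]
      calc a * (x * d * x⁻¹) = x * ((a * ⁅a⁻¹, x⁻¹⁆) * d) * x⁻¹ := by
            rw [commutatorElement_def]
            group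
        _ = x * (d * (a * ⁅a⁻¹, x⁻¹⁆)) * x⁻¹ := by rw [h1]
        _ = (x * d * x⁻¹) * a := by
            rw [commutatorElement_def]
            group
    obtain ⟨hcomm, hcard⟩ := starB_of_mutual B x hBc hN1 hN2 hC
    exact hcontra x ⟨hcomm, fun B' hB' => (hBmax.2 B' hB').trans hcard⟩
      (inf_lt_starB_inf B (commutator S) x hgenV hDV hx)
  · -- Thompson replacement with the derived subgroup
    have hBA : ⁅commutator S, commutator S⁆ ≤ B := by
      rw [Subgroup.commutator_self_eq_bot_iff.mpr hmeta]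
      exact bot_le
    obtain ⟨b, hb, hbN, hbA⟩ :=
      Cfsg.Agent.S0649.result hS (commutator S) (fun _ => hmeta) B hBc hBA hG'
    obtain ⟨r1, r2, r3, r4, r5⟩ :=
      Helper11.repl_main B (commutator S) b hS (fun _ => hmeta) hBc hBA hG' hb hbN hbA
    exact hcontra b ⟨r2, fun B' hB' => by rw [r1]; exact hBmax.2 B' hB'⟩ r4

end Cfsg.Agent.Lib.Helper51
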