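import Mathlib
import Cfsg.Prelude.Def_Solvable
import Cfsg.Prelude.Def_LocalEven
import Cfsg.Agent.Lib.Helper49.KStab
import Cfsg.Agent.Lib.Helper33.Sect4

/-!
# Inheritance of normalizer-form `p`-stability

`IsNormalizerPStable` passes to subgroups and to quotients by normal `p'`-subgroups.
-/

set_option autoImplicit false

universe u

namespace Cfsg.Agent.Lib.Helper51

open Cfsg Cfsg.Agent.Lib.Helper33

/-- Criterion for membership in `O_p(N(Q)/C(Q))`: `g` lies in a subgroup `E ≤ N(Q)` normalised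
by `N(Q)` all of whose elements have a `p`-power in `C(Q)`. -/
theorem mk_mem_pCore_of_stab {G : Type*} [Group G] {p : ℕ} (Q E : Subgroup G)
    (hEc : ∀ n ∈ Subgroup.normalizer (Q : Set G), ∀ x ∈ E, n * x * n⁻¹ ∈ E)
    (hEp : ∀ x ∈ E, ∃ k : ℕ, x ^ p ^ k ∈ Subgroup.centralizer (Q : Set G))
    (g : G) (hg : g ∈ Subgroup.normalizer (Q : Set G)) (hgE : g ∈ E) :
    (QuotientGroup.mk (s := (Subgroup.centralizer (Q : Set G)).subgroupOf
        (Subgroup.normalizer (Q : Set G))) (⟨g, hg⟩ : ↥(Subgroup.normalizer (Q : Set G)))) ∈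
      pCore p (↥(Subgroup.normalizer (Q : Set G)) ⧸
        (Subgroup.centralizer (Q : Set G)).subgroupOf (Subgroup.normalizer (Q : Set G))) := by
  set N := Subgroup.normalizer (Q : Set G) with hN
  set C := (Subgroup.centralizer (Q : Set G)).subgroupOf N with hC
  have hEn : (E.subgroupOf N).Normal := by
    refine ⟨fun x hx n => ?_⟩
    rw [Subgroup.mem_subgroupOf] at hx ⊢
    exact hEc n n.2 x hx
  have hsurj : Function.Surjective (QuotientGroup.mk' C) := QuotientGroup.mk'_surjective C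
  have hn : ((E.subgroupOf N).map (QuotientGroup.mk' C)).Normal := hEn.map _ hsurj
  have hp : IsPGroup p ((E.subgroupOf N).map (QuotientGroup.mk' C)) := by
    rintro ⟨_, x, hx, rfl⟩
    obtain ⟨k, hk⟩ := hEp x (Subgroup.mem_subgroupOf.1 hx)
    refine ⟨k, ?_⟩
    apply Subtype.ext
    show ((QuotientGroup.mk' C) x) ^ p ^ k = 1
    rw [← map_pow]
    apply (QuotientGroup.eq_one_iff _).2
    rw [hC, Subgroup.mem_subgroupOf]
    exact hk
  have hle : (E.subgroupOf N).map (QuotientGroup.mk' C) ≤ pCore p (↥N ⧸ C) := le_sSup ⟨hn, hp⟩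
  exact hle ⟨⟨g, hg⟩, Subgroup.mem_subgroupOf.2 hgE, rfl⟩

/-- Normalizer-form `p`-stability passes to subgroups. -/
theorem isNormalizerPStable_subgroup {G : Type u} [Group G] {p : ℕ}
    (hst : IsNormalizerPStable p G) (L : Subgroup G) : IsNormalizerPStable p ↥L := by
  intro Q hQ g hg hquad
  have hQ' : IsPGroup p (Q.map L.subtype) := hQ.map _
  obtain ⟨E, -, hEc, hEp, hEq⟩ := Cfsg.Agent.Lib.Helper49.exists_stab_subgroup hst
    (Q.map L.subtype) hQ'
  have hnorm : ∀ n : ↥L, n ∈ Subgroup.normalizer (Q : Set ↥L) →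
      (n : G) ∈ Subgroup.normalizer ((Q.map L.subtype : Subgroup G) : Set G) := by
    intro n hn
    exact Subgroup.le_normalizer_map L.subtype ⟨n, hn, rfl⟩
  have hquad' : ⁅⁅Q.map L.subtype, Subgroup.zpowers (g : G)⁆, Subgroup.zpowers (g : G)⁆ = ⊥ := by
    have e : Subgroup.zpowers (g : G) = (Subgroup.zpowers g).map L.subtype := by
      rw [MonoidHom.map_zpowers]; rfl
    rw [e, ← Subgroup.map_commutator, ← Subgroup.map_commutator, hquad, Subgroup.map_bot]
  have hgE : (g : G) ∈ E := hEq _ (hnorm g hg) hquad'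
  apply mk_mem_pCore_of_stab Q (E.comap L.subtype)
  · intro n hn x hx
    rw [Subgroup.mem_comap] at hx ⊢
    exact hEc _ (hnorm n hn) _ hx
  · intro x hx
    obtain ⟨k, hk⟩ := hEp _ (Subgroup.mem_comap.1 hx)
    refine ⟨k, ?_⟩
    rw [Subgroup.mem_centralizer_iff]
    intro q hq
    apply Subtype.ext
    have := Subgroup.mem_centralizer_iff.1 hk (q : G) ⟨q, hq, rfl⟩
    simpa using this
  · exact Subgroup.mem_comap.2 hgE

/-- Lifting an element of `N_{X/N}(Q N / N)` to `N_X(Q)`, for a `p`-subgroup `Q` and a normal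
`p'`-subgroup `N`. -/
theorem exists_lift_normalizer {X : Type*} [Group X] [Finite X] {p : ℕ} [Fact p.Prime]
    (N : Subgroup X) [hNn : N.Normal] (hN : (Nat.card N).Coprime p) {Q : Subgroup X}
    (hQ : IsPGroup p Q) (y : X ⧸ N)
    (hy : y ∈ Subgroup.normalizer
      ((Q.map (QuotientGroup.mk' N) : Subgroup (X ⧸ N)) : Set (X ⧸ N))) :
    ∃ g ∈ Subgroup.normalizer (Q : Set X), QuotientGroup.mk' N g = y := by
  obtain ⟨g₀, rfl⟩ := QuotientGroup.mk'_surjective N y
  have hsyl : SylIn p Q (Q ⊔ N) := sylIn_sup_coprime hQ hN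
  have hle : cj g₀ Q ≤ Q ⊔ N := by
    rintro _ ⟨q, hq, rfl⟩
    have h1 : (QuotientGroup.mk' N) (g₀ * q * g₀⁻¹) ∈ Q.map (QuotientGroup.mk' N) := by
      rw [map_mul, map_mul, map_inv]
      exact (Subgroup.mem_normalizer_iff.1 hy _).1 ⟨q, hq, rfl⟩
    have h2 : g₀ * q * g₀⁻¹ ∈ (Q.map (QuotientGroup.mk' N)).comap (QuotientGroup.mk' N) := h1
    rw [QuotientGroup.comap_map_mk', sup_comm] at h2
    simpa using h2
  obtain ⟨k, hk, hkQ⟩ := hsyl.exists_cj_le hle (isPGroup_cj hQ)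
  rw [← cj_mul] at hkQ
  have hkg : k * g₀ ∈ Subgroup.normalizer (Q : Set X) := by
    rw [mem_normalizer_iff_cj]
    exact eq_of_le_of_card_le hkQ (by rw [card_cj])
  obtain ⟨q, hq, n, hn, rfl⟩ := Subgroup.mem_sup_of_normal_right.1 hk
  refine ⟨n * g₀, ?_, ?_⟩
  · have e : n * g₀ = q⁻¹ * (q * n * g₀) := by group
    rw [e]
    exact mul_mem (inv_mem (Subgroup.le_normalizer hq)) hkg
  · have h1 : (QuotientGroup.mk' N) n = 1 := (QuotientGroup.eq_one_iff n).2 hn
    rw [map_mul, h1, one_mul]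

/-- Normalizer-form `p`-stability passes to quotients by normal `p'`-subgroups. -/
theorem isNormalizerPStable_quotient {X : Type u} [Group X] [Finite X] {p : ℕ} [Fact p.Prime]
    (hst : IsNormalizerPStable p X) (N : Subgroup X) [hNn : N.Normal]
    (hN : (Nat.card N).Coprime p) : IsNormalizerPStable p (X ⧸ N) := by
  intro Qb hQb gb hgb hquad
  obtain ⟨Q, hQsyl, -⟩ := exists_sylIn_ge (p := p) (H := Qb.comap (QuotientGroup.mk' N))
    (B := ⊥) bot_le IsPGroup.of_bot
  have hQp : IsPGroup p Q := hQsyl.2.1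
  have hmap : Q.map (QuotientGroup.mk' N) = Qb := by
    apply le_antisymm
    · rw [Subgroup.map_le_iff_le_comap]; exact hQsyl.1
    · intro y hy
      obtain ⟨x, rfl⟩ := QuotientGroup.mk'_surjective N y
      have hx : x ∈ Qb.comap (QuotientGroup.mk' N) := hy
      obtain ⟨t, ht, c, hc, rfl⟩ := exists_mul_of_pquotient hQsyl (K := N)
        (fun n _ => cj_eq_self_of_normal hNn n)
        (by
          intro z hz
          obtain ⟨k, hk⟩ := hQb ⟨_, hz⟩
          refine ⟨k, ?_⟩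
          apply (QuotientGroup.eq_one_iff _).1
          have h2 : ((QuotientGroup.mk' N) z) ^ p ^ k = 1 := by
            have := congrArg Subtype.val hk
            simpa using this
          show (QuotientGroup.mk' N) (z ^ p ^ k) = 1
          rw [map_pow]
          exact h2) x hx
      refine ⟨t, ht, ?_⟩
      have h1 : (QuotientGroup.mk' N) c = 1 := (QuotientGroup.eq_one_iff c).2 hc
      rw [map_mul, h1, mul_one]
  subst hmap
  obtain ⟨g, hg, rfl⟩ := exists_lift_normalizer N hN hQp gb hgb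
  have hquad' : ⁅⁅Q, Subgroup.zpowers g⁆, Subgroup.zpowers g⁆ = ⊥ := by
    have hz : Subgroup.zpowers g ≤ Subgroup.normalizer (Q : Set X) := by
      rw [Subgroup.zpowers_le]; exact hg
    have h0 : ⁅Q, Subgroup.zpowers g⁆ ≤ Q := by
      rw [Subgroup.commutator_comm]
      exact Cfsg.Agent.Lib.Helper49.commutator_le_of_le_normalizer hz
    have h1 : ⁅⁅Q, Subgroup.zpowers g⁆, Subgroup.zpowers g⁆ ≤ Q :=
      (Subgroup.commutator_mono h0 le_rfl).trans h0
    have h2 : ⁅⁅Q, Subgroup.zpowers g⁆, Subgroup.zpowers g⁆ ≤ N := by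
      have e : (⁅⁅Q, Subgroup.zpowers g⁆, Subgroup.zpowers g⁆).map (QuotientGroup.mk' N) = ⊥ := by
        rw [Subgroup.map_commutator, Subgroup.map_commutator, MonoidHom.map_zpowers]
        exact hquad
      rw [Subgroup.map_eq_bot_iff, QuotientGroup.ker_mk'] at e
      exact e
    have h3 := le_inf h1 h2
    rw [inf_eq_bot_of_pgroup_coprime hQp hN] at h3
    exact le_bot_iff.1 h3
  obtain ⟨E, -, hEc, hEp, hEq⟩ := Cfsg.Agent.Lib.Helper49.exists_stab_subgroup hst Q hQp
  have hgE : g ∈ E := hEq g hg hquad'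
  apply mk_mem_pCore_of_stab (Q.map (QuotientGroup.mk' N)) (E.map (QuotientGroup.mk' N))
  · intro n hn x hx
    obtain ⟨n₁, hn₁, rfl⟩ := exists_lift_normalizer N hN hQp n hn
    obtain ⟨x₁, hx₁, rfl⟩ := hx
    exact ⟨n₁ * x₁ * n₁⁻¹, hEc n₁ hn₁ x₁ hx₁, by simp⟩
  · intro x hx
    obtain ⟨x₁, hx₁, rfl⟩ := hx
    obtain ⟨k, hk⟩ := hEp x₁ hx₁
    refine ⟨k, ?_⟩
    rw [← map_pow, Subgroup.mem_centralizer_iff]
    rintro _ ⟨q, hq, rfl⟩
    have := Subgroup.mem_centralizer_iff.1 hk q hq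
    rw [← map_mul, ← map_mul, this]
  · exact ⟨g, hgE, rfl⟩

end Cfsg.Agent.Lib.Helper51
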