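import Mathlib
import Cfsg.Prelude.Def_ConjugacyFunctors
import Cfsg.Prelude.Def_TwoFusion
import Cfsg.Prelude.Def_PLocal
import Cfsg.Prelude.Def_Transfer
import Cfsg.Prelude.Def_LocalEven
import Cfsg.Prelude.Def_Local
import Cfsg.Agent.Lib.Helper51.SCFusion
import Cfsg.Agent.Lib.Helper51.SCZJ
import Cfsg.Agent.Lib.Helper51.NStab
import Cfsg.Agent.Lib.Helper49.PConstr
import Cfsg.Agent.Lib.Helper22.PComp

/-!
# Strongly closed `ZJ`-control of fusion in `p`-stable groups with `p`-constrained locals
-/

set_option autoImplicit false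

universe u

namespace Cfsg.Agent.Lib.Helper51

open Cfsg Cfsg.Agent.Lib.Helper33

variable {p : ℕ}

theorem sctl_of_normal {X : Type*} [Group X] {V S : Subgroup X} (hn : V.Normal) :
    SCtl (Subgroup.normalizer (V : Set X)) S := by
  intro A g _ _
  exact ⟨g, by rw [Subgroup.normalizer_eq_top_iff.2 hn]; trivial, fun _ _ => rfl⟩

/-- In a `p`-constrained group that is `p`-stable in the normalizer form, `p` odd, the
normalisers of `Z(J(D))` and `Ω₁(Z(J_e(D)))` control strong fusion, `D` strongly closed. -/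
theorem scp_of_constrained_stable [Fact p.Prime] (hp : p ≠ 2) {X : Type u} [Group X] [Finite X]
    (hcX : Cfsg.IsPConstrained p X) (hst : Cfsg.IsNormalizerPStable p X) :
    SCP p (fun (Q : Type u) (_ : Group Q) => zjA Q) X ∧
      SCP p (fun (Q : Type u) (_ : Group Q) => Cfsg.omegaCenterThompson p Q) X := by
  have hN := Cfsg.Agent.Lib.Helper22.card_pPrimeCore_coprime p X
  have hstq := isNormalizerPStable_quotient hst (Cfsg.pPrimeCore p X) hN
  have hcq := Cfsg.Agent.Lib.Helper49.charp_quotient_of_isPConstrained hcX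
  have hnorm : ∀ S D : Subgroup (X ⧸ Cfsg.pPrimeCore p X), SylIn p S ⊤ → IsStronglyClosed D S →
      (Cfsg.centerThompsonAOf D).Normal ∧ (Cfsg.omegaOne p (Cfsg.centerThompsonOf p D)).Normal := by
    intro S D hS hD
    let S₀ : Sylow p (X ⧸ Cfsg.pPrimeCore p X) := hS.2.1.toSylow
      (by have := hS.2.2; rwa [Subgroup.relIndex_top_right] at this)
    exact zj_strongly_closed hp S₀ D hD hstq hcq
  constructor
  · apply scp_of_quot (isCharPFunctor_zjA.{u} p) (Cfsg.pPrimeCore p X) hN
    intro S D hS hD
    have hn := (hnorm S D hS hD).1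
    rw [← inducedFunctor_zjA] at hn
    exact sctl_of_normal hn
  · apply scp_of_quot (isCharPFunctor_omegaCenterThompson.{u} p) (Cfsg.pPrimeCore p X) hN
    intro S D hS hD
    have hn := (hnorm S D hS hD).2
    rw [← inducedFunctor_omegaCenterThompson] at hn
    exact sctl_of_normal hn

/-- `S3080`. -/
theorem sc_zj_control_stable [Fact p.Prime] (hp : p ≠ 2) {G : Type u} [Group G] [Finite G]
    (S : Sylow p G) (D : Subgroup G) (hD : Cfsg.IsStronglyClosed D (S : Subgroup G))
    (hst : Cfsg.IsNormalizerPStable p G)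
    (hc : ∀ U : Subgroup G, U ≤ (S : Subgroup G) → U ≠ ⊥ →
      Cfsg.IsPConstrained p ↥(Subgroup.normalizer (U : Set G))) :
    SCtl (Subgroup.normalizer ((Cfsg.centerThompsonAOf D : Subgroup G) : Set G)) (S : Subgroup G) ∧
    SCtl (Subgroup.normalizer ((Cfsg.omegaOne p (Cfsg.centerThompsonOf p D) : Subgroup G) : Set G))
      (S : Subgroup G) := by
  have key : ∀ (Wf : ∀ (Q : Type u) [Group Q], Subgroup Q), IsCharPFunctor.{u} p Wf →
      (∀ (X : Type u) [Group X] [Finite X], Cfsg.IsPConstrained p X →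
        Cfsg.IsNormalizerPStable p X → SCP p Wf X) →
      SCtl (Subgroup.normalizer ((inducedFunctor (G := G) Wf D : Subgroup G) : Set G))
        (S : Subgroup G) := by
    intro Wf hWf hX
    by_cases hDbot : D = ⊥
    · apply sctl_of_normal
      have : inducedFunctor (G := G) Wf D = ⊥ := by
        apply le_bot_iff.1
        have h1 : inducedFunctor (G := G) Wf D ≤ D := Subgroup.map_subtype_le _
        exact h1.trans (le_of_eq hDbot)
      rw [this]; infer_instance
    · apply scp_local hWf (sylIn_top S) hD hDbot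
      intro T hT hTne hsyl
      exact scp_subgroup hWf (hX _ (hc T hT hTne) (isNormalizerPStable_subgroup hst _)) hsyl hD
  have h1 := key _ (isCharPFunctor_zjA.{u} p)
    (fun X _ _ h1 h2 => (scp_of_constrained_stable hp h1 h2).1)
  have h2 := key _ (isCharPFunctor_omegaCenterThompson.{u} p)
    (fun X _ _ h1 h2 => (scp_of_constrained_stable hp h1 h2).2)
  rw [inducedFunctor_zjA] at h1
  rw [inducedFunctor_omegaCenterThompson] at h2
  exact ⟨h1, h2⟩

end Cfsg.Agent.Lib.Helper51
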