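import Mathlib
import Cfsg.Prelude.Def_SylowChains
import Cfsg.Agent.Lib.Helper51.Basic

set_option autoImplicit false

namespace Cfsg.Agent.Lib.Helper51

open Relation
open scoped Pointwise

section Chains

variable {α : Type*} {r : α → α → Prop}

theorem reflTransGen_of_chain : ∀ (n : ℕ) (c : Fin (n + 1) → α),
    (∀ i : Fin n, r (c i.castSucc) (c i.succ)) → ReflTransGen r (c 0) (c (Fin.last n)) := by
  intro n
  induction n with
  | zero => intro c _; exact ReflTransGen.refl
  | succ n ih =>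
    intro c hc
    have h1 := ih (fun i => c i.castSucc) (fun i => hc i.castSucc)
    have h2 := hc (Fin.last n)
    exact ReflTransGen.tail h1 h2

theorem exists_chain_of_reflTransGen {a b : α} (h : ReflTransGen r a b) :
    ∃ (n : ℕ) (c : Fin (n + 1) → α), c 0 = a ∧ c (Fin.last n) = b ∧
      ∀ i : Fin n, r (c i.castSucc) (c i.succ) := by
  induction h with
  | refl => exact ⟨0, fun _ => a, rfl, rfl, fun i => i.elim0⟩
  | @tail b d _ hbd ih =>
    obtain ⟨n, c, h0, hl, hc⟩ := ih
    refine ⟨n + 1, Fin.snoc c d, ?_, ?_, ?_⟩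
    · have : (0 : Fin (n + 2)) = (0 : Fin (n + 1)).castSucc := rfl
      rw [this, Fin.snoc_castSucc]; exact h0
    · exact Fin.snoc_last (α := fun _ => α) _ _
    · intro i
      induction i using Fin.lastCases with
      | last =>
        rw [Fin.snoc_castSucc, Fin.succ_last, Fin.snoc_last (α := fun _ => α), hl]
        exact hbd
      | cast j =>
        rw [Fin.snoc_castSucc, ← Fin.castSucc_succ, Fin.snoc_castSucc]
        exact hc j

end Chains

variable {G : Type*} [Group G]

/-- Adjacency in the Sylow graph: distinct Sylow `p`-subgroups meeting nontrivially. -/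
def sylAdj (p : ℕ) (S T : Sylow p G) : Prop :=
  S ≠ T ∧ (S : Subgroup G) ⊓ (T : Subgroup G) ≠ ⊥

theorem sylAdj_symm {p : ℕ} {S T : Sylow p G} (h : sylAdj p S T) : sylAdj p T S :=
  ⟨h.1.symm, by rw [inf_comm]; exact h.2⟩

theorem sylConn_symm {p : ℕ} {S T : Sylow p G} (h : ReflTransGen (sylAdj p) S T) :
    ReflTransGen (sylAdj p) T S := by
  induction h with
  | refl => exact ReflTransGen.refl
  | tail _ hbd ih => exact ReflTransGen.head (sylAdj_symm hbd) ih

theorem sylow_mem_smul {p : ℕ} (g x : G) (P : Sylow p G) :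
    x ∈ (g • P : Sylow p G) ↔ g⁻¹ * x * g ∈ P := by
  have h1 : x ∈ (g • P : Sylow p G) ↔ x ∈ (MulAut.conj g • (P : Subgroup G)) := Iff.rfl
  rw [h1, Subgroup.mem_pointwise_smul_iff_inv_smul_mem]
  simp only [MulAut.smul_def, MulAut.conj_inv_apply]
  exact Iff.rfl

theorem sylAdj_smul {p : ℕ} (g : G) {S T : Sylow p G} (h : sylAdj p S T) :
    sylAdj p (g • S) (g • T) := by
  refine ⟨fun e => h.1 (MulAction.injective g e), ?_⟩
  intro hbot
  apply h.2
  rw [eq_bot_iff]
  intro x ⟨hxS, hxT⟩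
  have : g * x * g⁻¹ ∈ ((g • S : Sylow p G) : Subgroup G) ⊓ ((g • T : Sylow p G) : Subgroup G) := by
    constructor
    · show g * x * g⁻¹ ∈ (g • S : Sylow p G)
      rw [sylow_mem_smul]; simpa [mul_assoc] using hxS
    · show g * x * g⁻¹ ∈ (g • T : Sylow p G)
      rw [sylow_mem_smul]; simpa [mul_assoc] using hxT
  rw [hbot, Subgroup.mem_bot] at this
  rw [Subgroup.mem_bot]
  have h2 := congrArg (fun t => g⁻¹ * t * g) this
  simpa [mul_assoc] using h2

theorem sylConn_smul {p : ℕ} (g : G) {S T : Sylow p G} (h : ReflTransGen (sylAdj p) S T) :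
    ReflTransGen (sylAdj p) (g • S) (g • T) := by
  induction h with
  | refl => exact ReflTransGen.refl
  | tail _ hbd ih => exact ReflTransGen.tail ih (sylAdj_smul g hbd)

/-- Chain-connectedness of the Sylow `p`-subgroups is connectedness of the Sylow graph. -/
theorem isSylowChainConnected_iff (p : ℕ) :
    Cfsg.IsSylowChainConnected p G ↔ ∀ S T : Sylow p G, ReflTransGen (sylAdj p) S T := by
  constructor
  · intro h S T
    obtain ⟨n, c, h0, hl, _, hc⟩ := h S T
    have := reflTransGen_of_chain (r := sylAdj p) n c (fun i => hc i)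
    rwa [h0, hl] at this
  · intro h S T
    by_cases hST : S = T
    · subst hST
      exact ⟨0, fun _ => S, rfl, rfl, fun _ => inf_le_left, fun i => i.elim0⟩
    by_cases hbot : (S : Subgroup G) ⊓ (T : Subgroup G) = ⊥
    · obtain ⟨n, c, h0, hl, hc⟩ := exists_chain_of_reflTransGen (h S T)
      exact ⟨n, c, h0, hl, fun i => by rw [hbot]; exact bot_le, hc⟩
    · refine ⟨1, ![S, T], rfl, rfl, ?_, ?_⟩
      · intro i
        fin_cases i
        · exact inf_le_left
        · exact inf_le_right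
      · intro i
        fin_cases i
        exact ⟨hST, hbot⟩

section Embedded

variable [Finite G] {p : ℕ} [Fact p.Prime]

/-- If the Sylow graph is disconnected there is a classical strongly `p`-embedded subgroup,
containing a given Sylow subgroup `S₀` (any one from which some Sylow subgroup is unreachable). -/
theorem exists_spe_of_not_conn {S₀ T₀ : Sylow p G} (hn : ¬ ReflTransGen (sylAdj p) S₀ T₀) :
    ∃ H : Subgroup G, (S₀ : Subgroup G) ≤ H ∧ H ≠ ⊤ ∧ p ∣ Nat.card H ∧
      ∀ g : G, g ∉ H → ¬ p ∣ Nat.card ↥(H ⊓ H.map (MulAut.conj g).toMonoidHom) := by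
  classical
  let H : Subgroup G :=
    { carrier := {g | ReflTransGen (sylAdj p) S₀ (g • S₀)}
      one_mem' := by simp [ReflTransGen.refl]
      mul_mem' := by
        intro a b ha hb
        have h1 := sylConn_smul a hb
        rw [← mul_smul] at h1
        exact ReflTransGen.trans ha h1
      inv_mem' := by
        intro a ha
        have h1 := sylConn_smul a⁻¹ ha
        rw [inv_smul_smul] at h1
        exact sylConn_symm h1 }
  have hmemH : ∀ g : G, g ∈ H ↔ ReflTransGen (sylAdj p) S₀ (g • S₀) := fun g => Iff.rfl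
  have hS₀H : (S₀ : Subgroup G) ≤ H := by
    intro g hg
    rw [hmemH]
    have : g • S₀ = S₀ := Sylow.smul_eq_iff_mem_normalizer.mpr (Subgroup.le_normalizer hg)
    rw [this]
  have hHtop : H ≠ ⊤ := by
    intro htop
    obtain ⟨g, hg⟩ := MulAction.exists_smul_eq G S₀ T₀
    have : g ∈ H := by rw [htop]; trivial
    rw [hmemH, hg] at this
    exact hn this
  have hS₀ne : (S₀ : Subgroup G) ≠ ⊥ := by
    intro hbot
    obtain ⟨g, hg⟩ := MulAction.exists_smul_eq G S₀ T₀
    apply hn
    have : T₀ = S₀ := by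
      apply Sylow.ext
      rw [hbot, eq_bot_iff]
      intro x hx
      have hx' : x ∈ (g • S₀ : Sylow p G) := by rw [hg]; exact hx
      rw [sylow_mem_smul] at hx'
      have hx'' : g⁻¹ * x * g ∈ (S₀ : Subgroup G) := hx'
      rw [hbot, Subgroup.mem_bot] at hx''
      rw [Subgroup.mem_bot]
      have h2 := congrArg (fun t => g * t * g⁻¹) hx''
      simpa [mul_assoc] using h2
    rw [this]
  have hpS₀ : p ∣ Nat.card (S₀ : Subgroup G) := by
    rcases S₀.isPGroup'.card_eq_or_dvd with h1 | h1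
    · exact absurd (Subgroup.card_eq_one.mp h1) hS₀ne
    · exact h1
  refine ⟨H, hS₀H, hHtop, hpS₀.trans (Subgroup.card_dvd_of_le hS₀H), ?_⟩
  -- every `p`-subgroup of `H` lies in a Sylow subgroup reachable from `S₀`
  have key : ∀ Z : Subgroup G, IsPGroup p Z → Z ≤ H →
      ∃ S₁ : Sylow p G, Z ≤ (S₁ : Subgroup G) ∧ ReflTransGen (sylAdj p) S₀ S₁ := by
    intro Z hZ hZH
    obtain ⟨Q, hQ⟩ := (hZ.comap_subtype (K := H)).exists_le_sylow
    obtain ⟨h, hh⟩ := MulAction.exists_smul_eq H (S₀.subtype hS₀H) Q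
    rw [Sylow.smul_subtype] at hh
    refine ⟨(h : G) • S₀, ?_, (hmemH h).mp h.2⟩
    intro z hz
    have hz' : (⟨z, hZH hz⟩ : H) ∈ (Q : Subgroup H) :=
      hQ (show (⟨z, hZH hz⟩ : H) ∈ Subgroup.comap H.subtype Z from hz)
    rw [← hh] at hz'
    exact hz'
  intro g hg hdvd
  obtain ⟨x, hx⟩ := exists_prime_orderOf_dvd_card' (G := ↥(H ⊓ H.map (MulAut.conj g).toMonoidHom))
    p hdvd
  have hxord : orderOf (x : G) = p := by rw [Subgroup.orderOf_coe]; exact hx
  have hxH : (x : G) ∈ H := x.2.1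
  have hxHg : (x : G) ∈ H.map (MulAut.conj g).toMonoidHom := x.2.2
  have hZp : IsPGroup p (Subgroup.zpowers (x : G)) := by
    apply IsPGroup.of_card (n := 1)
    rw [Nat.card_zpowers, hxord, pow_one]
  obtain ⟨S₁, hZS₁, hc₁⟩ := key (Subgroup.zpowers (x : G)) hZp (Subgroup.zpowers_le.mpr hxH)
  -- the conjugate
  obtain ⟨y, hyH, hyx⟩ := hxHg
  have hyx' : g * y * g⁻¹ = (x : G) := by simpa [MulAut.conj_apply] using hyx
  have hyord : orderOf y = p := by
    rw [← hxord, ← hyx']
    have := orderOf_injective (MulAut.conj g).toMonoidHom (MulAut.conj g).injective y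
    simpa [MulAut.conj_apply] using this.symm
  have hZp' : IsPGroup p (Subgroup.zpowers y) := by
    apply IsPGroup.of_card (n := 1)
    rw [Nat.card_zpowers, hyord, pow_one]
  obtain ⟨S₂, hZS₂, hc₂⟩ := key (Subgroup.zpowers y) hZp' (Subgroup.zpowers_le.mpr hyH)
  have hxS₁ : (x : G) ∈ (S₁ : Subgroup G) := hZS₁ (Subgroup.mem_zpowers _)
  have hxS₂ : (x : G) ∈ ((g • S₂ : Sylow p G) : Subgroup G) := by
    show (x : G) ∈ (g • S₂ : Sylow p G)
    rw [sylow_mem_smul, ← hyx']
    have : g⁻¹ * (g * y * g⁻¹) * g = y := by group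
    rw [this]
    exact hZS₂ (Subgroup.mem_zpowers _)
  have hx1 : (x : G) ≠ 1 := by
    intro h1
    rw [h1, orderOf_one] at hxord
    exact (Fact.out : p.Prime).one_lt.ne' hxord.symm
  have hconn : ReflTransGen (sylAdj p) S₁ (g • S₂) := by
    by_cases he : S₁ = g • S₂
    · rw [he]
    · apply ReflTransGen.single
      refine ⟨he, ?_⟩
      intro hbot
      have : (x : G) ∈ (S₁ : Subgroup G) ⊓ ((g • S₂ : Sylow p G) : Subgroup G) := ⟨hxS₁, hxS₂⟩
      rw [hbot, Subgroup.mem_bot] at this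
      exact hx1 this
  apply hg
  rw [hmemH]
  exact ReflTransGen.trans (ReflTransGen.trans hc₁ hconn) (sylConn_symm (sylConn_smul g hc₂))

/-- A classical strongly `p`-embedded subgroup: Sylow subgroups adjacent to a Sylow subgroup
inside `H` are inside `H`. -/
theorem spe_le_of_sylAdj {H : Subgroup G}
    (hse : ∀ g : G, g ∉ H → ¬ p ∣ Nat.card ↥(H ⊓ H.map (MulAut.conj g).toMonoidHom))
    {S T : Sylow p G} (hadj : sylAdj p S T) (hS : (S : Subgroup G) ≤ H) :
    (T : Subgroup G) ≤ H := by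
  obtain ⟨g, hg⟩ := MulAction.exists_smul_eq G S T
  have hgH : g ∈ H := by
    by_contra hgH
    apply hse g hgH
    have hle : (S : Subgroup G) ⊓ (T : Subgroup G) ≤ H ⊓ H.map (MulAut.conj g).toMonoidHom := by
      intro z hz
      refine ⟨hS hz.1, g⁻¹ * z * g, ?_, ?_⟩
      · apply hS
        have hzT : z ∈ (g • S : Sylow p G) := by rw [hg]; exact hz.2
        rw [sylow_mem_smul] at hzT
        exact hzT
      · simp [MulAut.conj_apply, mul_assoc]
    have hp : IsPGroup p ↥((S : Subgroup G) ⊓ (T : Subgroup G)) := S.isPGroup'.to_le inf_le_left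
    rcases hp.card_eq_or_dvd with h1 | h1
    · exact absurd (Subgroup.card_eq_one.mp h1) hadj.2
    · exact h1.trans (Subgroup.card_dvd_of_le hle)
  intro t ht
  have htT : t ∈ (g • S : Sylow p G) := by rw [hg]; exact ht
  rw [sylow_mem_smul] at htT
  have h1 : g⁻¹ * t * g ∈ H := hS htT
  have h2 : g * (g⁻¹ * t * g) * g⁻¹ ∈ H := H.mul_mem (H.mul_mem hgH h1) (H.inv_mem hgH)
  have h3 : g * (g⁻¹ * t * g) * g⁻¹ = t := by group
  rwa [h3] at h2

theorem spe_le_of_sylConn {H : Subgroup G}
    (hse : ∀ g : G, g ∉ H → ¬ p ∣ Nat.card ↥(H ⊓ H.map (MulAut.conj g).toMonoidHom))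
    {S T : Sylow p G} (hc : ReflTransGen (sylAdj p) S T) (hS : (S : Subgroup G) ≤ H) :
    (T : Subgroup G) ≤ H := by
  induction hc with
  | refl => exact hS
  | tail _ hbd ih => exact spe_le_of_sylAdj hse hbd ih

/-- A classical strongly `p`-embedded subgroup forces the Sylow graph to be disconnected. -/
theorem not_conn_of_spe {H : Subgroup G} (hH : H ≠ ⊤) (hpH : p ∣ Nat.card H)
    (hse : ∀ g : G, g ∉ H → ¬ p ∣ Nat.card ↥(H ⊓ H.map (MulAut.conj g).toMonoidHom)) :
    ¬ ∀ S T : Sylow p G, ReflTransGen (sylAdj p) S T := by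
  intro hall
  obtain ⟨P, hPH⟩ := spe_exists_sylow_le hpH hse
  obtain ⟨g, hg⟩ : ∃ g : G, g ∉ H := by
    by_contra hcon
    exact hH (eq_top_iff.mpr fun x _ => by_contra fun hx => hcon ⟨x, hx⟩)
  have hgP : ((g • P : Sylow p G) : Subgroup G) ≤ H := spe_le_of_sylConn hse (hall P (g • P)) hPH
  have hg' : g⁻¹ ∉ H := fun h => hg (by simpa using H.inv_mem h)
  apply hse g⁻¹ hg'
  have hle : (P : Subgroup G) ≤ H ⊓ H.map (MulAut.conj g⁻¹).toMonoidHom := by
    intro z hz
    refine ⟨hPH hz, g * z * g⁻¹, ?_, ?_⟩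
    · apply hgP
      show g * z * g⁻¹ ∈ (g • P : Sylow p G)
      rw [sylow_mem_smul]
      have : g⁻¹ * (g * z * g⁻¹) * g = z := by group
      rw [this]; exact hz
    · simp [mul_assoc]
  have hpP : p ∣ Nat.card (P : Subgroup G) :=
    P.dvd_card_of_dvd_card (hpH.trans (Subgroup.card_subgroup_dvd_card H))
  exact hpP.trans (Subgroup.card_dvd_of_le hle)

end Embedded

end Cfsg.Agent.Lib.Helper51
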